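import Cfsg.Agent.SporRec.TwoNine.NineV

/-!
# Degree nine, the core of order 243: the final contradiction
-/

set_option autoImplicit false
set_option linter.unusedSectionVars false

namespace Cfsg.Agent.SporRec.TwoNine.NineW

open Equiv Equiv.Perm Subgroup Cfsg
open Cfsg.Agent.Lib
open Cfsg.Agent.SporRec.TwoNine.Cv Cfsg.Agent.SporRec.TwoNine.Perms
  Cfsg.Agent.SporRec.TwoNine.Lifts Cfsg.Agent.SporRec.TwoNine.Lifts.Data
  Cfsg.Agent.SporRec.TwoNine.Fuse Cfsg.Agent.SporRec.TwoNine.KCore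
  Cfsg.Agent.SporRec.TwoNine.NineF Cfsg.Agent.SporRec.TwoNine.NineX
  Cfsg.Agent.SporRec.TwoNine.NineU Cfsg.Agent.SporRec.TwoNine.NineV

variable {G : Type*} [Group G] [Finite G] (D : Data G 0)

/-- the centraliser of the plane -/
def N (e : ℕ) : Subgroup G := centralizer {D.r, D.a * D.c ^ e}

theorem mem_N {e : ℕ} {y : G} : y ∈ N D e ↔ Commute y D.r ∧ Commute y (D.a * D.c ^ e) := by
  rw [N, mem_centralizer_iff]
  constructor
  · intro h
    exact ⟨(h D.r (by simp)).symm, (h (D.a * D.c ^ e) (by simp)).symm⟩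
  · rintro ⟨h1, h2⟩ t (rfl | rfl)
    · exact h1.eq.symm
    · exact h2.eq.symm

theorem acz (e : ℕ) : Commute (D.a * D.c ^ e) D.z := D.az.mul_left (D.cz.pow_left e)

theorem acA (e : ℕ) : D.a * D.c ^ e ∈ D.A := mul_mem D.aA (pow_mem D.cA _)

theorem A_le_N (e : ℕ) : D.A ≤ N D e := fun _ hw =>
  (mem_N D).2 ⟨D.A_comm hw D.rA, D.A_comm hw (acA D e)⟩

theorem z_mem_N (e : ℕ) : D.z ∈ N D e := (mem_N D).2 ⟨D.rz.symm, (acz D e).symm⟩

theorem cent_N {e : ℕ} (he : e = 1 ∨ e = 2) {y : G} (hy : y ∈ N D e) (hz : Commute y D.z) :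
    y ∈ D.A ∨ y * D.z ∈ D.A :=
  mem_A_or_of_plane D he hz ((mem_N D).1 hy).1 ((mem_N D).1 hy).2

/-- its odd core -/
def Hc (e : ℕ) : Subgroup G := Gen.oc (N D e)

theorem Hc_le (e : ℕ) : Hc D e ≤ N D e := Gen.oc_le _

theorem Hc_conj {e : ℕ} {g : G} (hg : g ∈ N D e) {y : G} (hy : y ∈ Hc D e) :
    g * y * g⁻¹ ∈ Hc D e := Gen.oc_conj (le_normalizer hg) hy

theorem decomp_N {e : ℕ} (he : e = 1 ∨ e = 2) {g : G} (hg : g ∈ N D e) :
    ∃ k ∈ Hc D e, k * g ∈ D.A ∨ k * g * D.z ∈ D.A := by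
  have h1 := (Gen.unique_involution_sub (N := N D e) (z_mem_N D e) D.zz D.z_ne_one
    (fun t ht htt ht1 htz => eq_z_of_involution D (cent_N D he ht htz) htz htt ht1)).2 g hg
  obtain ⟨k, hk, hkz⟩ := Gen.exists_fixed (Gen.odd_card_oc _) D.zz h1
  exact ⟨k, hk, cent_N D he (mul_mem (Hc_le D e hk) hg) hkz⟩

theorem odd_Hc {e : ℕ} {y : G} (hy : y ∈ Hc D e) : Odd (orderOf y) :=
  Gen.orderOf_odd_of_mem (Gen.odd_card_oc _) hy

/-- `A` lies in the core -/
theorem A_le_Hc {e : ℕ} (he : e = 1 ∨ e = 2) : D.A ≤ Hc D e := by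
  let M : Subgroup G :=
    { carrier := {g | g ∈ N D e ∧ ∃ k ∈ Hc D e, k * g ∈ D.A}
      one_mem' := ⟨one_mem _, 1, one_mem _, by rw [one_mul]; exact one_mem _⟩
      mul_mem' := by
        rintro g g' ⟨hg, k, hk, h⟩ ⟨hg', k', hk', h'⟩
        refine ⟨mul_mem hg hg', k * g * k' * g⁻¹, ?_, ?_⟩
        · have h1 := mul_mem hk (Hc_conj D hg hk')
          have e1 : k * (g * k' * g⁻¹) = k * g * k' * g⁻¹ := by group
          rwa [e1] at h1
        · have e1 : k * g * k' * g⁻¹ * (g * g') = (k * g) * (k' * g') := by group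
          rw [e1]; exact mul_mem h h'
      inv_mem' := by
        rintro g ⟨hg, k, hk, h⟩
        refine ⟨inv_mem hg, g⁻¹ * k⁻¹ * g, ?_, ?_⟩
        · have h1 := Hc_conj D (inv_mem hg) (inv_mem hk)
          rwa [inv_inv] at h1
        · have e1 : g⁻¹ * k⁻¹ * g * g⁻¹ = (k * g)⁻¹ := by group
          rw [e1]; exact inv_mem h }
  have memM : ∀ {g : G}, g ∈ M ↔ g ∈ N D e ∧ ∃ k ∈ Hc D e, k * g ∈ D.A := Iff.rfl
  have hHM : Hc D e ≤ M := fun k hk => memM.2 ⟨Hc_le D e hk, k⁻¹, inv_mem hk, by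
    rw [inv_mul_cancel]; exact one_mem _⟩
  have hAM : D.A ≤ M := fun w hw => memM.2 ⟨A_le_N D e hw, 1, one_mem _, by rw [one_mul]; exact hw⟩
  have hMN : M ≤ N D e := fun g hg => (memM.1 hg).1
  have hle : M ≤ Hc D e := by
    refine Gen.le_oc hMN ?_ ?_
    · -- normal
      have hA : ∀ g ∈ N D e, ∀ w ∈ D.A, g * w * g⁻¹ ∈ M := by
        intro g hg w hw
        obtain ⟨k, hk, h⟩ := decomp_N D he hg
        have hc : Commute (k * g) w := by
          rcases h with h | h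
          · exact D.A_comm h hw
          · have h1 := (D.A_comm h hw).mul_left (D.commute_z_of_mem_A hw).symm.inv_left
            rwa [mul_inv_cancel_right] at h1
        have e1 : g * w * g⁻¹ = k⁻¹ * w * k := by
          calc g * w * g⁻¹ = k⁻¹ * ((k * g) * w * (k * g)⁻¹) * k := by group
            _ = k⁻¹ * w * k := by rw [hc.eq, mul_inv_cancel_right]
        rw [e1]
        exact mul_mem (mul_mem (inv_mem (hHM hk)) (hAM hw)) (hHM hk)
      intro g hg m hm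
      obtain ⟨hmN, k, hk, h⟩ := memM.1 hm
      have e1 : g * m * g⁻¹ = (g * k⁻¹ * g⁻¹) * (g * (k * m) * g⁻¹) := by group
      rw [e1]
      exact mul_mem (hHM (Hc_conj D hg (inv_mem hk))) (hA g hg _ h)
    · apply Count2.odd_card_of_forall
      intro m hm
      obtain ⟨hmN, k, hk, h⟩ := memM.1 hm
      -- the cube lies in the core
      have hcube : m ^ 3 ∈ Hc D e := by
        have hN : ((Hc D e).subgroupOf (N D e)).Normal := by
          refine ⟨fun y hy g => ?_⟩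
          rw [mem_subgroupOf] at hy ⊢
          exact Hc_conj D g.2 hy
        set w := k * m with hw
        have hm' : m = k⁻¹ * w := by rw [hw]; group
        have hwN : w ∈ N D e := A_le_N D e h
        have e1 : m ^ 3 = k⁻¹ * (w * k⁻¹ * w⁻¹) * (w * w * k⁻¹ * (w * w)⁻¹) * w ^ 3 := by
          rw [hm']; simp only [pow_succ, pow_zero, one_mul]; group
        rw [e1, D.A_cube h, mul_one]
        refine mul_mem (mul_mem (inv_mem hk) (Hc_conj D hwN (inv_mem hk))) ?_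
        exact Hc_conj D (mul_mem hwN hwN) (inv_mem hk)
      have h1 : orderOf m ∣ 3 * Nat.card (Hc D e) := by
        refine orderOf_dvd_of_pow_eq_one ?_
        rw [pow_mul]
        have h2 : (⟨m ^ 3, hcube⟩ : Hc D e) ^ Nat.card (Hc D e) = 1 := pow_card_eq_one'
        exact congrArg Subtype.val h2
      exact Odd.of_dvd_nat ((by decide : Odd 3).mul (Gen.odd_card_oc _)) h1
  exact hAM.trans hle

/-- elements of odd order lie in the core -/
theorem mem_Hc_of_odd {e : ℕ} (he : e = 1 ∨ e = 2) {y : G} (hy : y ∈ N D e)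
    (ho : Odd (orderOf y)) : y ∈ Hc D e := by
  obtain ⟨k, hk, h | h⟩ := decomp_N D he hy
  · have h1 : y = k⁻¹ * (k * y) := by group
    rw [h1]
    exact mul_mem (inv_mem hk) (A_le_Hc D he h)
  · set v := k⁻¹ * (k * y * D.z) with hv
    have hvH : v ∈ Hc D e := mul_mem (inv_mem hk) (A_le_Hc D he h)
    have h1 : y = v * D.z := by
      calc y = k⁻¹ * (k * y * D.z) * D.z⁻¹ := by group
        _ = v * D.z := by rw [D.z_inv]
    have h2 : y * y ∈ Hc D e := by
      have e1 : y * y = v * (D.z * v * D.z⁻¹) := by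
        rw [D.z_inv, h1]; group
      rw [e1]
      exact mul_mem hvH (Hc_conj D (z_mem_N D e) hvH)
    obtain ⟨l, hl⟩ := Gen.exists_sqrt ho
    rw [← hl, ← (Commute.refl y).mul_pow]
    exact pow_mem h2 l

/-- `u` normalises the core -/
theorem Hc_u {e : ℕ} {y : G} (hy : y ∈ Hc D e) : D.u * y * D.u⁻¹ ∈ Hc D e := by
  refine Gen.oc_conj (Gen.mem_normalizer_of_conj ?_) hy
  intro w hw
  obtain ⟨h1, h2⟩ := (mem_N D).1 hw
  have hur : D.u * D.r * D.u⁻¹ = D.r := by rw [D.ru.symm.eq, mul_inv_cancel_right]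
  have huc : D.u * (D.a * D.c ^ e) * D.u⁻¹ = D.r * (D.a * D.c ^ e)⁻¹ := by
    calc D.u * (D.a * D.c ^ e) * D.u⁻¹ = (D.u * D.a * D.u⁻¹) * (D.u * D.c * D.u⁻¹) ^ e := by
          rw [conj_pow]; group
      _ = D.b * (D.c ^ e)⁻¹ := by rw [D.u_a, D.u_c, inv_pow]
      _ = D.a * (D.b * (D.c ^ e)⁻¹) * D.a⁻¹ := by
        have hc : Commute D.a (D.b * (D.c ^ e)⁻¹) :=
          D.comm_ab.mul_right (D.comm_ac.pow_right e).inv_right
        rw [hc.eq, mul_inv_cancel_right]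
      _ = D.r * (D.a * D.c ^ e)⁻¹ := by rw [Data.r]; group
  have k1 : Commute (D.u * w * D.u⁻¹) (D.u * D.r * D.u⁻¹) := SemiconjBy.conj_iff.2 h1
  have k2 : Commute (D.u * w * D.u⁻¹) (D.u * (D.a * D.c ^ e) * D.u⁻¹) := SemiconjBy.conj_iff.2 h2
  rw [hur] at k1
  rw [huc] at k2
  refine (mem_N D).2 ⟨k1, ?_⟩
  have k3 := k1.inv_right.mul_right k2
  have e1 : D.r⁻¹ * (D.r * (D.a * D.c ^ e)⁻¹) = (D.a * D.c ^ e)⁻¹ := by group
  rw [e1] at k3
  exact Commute.inv_right_iff.1 k3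

/-- decomposition with respect to the four-group -/
theorem exists_decomp {H : Subgroup G} (ho : Odd (Nat.card H))
    (hz : ∀ w ∈ H, D.z * w * D.z⁻¹ ∈ H) (hu : ∀ w ∈ H, D.u * w * D.u⁻¹ ∈ H) {h : G} (hh : h ∈ H) :
    ∃ c ∈ H, ∃ e ∈ H, ∃ l ∈ H, Commute c D.u ∧ Commute e D.z ∧ Commute l (D.u * D.z) ∧
      h = c * (e * l * e) := by
  have key : ∀ z : G, z * z = 1 → ∀ g : G, z * (z * g * z⁻¹) * z⁻¹ = g := by
    intro z hz g
    have hzi : z⁻¹ = z := inv_eq_of_mul_eq_one_right hz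
    rw [hzi, ← mul_assoc, ← mul_assoc, hz, one_mul, mul_assoc, hz, mul_one]
  obtain ⟨c, hc, e, he, l, hl, h1, h2, h3, h4⟩ := KleinGen.exists_decomp H ho
    (MulAut.conj D.u).toMonoidHom (MulAut.conj D.z).toMonoidHom (key D.u D.uu) (key D.z D.zz) (by
      intro g
      change D.u * (D.z * g * D.z⁻¹) * D.u⁻¹ = D.z * (D.u * g * D.u⁻¹) * D.z⁻¹
      calc D.u * (D.z * g * D.z⁻¹) * D.u⁻¹ = (D.u * D.z) * g * (D.u * D.z)⁻¹ := by group
        _ = (D.z * D.u) * g * (D.z * D.u)⁻¹ := by rw [D.uz.eq]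
        _ = _ := by group) hu hz hh
  refine ⟨c, hc, e, he, l, hl, ?_, ?_, ?_, h4⟩
  · exact (mul_inv_eq_iff_eq_mul.1 (show D.u * c * D.u⁻¹ = c from h1) : D.u * c = c * D.u).symm
  · exact (mul_inv_eq_iff_eq_mul.1 (show D.z * e * D.z⁻¹ = e from h2) : D.z * e = e * D.z).symm
  · have h5 : D.u * D.z * l * (D.u * D.z)⁻¹ = l := by
      calc D.u * D.z * l * (D.u * D.z)⁻¹ = D.u * (D.z * l * D.z⁻¹) * D.u⁻¹ := by group
        _ = l := h3
    exact (mul_inv_eq_iff_eq_mul.1 h5 : D.u * D.z * l = l * (D.u * D.z)).symm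

/-- The final contradiction. -/
theorem caseThree (hK : Nat.card (K D) = 243) (hu : ∃ y, y * D.z * y⁻¹ = D.u) : False := by
  obtain ⟨x, x1, x2, xr, -⟩ := Vx.exists_x D hu
  obtain ⟨e, he, hP⟩ := exists_e D x1 x2 xr hK
  set P : Subgroup G := D.A ⊓ cj (X D) x with hPdef
  have hPc : Nat.card P = 9 := card_P D x1 x2 xr hK
  have hrP : D.r ∈ P := r_mem_P D xr
  -- subgroups of the core
  have hXH : X D ≤ Hc D e := by
    intro w hw
    refine mem_Hc_of_odd D he ?_ (odd_X D hw)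
    have hwA := X_le_CA D hw
    exact (mem_N D).2 ⟨commute_A D hwA D.rA, commute_A D hwA (acA D e)⟩
  have hX2H : cj (X D) x ≤ Hc D e := by
    intro w hw
    refine mem_Hc_of_odd D he ?_ ?_
    · exact (mem_N D).2 ⟨cjX_comm D hK hw (mem_inf.1 hrP).2, cjX_comm D hK hw (mem_inf.1 hP).2⟩
    · rw [← orderOf_conj' x w]
      exact odd_X D (mem_cj.1 hw)
  -- fixed points
  have fz : ∀ w ∈ Hc D e, Commute w D.z → w ∈ D.A := by
    intro w hw hwz
    exact mem_A_of_odd D (cent_N D he (Hc_le D e hw) hwz) hwz (odd_Hc D hw)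
  have fu : ∀ w ∈ Hc D e, Commute w D.u → w ∈ cj D.A x := by
    intro w hw hwu
    exact mem_cjA_of D x1 xr hwu ((mem_N D).1 (Hc_le D e hw)).1 (odd_Hc D hw)
  have fuz : ∀ w ∈ Hc D e, Commute w (D.u * D.z) → w ∈ cj D.A (x * x) := by
    intro w hw hwu
    exact mem_cjA2_of D x1 x2 xr hwu ((mem_N D).1 (Hc_le D e hw)).1 (odd_Hc D hw)
  -- the fixed points of `u z` lie in `X`
  have hL3 : Hc D e ⊓ centralizer {D.u * D.z} ≤ X D := by
    set L : Subgroup G := Hc D e ⊓ centralizer {D.u * D.z} with hL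
    have h1 : L ≤ cj D.A (x * x) := by
      intro w hw
      obtain ⟨h1, h2⟩ := mem_inf.1 hw
      exact fuz w h1 (mem_centralizer_singleton_iff.1 h2)
    have h2 : X D ⊓ cj D.A (x * x) ≤ L := by
      intro w hw
      obtain ⟨h1, h2⟩ := mem_inf.1 hw
      exact mem_inf.2 ⟨hXH h1, mem_centralizer_singleton_iff.2 (cjA_uz D x1 x2 h2)⟩
    have h3 := card_dvd_of_le h1
    have h4 := card_dvd_of_le h2
    rw [card_cj, D.card_A] at h3
    rw [card_XA3 D x1 x2 xr hK] at h4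
    have h5 : Nat.card L ≠ 27 := by
      intro h27
      have h6 : L = cj D.A (x * x) :=
        Subgroup.eq_of_le_of_card_ge h1 (by rw [h27, card_cj, D.card_A])
      -- then `a c ^ e` centralises the third conjugate of `A`
      apply not_mem3 D x1 x2 xr hK he hP
      rw [mem_cj]
      refine mem_X_of_odd D hK ?_ ?_
      · have key : ∀ w ∈ D.A, Commute ((x * x)⁻¹ * (D.a * D.c ^ e) * (x * x)) w := by
          intro w hw
          have h7 : (x * x) * w * (x * x)⁻¹ ∈ L := by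
            rw [h6, mem_cj]
            have e1 : (x * x)⁻¹ * (x * x * w * (x * x)⁻¹) * (x * x) = w := by group
            rw [e1]; exact hw
          have h8 := ((mem_N D).1 (Hc_le D e (mem_inf.1 h7).1)).2
          have h9 := conj_comm (y := x * x) h8.symm
          have e1 : (x * x)⁻¹ * (x * x * w * (x * x)⁻¹) * (x * x) = w := by group
          rwa [e1] at h9
        exact (mem_CA D).2 ⟨key _ D.aA, key _ D.bA, key _ D.cA⟩
      · rw [orderOf_conj']
        exact odd_of_mem_A D (acA D e)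
    have h6 : Nat.card L = 9 := by
      have h7 : (27 : ℕ) = 3 ^ 3 := by norm_num
      rw [h7] at h3
      obtain ⟨k, hk, hk'⟩ := (Nat.dvd_prime_pow (by norm_num)).1 h3
      rw [hk'] at h4 h5 ⊢
      interval_cases k <;> omega
    have h7 : X D ⊓ cj D.A (x * x) = L :=
      Subgroup.eq_of_le_of_card_ge h2 (by rw [h6, card_XA3 D x1 x2 xr hK])
    rw [← h7]
    exact inf_le_left
  -- the order of the core
  have hH : Nat.card (Hc D e) ≤ 729 := by
    have h1 := Count2.card_le_of_subset_mul (Hc D e) (cj D.A x) (X D) (by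
      intro h hh
      obtain ⟨c, hc, e', he', l, hl, h1, h2, h3, h4⟩ := exists_decomp D (Gen.odd_card_oc _)
        (fun w hw => Hc_conj D (z_mem_N D e) hw) (fun w hw => Hc_u D hw) hh
      refine ⟨c, fu c hc h1, e' * l * e', ?_, h4⟩
      have h5 : e' ∈ X D := A_le_X D (fz e' he' h2)
      have h6 : l ∈ X D := hL3 (mem_inf.2 ⟨hl, mem_centralizer_singleton_iff.2 h3⟩)
      exact mul_mem (mul_mem h5 h6) h5)
    have h2 : Nat.card (cj D.A x ⊓ X D : Subgroup G) = 9 := by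
      rw [inf_comm]; exact card_XA2 D x1 xr hK
    rw [h2, card_cj, D.card_A, (card_X D hK).1] at h1
    omega
  -- the intersection of the two conjugates is large
  have hbig : 81 ≤ Nat.card (X D ⊓ cj (X D) x : Subgroup G) := by
    have h1 := Count2.card_mul_le hXH hX2H
    rw [card_cj, (card_X D hK).1] at h1
    nlinarith
  -- but it is small
  set Y : Subgroup G := X D ⊓ cj (X D) x with hY
  have hYo : Odd (Nat.card Y) :=
    Odd.of_dvd_nat (Gen.odd_card_oc (CA D)) (card_dvd_of_le (inf_le_left : Y ≤ X D))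
  have hM : X D ⊓ cj (X D) x ⊓ cj D.A (x * x) ≤ zpowers D.r := by
    have h1 : Nat.card (X D ⊓ cj (X D) x ⊓ cj D.A (x * x) : Subgroup G) ≤ 3 := by
      refine le_trans (card_le_of_conj (L := D.A ⊓ cj (X D) x ⊓ cj (X D) (x * x)) x ?_)
        (card_M D x1 x2 xr hK)
      intro w hw
      obtain ⟨h1, h2⟩ := mem_inf.1 hw
      obtain ⟨h3, h4⟩ := mem_inf.1 h1
      refine mem_inf.2 ⟨mem_inf.2 ⟨x_cj2 D x1 x2 xr (SA D) h2, mem_cj.2 ?_⟩, mem_cj.2 ?_⟩
      · have e1 : x⁻¹ * (x * w * x⁻¹) * x = w := by group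
        rw [e1]; exact h3
      · have e1 : (x * x)⁻¹ * (x * w * x⁻¹) * (x * x) = x⁻¹ * w * x := by
          simp only [mul_assoc, mul_inv_rev, inv_mul_cancel_left]
        rw [e1]; exact mem_cj.1 h4
    have h2 : zpowers D.r ≤ X D ⊓ cj (X D) x ⊓ cj D.A (x * x) := by
      rw [zpowers_le]
      refine mem_inf.2 ⟨mem_inf.2 ⟨A_le_X D D.rA, (mem_inf.1 hrP).2⟩, mem_cj.2 ?_⟩
      have e1 : (x * x)⁻¹ * D.r * (x * x) = x⁻¹ * (x⁻¹ * D.r * x) * x := by group
      rw [e1, xi_r D xr, xi_r D xr]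
      exact D.rA
    rw [← Subgroup.eq_of_le_of_card_ge h2 (by rw [card_zpowers_r]; exact h1)]
  have hsmall : Nat.card Y ≤ 27 := by
    have h1 := Count2.card_le_of_subset_mul Y (X D ⊓ cj D.A x) P (by
      intro h hh
      obtain ⟨c, hc, e', he', l, hl, h1, h2, h3, h4⟩ := exists_decomp D hYo
        (fun w hw => mem_inf.2 ⟨SX D _ (zS D) _ (mem_inf.1 hw).1,
          S_cj D x1 x2 xr (SX D) (zS D) (mem_inf.1 hw).2⟩)
        (fun w hw => mem_inf.2 ⟨SX D _ (uS D) _ (mem_inf.1 hw).1,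
          S_cj D x1 x2 xr (SX D) (uS D) (mem_inf.1 hw).2⟩) hh
      refine ⟨c, mem_inf.2 ⟨(mem_inf.1 hc).1, fu c (hXH (mem_inf.1 hc).1) h1⟩, e' * l * e', ?_, h4⟩
      have h5 : e' ∈ P := mem_inf.2 ⟨fz e' (hXH (mem_inf.1 he').1) h2, (mem_inf.1 he').2⟩
      have h6 : l ∈ P := by
        have h7 : l ∈ zpowers D.r := hM (mem_inf.2 ⟨hl, fuz l (hXH (mem_inf.1 hl).1) h3⟩)
        exact (zpowers_le.2 hrP) h7
      exact mul_mem (mul_mem h5 h6) h5)
    have h2 : 3 ≤ Nat.card (X D ⊓ cj D.A x ⊓ P : Subgroup G) := by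
      rw [← card_zpowers_r D]
      apply card_le_of_le
      rw [zpowers_le]
      exact mem_inf.2 ⟨mem_inf.2 ⟨A_le_X D D.rA, mem_cj.2 (by rw [xi_r D xr]; exact D.rA)⟩, hrP⟩
    rw [card_XA2 D x1 xr hK, hPc] at h1
    nlinarith
  omega

end Cfsg.Agent.SporRec.TwoNine.NineW
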