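import Cfsg.Agent.SporRec.TwoNine.OfCover
import Cfsg.Agent.SporRec.TwoNine.NineW

/-!
# No finite group has an involution centraliser isomorphic to a double cover of the alternating group
of degree nine or ten, with the involution conjugate to another one of its centraliser
-/

set_option autoImplicit false

namespace Cfsg.Agent.SporRec.TwoNine.Main

open Subgroup
open Cfsg.Agent.SporadicRecognition.AltCover
open Cfsg.Agent.SporRec.TwoNine.Cv Cfsg.Agent.SporRec.TwoNine.OfCover
  Cfsg.Agent.SporRec.TwoNine.Lifts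

theorem of_cv {G : Type*} [Group G] [Finite G] {m : ℕ} (hm : m < 2) {z : G}
    {p : G → Equiv.Perm (Fin (m + 9))} (h : Cv (m + 9) z p) {u : G} (huu : u * u = 1) (hu1 : u ≠ 1)
    (huz : u ≠ z) (hc : u * z = z * u) (hconj : ∃ g, g * z * g⁻¹ = u) : False := by
  obtain ⟨D, rfl, rfl⟩ := exists_data hm h
  obtain ⟨g, -, hg⟩ := Basic.exists_conj_u D.hm D.cv D.uz D.pu (t := u) hc huu hu1 huz
  obtain ⟨y, hy⟩ := hconj
  have hu : ∃ y, y * D.z * y⁻¹ = D.u := ⟨g * y, by
    calc g * y * D.z * (g * y)⁻¹ = g * (y * D.z * y⁻¹) * g⁻¹ := by group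
      _ = D.u := by rw [hy, hg]⟩
  interval_cases m
  · rcases KCard2.nine D hu with h1 | h1
    · exact CaseTwo.caseTwo D h1 hu
    · exact NineW.caseThree D h1 hu
  · exact CaseTwo.caseTwo D (KCard2.ten D hu) hu

/-- The cases `n = 9` and `n = 10`. -/
theorem nine_ten {G : Type*} [Group G] [Finite G] {n : ℕ} (hn : n = 9 ∨ n = 10) {z : G}
    {hz : z ∈ centralizer {z}} {π : centralizer {z} →* alternatingGroup (Fin n)}
    (h : IsCover π ⟨z, hz⟩) {u : G} (huu : u * u = 1) (hu1 : u ≠ 1)
    (huz : u ≠ z) (hc : u * z = z * u) (hconj : ∃ g, g * z * g⁻¹ = u) : False := by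
  rcases hn with rfl | rfl
  · exact of_cv (m := 0) (by omega) (cv_of_isCover (by omega) hz h) huu hu1 huz hc hconj
  · exact of_cv (m := 1) (by omega) (cv_of_isCover (by omega) hz h) huu hu1 huz hc hconj

end Cfsg.Agent.SporRec.TwoNine.Main
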