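import Mathlib

/-!
# Explicit permutations of nine and of ten points
-/

set_option autoImplicit false

namespace Cfsg.Agent.SporRec.TwoNine.Perms

open Equiv Equiv.Perm

/-- the 3-cycles on the three blocks -/
def sa (m : ℕ) : Perm (Fin (m + 9)) := swap 0 1 * swap 1 2
def sb (m : ℕ) : Perm (Fin (m + 9)) := swap 3 4 * swap 4 5
def sc (m : ℕ) : Perm (Fin (m + 9)) := swap 6 7 * swap 7 8
/-- swaps the first two blocks and inverts the third -/
def su (m : ℕ) : Perm (Fin (m + 9)) := swap 0 3 * swap 1 4 * (swap 2 5 * swap 6 7)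
/-- inverts the first two blocks -/
def sg (m : ℕ) : Perm (Fin (m + 9)) := swap 0 1 * swap 3 4
/-- permutes the three blocks cyclically -/
def sd (m : ℕ) : Perm (Fin (m + 9)) :=
  swap 0 3 * swap 3 6 * (swap 1 4 * swap 4 7) * (swap 2 5 * swap 5 8)
/-- an involution inverting the first block -/
def sv (m : ℕ) : Perm (Fin (m + 9)) := swap 0 1 * swap 3 4 * (swap 5 6 * swap 7 8)
def sq1 (m : ℕ) : Perm (Fin (m + 9)) := swap 3 4 * swap 5 6
def sq2 (m : ℕ) : Perm (Fin (m + 9)) := swap 3 4 * swap 7 8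
def sl (m : ℕ) : Perm (Fin (m + 9)) := swap 3 5 * swap 4 6
/-- inverts the last two blocks -/
def sh (m : ℕ) : Perm (Fin (m + 9)) := swap 3 4 * swap 6 7

theorem mul_swap_comm {n : ℕ} {a b c d : Fin n} (h : [a, b, c, d].Nodup) :
    Commute (swap a b) (swap c d) := (disjoint_swap_swap h).commute

theorem cube_of_cycle {n : ℕ} {a b c : Fin n} (hab : a ≠ b) (hbc : b ≠ c) (hac : a ≠ c) :
    (swap a b * swap b c) ^ 3 = 1 := by
  have h := isThreeCycle_swap_mul_swap_same hab.symm hbc hac
  rw [swap_comm b a] at h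
  rw [← h.orderOf, pow_orderOf_eq_one]

/-- permutations with the cycle type of a double transposition -/
theorem exists_of_two_two {m : ℕ} (hm : m < 2) {σ : Perm (Fin (m + 9))}
    (h : σ.cycleType = {2, 2}) :
    ∃ a b c d : Fin (m + 9), [a, b, c, d].Nodup ∧ σ = swap a b * swap c d := by
  have hnd : ([(0 : Fin (m + 9)), 1, 2, 3] : List (Fin (m + 9))).Nodup := by
    interval_cases m <;> decide
  have h1 : IsConj (swap (0 : Fin (m + 9)) 1 * swap 2 3) σ := by
    rw [isConj_iff_cycleType_eq, h, cycleType_swap_mul_swap_of_nodup hnd]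
  obtain ⟨g, hg⟩ := isConj_iff.1 h1
  refine ⟨g 0, g 1, g 2, g 3, ?_, ?_⟩
  · exact (List.nodup_map_iff (l := [(0 : Fin (m + 9)), 1, 2, 3]) g.injective).2 hnd
  · rw [swap_apply_apply, swap_apply_apply, ← hg]; group

theorem cycleType_su {m : ℕ} (hm : m < 2) : (su m).cycleType = {2, 2, 2, 2} := by
  have hd : Equiv.Perm.Disjoint (swap (0 : Fin (m + 9)) 3 * swap 1 4) (swap 2 5 * swap 6 7) := by
    have h : ∀ x : Fin (m + 9), (swap 0 3 * swap 1 4 : Perm (Fin (m + 9))) x = x ∨
        (swap 2 5 * swap 6 7 : Perm (Fin (m + 9))) x = x := by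
      interval_cases m <;> decide
    exact h
  rw [su, hd.cycleType_mul, cycleType_swap_mul_swap_of_nodup (by interval_cases m <;> decide),
    cycleType_swap_mul_swap_of_nodup (by interval_cases m <;> decide)]
  rfl

theorem cycleType_of_sq {m : ℕ} (hm : m < 2) {σ : Perm (Fin (m + 9))} (h2 : σ * σ = 1)
    (h1 : σ ≠ 1) (hs : sign σ = 1) : σ.cycleType = {2, 2} ∨ σ.cycleType = {2, 2, 2, 2} := by
  have ho : orderOf σ = 2 := orderOf_eq_prime (by rw [pow_two]; exact h2) h1
  have hp : (orderOf σ).Prime := by rw [ho]; exact Nat.prime_two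
  obtain ⟨k, hk⟩ := cycleType_prime_order hp
  rw [ho] at hk
  have h3 := sum_cycleType_le σ
  rw [hk, Multiset.sum_replicate, Fintype.card_fin, smul_eq_mul] at h3
  have h4 := sign_of_cycleType σ
  rw [hs, hk, Multiset.sum_replicate, Multiset.card_replicate, smul_eq_mul] at h4
  have hk5 : k < 5 := by omega
  rw [hk]
  interval_cases k
  · exact absurd h4 (by decide)
  · left; rfl
  · exact absurd h4 (by decide)
  · right; rfl
  · exact absurd h4 (by decide)

/-- an element with the cycle type of `su` is conjugate to it by an even permutation -/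
theorem exists_even_conj_su {m : ℕ} (hm : m < 2) {σ : Perm (Fin (m + 9))}
    (h : σ.cycleType = {2, 2, 2, 2}) : ∃ g : Perm (Fin (m + 9)), sign g = 1 ∧
      g * σ * g⁻¹ = su m := by
  have h1 : IsConj σ (su m) := by
    rw [isConj_iff_cycleType_eq, h, cycleType_su hm]
  obtain ⟨g, hg⟩ := isConj_iff.1 h1
  by_cases hs : sign g = 1
  · exact ⟨g, hs, hg⟩
  · have hs' : sign g = -1 := (Int.units_eq_one_or _).resolve_left hs
    have h01 : sign (swap (6 : Fin (m + 9)) 7) = -1 := by interval_cases m <;> decide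
    have hc : swap (6 : Fin (m + 9)) 7 * su m * swap 6 7 = su m := by
      interval_cases m <;> decide
    refine ⟨swap 6 7 * g, ?_, ?_⟩
    · rw [map_mul, hs', h01]; rfl
    · have h2 : swap 6 7 * g * σ * (swap 6 7 * g)⁻¹ = swap 6 7 * (g * σ * g⁻¹) * (swap 6 7)⁻¹ := by
        group
      rw [h2, hg, swap_inv, hc]

end Cfsg.Agent.SporRec.TwoNine.Perms
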