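import Cfsg.Agent.SporRec.TwoNine.Cv
import Cfsg.Agent.SporRec.TwoNine.Perms

/-!
# Involutions in the double covers of the alternating groups of degrees nine and ten
-/

set_option autoImplicit false

namespace Cfsg.Agent.SporRec.TwoNine.Basic

open Equiv Equiv.Perm
open Cfsg.Agent.SporRec.TwoNine.Cv Cfsg.Agent.SporRec.TwoNine.Perms

variable {G : Type*} [Group G]

section general

variable {n : ℕ} {z : G} {p : G → Perm (Fin n)}

/-- elements over a product of four disjoint transpositions are involutions -/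
theorem quad (h : Cv n z p) {x : G} {a b c d e f k l : Fin n} (hx : Commute x z)
    (hn : [a, b, c, d, e, f, k, l].Nodup)
    (hpx : p x = swap a b * swap c d * (swap e f * swap k l)) : x * x = 1 := by
  simp only [List.nodup_cons, List.mem_cons, List.not_mem_nil, or_false, not_or,
      List.nodup_nil, and_true, not_false_eq_true] at hn
  obtain ⟨⟨hab, hac, had, hae, haf, hak, hal⟩, ⟨hbc, hbd, hbe, hbf, hbk, hbl⟩,
    ⟨hcd, hce, hcf, hck, hcl⟩, ⟨hde, hdf, hdk, hdl⟩, ⟨hef, hek, hel⟩, ⟨hfk, hfl⟩, hkl⟩ := hn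
  have nd : ∀ {q r s t : Fin n}, q ≠ r → q ≠ s → q ≠ t → r ≠ s → r ≠ t → s ≠ t →
      [q, r, s, t].Nodup := by
    intro q r s t h1 h2 h3 h4 h5 h6
    simp only [List.nodup_cons, List.mem_cons, List.not_mem_nil, or_false, not_or,
      List.nodup_nil, and_true, not_false_eq_true]
    exact ⟨⟨h1, h2, h3⟩, ⟨h4, h5⟩, h6⟩
  have hsg : ∀ {q r s t : Fin n}, q ≠ r → s ≠ t → sign (swap q r * swap s t) = 1 := by
    intro q r s t h1 h2
    rw [map_mul, sign_swap h1, sign_swap h2]; rfl
  obtain ⟨y, hy, hyp⟩ := h.surj (hsg hef hkl)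
  -- the two three-cycles
  obtain ⟨X, hX, hX3, hXp⟩ := h.exists_cube (cube_of_cycle hab hbc hac)
  obtain ⟨Y, hY, hY3, hYp⟩ := h.exists_cube (cube_of_cycle hbc hcd hbd)
  have c1 : Commute (swap a b) (swap e f * swap k l) :=
    (mul_swap_comm (nd hab hae haf hbe hbf hef)).mul_right
      (mul_swap_comm (nd hab hak hal hbk hbl hkl))
  have c2 : Commute (swap b c) (swap e f * swap k l) :=
    (mul_swap_comm (nd hbc hbe hbf hce hcf hef)).mul_right
      (mul_swap_comm (nd hbc hbk hbl hck hcl hkl))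
  have c3 : Commute (swap c d) (swap e f * swap k l) :=
    (mul_swap_comm (nd hcd hce hcf hde hdf hef)).mul_right
      (mul_swap_comm (nd hcd hck hcl hdk hdl hkl))
  have hyX : Commute y X := h.comm_cube hy hX hX3 (by
    rw [hyp, hXp]; exact (c1.mul_left c2).eq.symm)
  have hyY : Commute y Y := h.comm_cube hy hY hY3 (by
    rw [hyp, hYp]; exact (c2.mul_left c3).eq.symm)
  have hXY : p (X * Y) = swap a b * swap c d := by
    rw [h.mul hX hY, hXp, hYp]
    calc swap a b * swap b c * (swap b c * swap c d)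
        = swap a b * (swap b c * swap b c) * swap c d := by group
      _ = swap a b * swap c d := by rw [swap_mul_self, mul_one]
  have h1 : X * Y * (X * Y) = z := h.two (hX.mul_left hY) (nd hab hac had hbc hbd hcd) hXY
  have h2 : y * y = z := h.two hy (nd hef hek hel hfk hfl hkl) hyp
  have h3 : Commute y (X * Y) := hyX.mul_right hyY
  have h4 : X * Y * y * (X * Y * y) = 1 := by
    calc X * Y * y * (X * Y * y) = X * Y * (y * (X * Y)) * y := by group
      _ = X * Y * (X * Y * y) * y := by rw [h3.eq]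
      _ = (X * Y * (X * Y)) * (y * y) := by group
      _ = 1 := by rw [h1, h2, h.z_sq]
  have hc : Commute (X * Y * y) z := (hX.mul_left hY).mul_left hy
  rcases h.eq_or hx hc (by rw [hpx, h.mul (hX.mul_left hY) hy, hXY, hyp]) with h5 | h5
  · rw [h5]; exact h4
  · rw [h5]
    calc X * Y * y * z * (X * Y * y * z) = X * Y * y * (z * (X * Y * y)) * z := by group
      _ = X * Y * y * (X * Y * y * z) * z := by rw [hc.eq]
      _ = (X * Y * y * (X * Y * y)) * (z * z) := by group
      _ = 1 := by rw [h4, h.z_sq, one_mul]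

/-- if `x`, `y` have squares in `{1, z}` and `x y` too, the commutator is determined -/
theorem conj_eq_of_sq {x y r s t : G} (hr : Commute r x) (hr' : Commute r y) (hrr : r * r = 1)
    (hs : Commute s x) (hs' : Commute s y) (hss : s * s = 1)
    (hx : x * x = r) (hy : y * y = s) (hxy : x * y * (x * y) = t) :
    x * y * x⁻¹ = t * r * s * y := by
  have h1 : x⁻¹ = x * r := by
    rw [inv_eq_iff_mul_eq_one]
    calc x * (x * r) = x * x * r := by group
      _ = 1 := by rw [hx, hrr]
  have h2 : y * y * s = 1 := by rw [hy, hss]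
  rw [h1, ← hxy]
  calc x * y * (x * r) = x * y * (x * r) * (y * y * s) := by rw [h2, mul_one]
    _ = x * y * (x * (r * y)) * y * s := by group
    _ = x * y * (x * (y * r)) * y * s := by rw [hr'.eq]
    _ = x * y * (x * y) * (r * (y * s)) := by group
    _ = x * y * (x * y) * (r * (s * y)) := by rw [hs'.eq]
    _ = _ := by group

end general

section nineten

variable {m : ℕ} {z : G} {p : G → Perm (Fin (m + 9))}

theorem cycleType_of_involution (hm : m < 2) (h : Cv (m + 9) z p) {t : G} (ht : Commute t z)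
    (htt : t * t = 1) (h1 : t ≠ 1) (hz : t ≠ z) : (p t).cycleType = {2, 2, 2, 2} := by
  have h2 : p t ≠ 1 := by
    intro h3
    rcases h.ker ht h3 with h4 | h4
    · exact h1 h4
    · exact hz h4
  have h3 : p t * p t = 1 := by rw [← h.mul ht ht, htt, h.one]
  rcases cycleType_of_sq hm h3 h2 (h.sgn ht) with h4 | h4
  · exfalso
    obtain ⟨a, b, c, d, hnd, he⟩ := exists_of_two_two hm h4
    have h5 := h.two ht hnd he
    rw [htt] at h5
    exact h.z_ne h5.symm
  · exact h4

/-- the element swapping `u` and `u z` -/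
theorem conj_su (hm : m < 2) (h : Cv (m + 9) z p) {u g : G} (hu : Commute u z) (hg : Commute g z)
    (hpu : p u = su m) (hpg : p g = sg m) : g * u * g⁻¹ = u * z := by
  have e1 : g * g = z := h.two (a := 0) (b := 1) (c := 3) (d := 4) hg
    (by interval_cases m <;> decide) hpg
  have e2 : u * u = 1 := quad h (a := 0) (b := 3) (c := 1) (d := 4) (e := 2) (f := 5) (k := 6)
    (l := 7) hu (by interval_cases m <;> decide) hpu
  have e3 : g * u * (g * u) = 1 := by
    refine quad h (a := 0) (b := 4) (c := 1) (d := 3) (e := 2) (f := 5) (k := 6)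
      (l := 7) (hg.mul_left hu) (by interval_cases m <;> decide) ?_
    rw [h.mul hg hu, hpu, hpg]
    interval_cases m <;> decide
  calc g * u * g⁻¹ = g * u * g * (g * g)⁻¹ := by group
    _ = (g * u * (g * u)) * u⁻¹ * (g * g)⁻¹ := by group
    _ = u * z := by
      rw [e3, e1, h.z_inv, one_mul, inv_eq_of_mul_eq_one_left e2]

/-- all non-central involutions of the cover are conjugate -/
theorem exists_conj_u (hm : m < 2) (h : Cv (m + 9) z p) {u : G} (hu : Commute u z)
    (hpu : p u = su m) {t : G} (ht : Commute t z) (htt : t * t = 1) (h1 : t ≠ 1) (hz : t ≠ z) :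
    ∃ g : G, Commute g z ∧ g * t * g⁻¹ = u := by
  obtain ⟨σ, hσ, hσt⟩ := exists_even_conj_su hm (cycleType_of_involution hm h ht htt h1 hz)
  obtain ⟨g, hg, hgσ⟩ := h.surj hσ
  have e1 : p (g * t * g⁻¹) = p u := by rw [h.conj hg ht, hgσ, hσt, hpu]
  rcases h.eq_or ((hg.mul_left ht).mul_left hg.inv_left) hu e1 with e2 | e2
  · exact ⟨g, hg, e2⟩
  · have hsg : sign (sg m) = 1 := by interval_cases m <;> decide
    obtain ⟨k, hk, hkp⟩ := h.surj hsg
    refine ⟨k * g, hk.mul_left hg, ?_⟩
    have e3 := conj_su hm h hu hk hpu hkp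
    calc k * g * t * (k * g)⁻¹ = k * (g * t * g⁻¹) * k⁻¹ := by group
      _ = k * (u * z) * k⁻¹ := by rw [e2]
      _ = k * u * k⁻¹ * (k * z * k⁻¹) := by group
      _ = u * z * z := by rw [e3, hk.eq, mul_inv_cancel_right]
      _ = u := by rw [mul_assoc, h.z_sq, mul_one]

theorem exists_conj_mul_z (hm : m < 2) (h : Cv (m + 9) z p) {t : G} (ht : Commute t z)
    (htt : t * t = 1) (h1 : t ≠ 1) (hz : t ≠ z) : ∃ g : G, Commute g z ∧ g * t * g⁻¹ = t * z := by
  have hsu : sign (su m) = 1 := by interval_cases m <;> decide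
  have hsg : sign (sg m) = 1 := by interval_cases m <;> decide
  obtain ⟨u, hu, hpu⟩ := h.surj hsu
  obtain ⟨k, hk, hkp⟩ := h.surj hsg
  obtain ⟨g, hg, e⟩ := exists_conj_u hm h hu hpu ht htt h1 hz
  have e3 := conj_su hm h hu hk hpu hkp
  refine ⟨g⁻¹ * k * g, (hg.inv_left.mul_left hk).mul_left hg, ?_⟩
  calc g⁻¹ * k * g * t * (g⁻¹ * k * g)⁻¹ = g⁻¹ * (k * (g * t * g⁻¹) * k⁻¹) * g := by group
    _ = g⁻¹ * (u * z) * g := by rw [e, e3]
    _ = g⁻¹ * u * (z * g) := by group
    _ = g⁻¹ * u * (g * z) := by rw [hg.eq]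
    _ = g⁻¹ * (g * t * g⁻¹) * g * z := by rw [e]; group
    _ = t * z := by group

end nineten

end Cfsg.Agent.SporRec.TwoNine.Basic
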