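import Cfsg.Agent.SporRec.TwoNine.S27

/-!
# The case where the centraliser of the 3-cycle is contained in `C(z)`
-/

set_option autoImplicit false

namespace Cfsg.Agent.SporRec.TwoNine.CaseTwo

open Equiv Equiv.Perm Subgroup Cfsg
open Cfsg.Agent.Lib
open Cfsg.Agent.SporRec.TwoNine.Cv Cfsg.Agent.SporRec.TwoNine.Perms
  Cfsg.Agent.SporRec.TwoNine.PermFacts Cfsg.Agent.SporRec.TwoNine.PermFacts2
  Cfsg.Agent.SporRec.TwoNine.PermFacts3 Cfsg.Agent.SporRec.TwoNine.Basic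
  Cfsg.Agent.SporRec.TwoNine.Lifts Cfsg.Agent.SporRec.TwoNine.Lifts.Data
  Cfsg.Agent.SporRec.TwoNine.Vx Cfsg.Agent.SporRec.TwoNine.Fuse
  Cfsg.Agent.SporRec.TwoNine.S27 Cfsg.Agent.SporRec.TwoNine.FuseX

variable {G : Type*} [Group G] {m : ℕ} (D : Data G m)

/-- an involution of `C(z)` commuting with `a` is `z` -/
theorem eq_z_of_commute_a {t : G} (tz : Commute t D.z) (ta : Commute t D.a) (htt : t * t = 1)
    (ht1 : t ≠ 1) : t = D.z := by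
  by_contra hne
  have h1 := cycleType_of_involution D.hm D.cv tz htt ht1 hne
  refine not_commute_sa D.hm h1 ?_
  rw [← D.pa]
  exact p_comm D tz D.az ta

theorem not_a (H1 : ∀ y, Commute y D.a → Commute y D.z) : ¬ ∃ y, y * D.a * y⁻¹ = D.r := by
  rintro ⟨y, hy⟩
  have e : y⁻¹ * D.r * (y⁻¹)⁻¹ = D.a := by rw [← hy]; group
  have key : ∀ t, Commute t D.r → t * t = 1 → t ≠ 1 → y⁻¹ * t * (y⁻¹)⁻¹ = D.z := by
    intro t htr htt ht1
    have h1 : Commute (y⁻¹ * t * (y⁻¹)⁻¹) D.a := by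
      have h2 : Commute (y⁻¹ * t * (y⁻¹)⁻¹) (y⁻¹ * D.r * (y⁻¹)⁻¹) := SemiconjBy.conj_iff.2 htr
      rwa [e] at h2
    refine eq_z_of_commute_a D (H1 _ h1) h1 ?_ ?_
    · calc y⁻¹ * t * (y⁻¹)⁻¹ * (y⁻¹ * t * (y⁻¹)⁻¹) = y⁻¹ * (t * t) * y := by group
        _ = 1 := by rw [htt]; group
    · intro h2
      apply ht1
      calc t = y * (y⁻¹ * t * (y⁻¹)⁻¹) * y⁻¹ := by group
        _ = 1 := by rw [h2]; group
  have h1 := key D.z D.rz.symm D.zz D.z_ne_one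
  have h2 := key D.u D.ru.symm D.uu D.u_ne_one
  exact D.u_ne_z (mul_left_cancel (mul_right_cancel (h2.trans h1.symm)))

theorem not_of_conj_a (H1 : ∀ y, Commute y D.a → Commute y D.z) {w : G}
    (hw : ∃ k, k * w * k⁻¹ = D.a) : ¬ ∃ y, y * w * y⁻¹ = D.r := by
  rintro ⟨y, hy⟩
  obtain ⟨k, hk⟩ := hw
  refine not_a D H1 ⟨y * k⁻¹, ?_⟩
  rw [← hk, ← hy]; group

theorem sq_eq_inv {w : G} (h : w ^ 3 = 1) : w ^ 2 = w⁻¹ := by
  rw [eq_inv_iff_mul_eq_one, ← pow_succ, h]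

theorem conj_a2 : D.g * D.a ^ 2 * D.g⁻¹ = D.a := by
  rw [← conj_pow, D.g_a, inv_pow, sq_eq_inv D.a3, inv_inv]

theorem conj_b : D.d⁻¹ * D.b * (D.d⁻¹)⁻¹ = D.a := by rw [← D.d_a]; group

theorem conj_b2 : D.g * D.d⁻¹ * D.b ^ 2 * (D.g * D.d⁻¹)⁻¹ = D.a := by
  calc D.g * D.d⁻¹ * D.b ^ 2 * (D.g * D.d⁻¹)⁻¹ = D.g * (D.d⁻¹ * D.b ^ 2 * (D.d⁻¹)⁻¹) * D.g⁻¹ := by
        rw [mul_inv_rev]; simp only [mul_assoc]
    _ = D.g * D.a ^ 2 * D.g⁻¹ := by rw [← conj_pow, conj_b]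
    _ = D.a := conj_a2 D

theorem conj_c2 : D.g * D.d * D.c ^ 2 * (D.g * D.d)⁻¹ = D.a := by
  calc D.g * D.d * D.c ^ 2 * (D.g * D.d)⁻¹ = D.g * (D.d * D.c ^ 2 * D.d⁻¹) * D.g⁻¹ := by
        rw [mul_inv_rev]; simp only [mul_assoc]
    _ = D.g * D.a ^ 2 * D.g⁻¹ := by rw [← conj_pow, D.d_c]
    _ = D.a := conj_a2 D

/-- the lift inverting the last two blocks -/
theorem exists_h : ∃ h : G, Commute h D.a ∧ h * D.b * h⁻¹ = D.b⁻¹ ∧ h * D.c * h⁻¹ = D.c⁻¹ := by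
  refine ⟨D.d * D.g * D.d⁻¹, ?_, ?_, ?_⟩
  · have h1 : Commute (D.d * D.g * D.d⁻¹) (D.d * D.c * D.d⁻¹) := SemiconjBy.conj_iff.2 D.g_c
    rwa [D.d_c] at h1
  · calc D.d * D.g * D.d⁻¹ * D.b * (D.d * D.g * D.d⁻¹)⁻¹
        = D.d * (D.g * (D.d⁻¹ * D.b * (D.d⁻¹)⁻¹) * D.g⁻¹) * D.d⁻¹ := by group
      _ = D.b⁻¹ := by rw [conj_b, D.g_a, ← D.d_a]; group
  · have e : D.d⁻¹ * D.c * (D.d⁻¹)⁻¹ = D.b := by rw [← D.d_b]; group
    calc D.d * D.g * D.d⁻¹ * D.c * (D.d * D.g * D.d⁻¹)⁻¹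
        = D.d * (D.g * (D.d⁻¹ * D.c * (D.d⁻¹)⁻¹) * D.g⁻¹) * D.d⁻¹ := by group
      _ = D.c⁻¹ := by rw [e, D.g_b, ← D.d_b]; group

theorem card_centralizer_conj {w y : G} :
    Nat.card (centralizer {y * w * y⁻¹}) = Nat.card (centralizer {w}) := by
  refine Nat.card_congr ?_
  refine ⟨fun x => ⟨y⁻¹ * x * y, ?_⟩, fun x => ⟨y * x * y⁻¹, ?_⟩, ?_, ?_⟩
  · have h1 : Commute (x : G) (y * w * y⁻¹) := mem_centralizer_singleton_iff.1 x.2
    rw [mem_centralizer_singleton_iff]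
    have h2 : Commute (y⁻¹ * x * (y⁻¹)⁻¹) (y⁻¹ * (y * w * y⁻¹) * (y⁻¹)⁻¹) :=
      SemiconjBy.conj_iff.2 h1
    have h3 : y⁻¹ * (y * w * y⁻¹) * (y⁻¹)⁻¹ = w := by group
    rw [h3, inv_inv] at h2
    exact h2
  · have h1 : Commute (x : G) w := mem_centralizer_singleton_iff.1 x.2
    rw [mem_centralizer_singleton_iff]
    exact SemiconjBy.conj_iff.2 h1
  · rintro ⟨x, hx⟩
    exact Subtype.ext (by change y * (y⁻¹ * x * y) * y⁻¹ = x; group)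
  · rintro ⟨x, hx⟩
    exact Subtype.ext (by change y⁻¹ * (y * x * y⁻¹) * y = x; group)

theorem card_centralizer_sq {w : G} (h : w ^ 3 = 1) :
    centralizer {w ^ 2} = centralizer {w} := by
  ext x
  rw [mem_centralizer_singleton_iff, mem_centralizer_singleton_iff, sq_eq_inv h]
  exact Commute.inv_right_iff

theorem dvd_abc [Finite G] : 3 ^ (3 + 1) ∣ Nat.card (centralizer {D.a * D.b * D.c}) := by
  by_contra hd
  have habc : D.a * D.b * D.c ∈ D.A := mul_mem (mul_mem D.aA D.bA) D.cA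
  have hle : D.A ≤ centralizer {D.a * D.b * D.c} := by
    intro x hx
    rw [mem_centralizer_singleton_iff]
    exact D.A_comm hx habc
  have hdc : Commute D.d (D.a * D.b * D.c) := by
    refine mul_inv_eq_iff_eq_mul.1 ?_
    calc D.d * (D.a * D.b * D.c) * D.d⁻¹
        = (D.d * D.a * D.d⁻¹) * (D.d * D.b * D.d⁻¹) * (D.d * D.c * D.d⁻¹) := by group
      _ = D.b * D.c * D.a := by rw [D.d_a, D.d_b, D.d_c]
      _ = D.a * D.b * D.c := by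
        rw [mul_assoc, ← D.comm_ac.eq, ← mul_assoc, ← D.comm_ab.eq]
  have hdA : D.d ∈ D.A := by
    refine mem_of_normalizes hle (n := 3) (by rw [D.card_A]; rfl) hd
      (mem_centralizer_singleton_iff.2 hdc) (k := 1) (by rw [pow_one, D.d3]) ?_
    intro h hh
    obtain ⟨i, j, k, rfl⟩ := D.mem_A.1 hh
    have e : D.d * (D.a ^ (i : ℕ) * D.b ^ (j : ℕ) * D.c ^ (k : ℕ)) * D.d⁻¹ =
        (D.d * D.a * D.d⁻¹) ^ (i : ℕ) * (D.d * D.b * D.d⁻¹) ^ (j : ℕ) *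
          (D.d * D.c * D.d⁻¹) ^ (k : ℕ) := by
      rw [conj_pow, conj_pow, conj_pow]; group
    rw [e, D.d_a, D.d_b, D.d_c]
    exact mul_mem (mul_mem (pow_mem D.bA _) (pow_mem D.cA _)) (pow_mem D.aA _)
  have h1 := D.d_a
  rw [(D.A_comm hdA D.aA).eq, mul_inv_cancel_right] at h1
  have h2 := congrArg D.p h1
  rw [D.pa, D.pb] at h2
  have hm := D.hm
  revert h2; interval_cases m <;> decide

/-- the order of the centraliser of an element of `A` of weight three -/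
theorem dvd_weight_three [Finite G] {i j k : ℕ} (hi : i = 1 ∨ i = 2) (hj : j = 1 ∨ j = 2)
    (hk : k = 1 ∨ k = 2) : 3 ^ (3 + 1) ∣ Nat.card (centralizer {D.a ^ i * D.b ^ j * D.c ^ k}) := by
  have h0 := dvd_abc D
  obtain ⟨h, ha, hb, hc⟩ := exists_h D
  have ha' : h * D.a * h⁻¹ = D.a := by rw [ha.eq, mul_inv_cancel_right]
  have hgc : D.g * D.c * D.g⁻¹ = D.c := by rw [D.g_c.eq, mul_inv_cancel_right]
  have word : ∀ (y : G) (i j k : ℕ), y * (D.a ^ i * D.b ^ j * D.c ^ k) * y⁻¹ =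
      (y * D.a * y⁻¹) ^ i * (y * D.b * y⁻¹) ^ j * (y * D.c * y⁻¹) ^ k := by
    intro y i j k
    rw [conj_pow, conj_pow, conj_pow]; group
  have a2 : D.a⁻¹ = D.a ^ 2 := (sq_eq_inv D.a3).symm
  have b2 : D.b⁻¹ = D.b ^ 2 := (sq_eq_inv D.b3).symm
  have c2 : D.c⁻¹ = D.c ^ 2 := (sq_eq_inv D.c3).symm
  have sq : ∀ i j k : ℕ, (D.a ^ i * D.b ^ j * D.c ^ k) ^ 2 =
      D.a ^ (i * 2) * D.b ^ (j * 2) * D.c ^ (k * 2) := by
    intro i j k
    rw [((D.comm_ac.pow_pow i k).mul_left (D.comm_bc.pow_pow j k)).mul_pow,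
      (D.comm_ab.pow_pow i j).mul_pow, ← pow_mul, ← pow_mul, ← pow_mul]
  have cube : ∀ i j k : ℕ, (D.a ^ i * D.b ^ j * D.c ^ k) ^ 3 = 1 := fun i j k =>
    D.A_cube (mul_mem (mul_mem (pow_mem D.aA i) (pow_mem D.bA j)) (pow_mem D.cA k))
  have p4 : ∀ {w : G}, w ^ 3 = 1 → w ^ 4 = w := fun {w} hw => by
    rw [pow_succ, hw, one_mul]
  have m111 : 3 ^ (3 + 1) ∣ Nat.card (centralizer {D.a ^ 1 * D.b ^ 1 * D.c ^ 1}) := by
    simpa using h0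
  have m221 : 3 ^ (3 + 1) ∣ Nat.card (centralizer {D.a ^ 2 * D.b ^ 2 * D.c ^ 1}) := by
    rw [← card_centralizer_conj (y := D.g)] at m111
    rw [word, D.g_a, D.g_b, hgc, a2, b2, pow_one, pow_one] at m111
    exact m111
  have m122 : 3 ^ (3 + 1) ∣ Nat.card (centralizer {D.a ^ 1 * D.b ^ 2 * D.c ^ 2}) := by
    have m := m111
    rw [← card_centralizer_conj (y := h)] at m
    rw [word, ha', hb, hc, b2, c2, pow_one, pow_one, pow_one] at m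
    rw [pow_one]; exact m
  have m212 : 3 ^ (3 + 1) ∣ Nat.card (centralizer {D.a ^ 2 * D.b ^ 1 * D.c ^ 2}) := by
    have m := m122
    rw [← card_centralizer_conj (y := D.g)] at m
    rw [word, D.g_a, D.g_b, hgc, a2, b2, pow_one, ← pow_mul, p4 D.b3] at m
    rw [pow_one]; exact m
  have m222 : 3 ^ (3 + 1) ∣ Nat.card (centralizer {D.a ^ 2 * D.b ^ 2 * D.c ^ 2}) := by
    have m : 3 ^ (3 + 1) ∣ Nat.card (centralizer {D.a ^ 1 * D.b ^ 1 * D.c ^ 1}) := by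
      simpa using h0
    rw [← card_centralizer_sq (cube 1 1 1), sq] at m
    exact m
  have m112 : 3 ^ (3 + 1) ∣ Nat.card (centralizer {D.a ^ 1 * D.b ^ 1 * D.c ^ 2}) := by
    have m := m221
    rw [← card_centralizer_sq (cube 2 2 1), sq, p4 D.a3, p4 D.b3] at m
    rw [pow_one, pow_one]; exact m
  have m211 : 3 ^ (3 + 1) ∣ Nat.card (centralizer {D.a ^ 2 * D.b ^ 1 * D.c ^ 1}) := by
    have m := m122
    rw [← card_centralizer_sq (cube 1 2 2), sq, p4 D.b3, p4 D.c3] at m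
    rw [pow_one, pow_one]; exact m
  have m121 : 3 ^ (3 + 1) ∣ Nat.card (centralizer {D.a ^ 1 * D.b ^ 2 * D.c ^ 1}) := by
    have m := m212
    rw [← card_centralizer_sq (cube 2 1 2), sq, p4 D.a3, p4 D.c3] at m
    rw [pow_one, pow_one]; exact m
  have m111' : 3 ^ (3 + 1) ∣ Nat.card (centralizer {D.a ^ 1 * D.b ^ 1 * D.c ^ 1}) := by
    simpa using h0
  rcases hi with rfl | rfl <;> rcases hj with rfl | rfl <;> rcases hk with rfl | rfl <;>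
    assumption

/-- elements of `A` conjugate to `r` have weight two -/
theorem weight [Finite G] (H1 : ∀ y, Commute y D.a → Commute y D.z) (i j k : Fin 3)
    (h : ∃ y, y * (D.a ^ (i : ℕ) * D.b ^ (j : ℕ) * D.c ^ (k : ℕ)) * y⁻¹ = D.r) :
    (i = 0 ∧ j ≠ 0 ∧ k ≠ 0) ∨ (i ≠ 0 ∧ j = 0 ∧ k ≠ 0) ∨ (i ≠ 0 ∧ j ≠ 0 ∧ k = 0) := by
  by_cases h3 : i ≠ 0 ∧ j ≠ 0 ∧ k ≠ 0
  · exfalso
    have hv : ∀ l : Fin 3, l ≠ 0 → (l : ℕ) = 1 ∨ (l : ℕ) = 2 := by decide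
    have h4 := dvd_weight_three D (hv i h3.1) (hv j h3.2.1) (hv k h3.2.2)
    obtain ⟨y, hy⟩ := h
    rw [← card_centralizer_conj (y := y), hy] at h4
    exact not_81_dvd D H1 h4
  · have hex : (∃ y, y * (D.a ^ (i : ℕ) * D.b ^ (j : ℕ) * D.c ^ (k : ℕ)) * y⁻¹ = D.a) → False :=
      fun h5 => not_of_conj_a D H1 h5 h
    fin_cases i <;> fin_cases j <;> fin_cases k
    all_goals first
      | decide
      | (exfalso
         revert h3
         decide)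
      | skip
    · exfalso
      obtain ⟨y, hy⟩ := h
      apply D.r_ne_one
      rw [← hy]; simp
    · exact absurd ⟨D.d, by simpa using D.d_c⟩ hex
    · exact absurd ⟨D.g * D.d, by simpa using conj_c2 D⟩ hex
    · exact absurd ⟨D.d⁻¹, by simpa using conj_b D⟩ hex
    · exact absurd ⟨D.g * D.d⁻¹, by simpa using conj_b2 D⟩ hex
    · exact absurd ⟨1, by simp⟩ hex
    · exact absurd ⟨D.g, by simpa using conj_a2 D⟩ hex

/-- an element inverting `r` and `x` -/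
theorem exists_inverting {x : G} (x1 : x * D.z * x⁻¹ = D.u) (x2 : x * D.u * x⁻¹ = D.u * D.z)
    (xr : Commute x D.r) : ∃ y, y * D.r * y⁻¹ = D.r⁻¹ ∧ y * x * y⁻¹ = x⁻¹ := by
  have x3 := x3' D x1 x2
  obtain ⟨i, -, j, hj, k, hk, hg⟩ := g_x D x1 x2 xr
  have xz : x⁻¹ * D.z = D.u * D.z * x⁻¹ := by
    calc x⁻¹ * D.z = x⁻¹ * (x * (D.u * D.z) * x⁻¹) := by rw [x3]
      _ = D.u * D.z * x⁻¹ := by group
  have xu : x⁻¹ * D.u = D.z * x⁻¹ := by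
    calc x⁻¹ * D.u = x⁻¹ * (x * D.z * x⁻¹) := by rw [x1]
      _ = D.z * x⁻¹ := by group
  have xuz : x⁻¹ * (D.u * D.z) = D.u * x⁻¹ := by
    calc x⁻¹ * (D.u * D.z) = x⁻¹ * (x * D.u * x⁻¹) := by rw [x2]
      _ = D.u * x⁻¹ := by group
  have hri : ∀ v, Commute v D.r → v * D.r ^ i = D.r ^ i * v := fun v hv => (hv.pow_right i).eq
  obtain ⟨v, hvr, hv⟩ : ∃ v, Commute v D.r ∧
      v * (D.r ^ i * D.u ^ j * D.z ^ k * x⁻¹) * v⁻¹ = D.r ^ i * x⁻¹ := by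
    interval_cases j <;> interval_cases k
    · exact ⟨1, Commute.one_left _, by simp⟩
    · refine ⟨D.u * D.z, (D.ru.mul_right D.rz).symm, ?_⟩
      have e : (D.u * D.z)⁻¹ = D.u * D.z := by
        rw [mul_inv_rev, D.u_inv, D.z_inv, D.uz.eq]
      rw [e, pow_zero, pow_one, mul_one]
      calc D.u * D.z * (D.r ^ i * D.z * x⁻¹) * (D.u * D.z)
          = (D.u * D.z * D.r ^ i) * D.z * (x⁻¹ * (D.u * D.z)) := by group
        _ = D.r ^ i * (D.u * D.z) * D.z * (D.u * x⁻¹) := by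
          rw [xuz, hri _ (D.ru.mul_right D.rz).symm]
        _ = D.r ^ i * D.u * (D.z * D.z) * D.u * x⁻¹ := by group
        _ = D.r ^ i * (D.u * D.u) * x⁻¹ := by rw [D.zz]; group
        _ = D.r ^ i * x⁻¹ := by rw [D.uu, mul_one]
    · refine ⟨D.z, D.rz.symm, ?_⟩
      rw [D.z_inv, pow_zero, pow_one, mul_one]
      calc D.z * (D.r ^ i * D.u * x⁻¹) * D.z = (D.z * D.r ^ i) * D.u * (x⁻¹ * D.z) := by group
        _ = D.r ^ i * D.z * D.u * (D.u * D.z * x⁻¹) := by rw [xz, hri _ D.rz.symm]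
        _ = D.r ^ i * D.z * (D.u * D.u) * D.z * x⁻¹ := by group
        _ = D.r ^ i * (D.z * D.z) * x⁻¹ := by rw [D.uu]; group
        _ = D.r ^ i * x⁻¹ := by rw [D.zz, mul_one]
    · refine ⟨D.u, D.ru.symm, ?_⟩
      rw [D.u_inv, pow_one, pow_one]
      calc D.u * (D.r ^ i * D.u * D.z * x⁻¹) * D.u
          = (D.u * D.r ^ i) * D.u * D.z * (x⁻¹ * D.u) := by group
        _ = D.r ^ i * D.u * D.u * D.z * (D.z * x⁻¹) := by rw [xu, hri _ D.ru.symm]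
        _ = D.r ^ i * (D.u * D.u) * (D.z * D.z) * x⁻¹ := by group
        _ = D.r ^ i * x⁻¹ := by rw [D.uu, D.zz, mul_one, mul_one]
  set t := v * D.g with ht
  have tr : t * D.r * t⁻¹ = D.r⁻¹ := by
    calc t * D.r * t⁻¹ = v * (D.g * D.r * D.g⁻¹) * v⁻¹ := by rw [ht]; group
      _ = D.r⁻¹ := by rw [D.g_r, hvr.inv_right.eq, mul_inv_cancel_right]
  have tx : t * x * t⁻¹ = D.r ^ i * x⁻¹ := by
    calc t * x * t⁻¹ = v * (D.g * x * D.g⁻¹) * v⁻¹ := by rw [ht]; group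
      _ = D.r ^ i * x⁻¹ := by rw [hg, hv]
  have txi : t * x⁻¹ * t⁻¹ = x * (D.r ^ i)⁻¹ := by
    calc t * x⁻¹ * t⁻¹ = (t * x * t⁻¹)⁻¹ := by group
      _ = x * (D.r ^ i)⁻¹ := by rw [tx]; group
  have tri : t * D.r ^ i * t⁻¹ = (D.r ^ i)⁻¹ := by
    rw [← conj_pow, tr, inv_pow]
  have trii : t * (D.r ^ i)⁻¹ * t⁻¹ = D.r ^ i := by
    calc t * (D.r ^ i)⁻¹ * t⁻¹ = (t * D.r ^ i * t⁻¹)⁻¹ := by group
      _ = D.r ^ i := by rw [tri, inv_inv]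
  clear_value t
  have hc : Commute x (D.r ^ i) := xr.pow_right i
  have hr3 : D.r ^ i * D.r ^ i * D.r ^ i = 1 := by
    rw [← pow_add, ← pow_add]
    have : i + i + i = 3 * i := by ring
    rw [this, pow_mul, D.r3, one_pow]
  set q := D.r ^ i with hq
  clear_value q
  refine ⟨t * t * t, ?_, ?_⟩
  · have tr' : t * D.r⁻¹ * t⁻¹ = D.r := by
      calc t * D.r⁻¹ * t⁻¹ = (t * D.r * t⁻¹)⁻¹ := by group
        _ = D.r := by rw [tr, inv_inv]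
    calc t * t * t * D.r * (t * t * t)⁻¹ = t * (t * (t * D.r * t⁻¹) * t⁻¹) * t⁻¹ := by group
      _ = D.r⁻¹ := by rw [tr, tr', tr]
  · calc t * t * t * x * (t * t * t)⁻¹ = t * (t * (t * x * t⁻¹) * t⁻¹) * t⁻¹ := by group
      _ = t * ((t * q * t⁻¹) * (t * x⁻¹ * t⁻¹)) * t⁻¹ := by rw [tx]; group
      _ = (t * q⁻¹ * t⁻¹) * (t * x * t⁻¹) * (t * q⁻¹ * t⁻¹) := by rw [tri, txi]; group
      _ = q * (q * x⁻¹) * q := by rw [trii, tx]
      _ = q * q * (x⁻¹ * q) := by group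
      _ = q * q * (q * x⁻¹) := by rw [hc.inv_left.eq]
      _ = q * q * q * x⁻¹ := by group
      _ = x⁻¹ := by rw [hr3, one_mul]

/-- The final contradiction in the first case. -/
theorem caseTwo [Finite G] (H1 : ∀ y, Commute y D.a → Commute y D.z)
    (hu : ∃ y, y * D.z * y⁻¹ = D.u) : False := by
  obtain ⟨x, x1, x2, xr, k, hxk⟩ := exists_x D hu
  obtain ⟨w, hw, hwA⟩ := conj_into_A D H1 xr hxk
  have x3 : x ^ 3 = 1 := by
    have h1 := D.A_cube hwA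
    rw [conj_pow] at h1
    calc x ^ 3 = w⁻¹ * (w * x ^ 3 * w⁻¹) * w := by group
      _ = 1 := by rw [h1]; group
  obtain ⟨i, j, l, hijl⟩ := D.mem_A.1 hwA
  have hwr : w * D.r * w⁻¹ = D.r := by rw [hw.eq, mul_inv_cancel_right]
  -- the elements `x r ^ s`
  have key : ∀ s : ℕ, w * (x * D.r ^ s) * w⁻¹ =
      D.a ^ ((i + s : ℕ)) * D.b ^ ((j + s : ℕ)) * D.c ^ (l : ℕ) := by
    intro s
    have e : w * (x * D.r ^ s) * w⁻¹ = (w * x * w⁻¹) * (w * D.r * w⁻¹) ^ s := by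
      rw [conj_pow]; group
    rw [e, hijl, hwr, Data.r, D.comm_ab.mul_pow, pow_add, pow_add]
    have c1 := (D.comm_ac.pow_pow s l).eq
    have c2 := (D.comm_bc.pow_pow s l).eq
    have c3 := (D.comm_ab.pow_pow s j).eq
    calc D.a ^ (i : ℕ) * D.b ^ (j : ℕ) * D.c ^ (l : ℕ) * (D.a ^ s * D.b ^ s)
        = D.a ^ (i : ℕ) * D.b ^ (j : ℕ) * (D.c ^ (l : ℕ) * D.a ^ s) * D.b ^ s := by group
      _ = D.a ^ (i : ℕ) * D.b ^ (j : ℕ) * D.a ^ s * (D.c ^ (l : ℕ) * D.b ^ s) := by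
        rw [← c1]; group
      _ = D.a ^ (i : ℕ) * (D.b ^ (j : ℕ) * D.a ^ s) * D.b ^ s * D.c ^ (l : ℕ) := by
        rw [← c2]; group
      _ = _ := by rw [← c3]; group
  have hwt : ∀ s : ℕ, (∃ y, y * (x * D.r ^ s) * y⁻¹ = D.r) →
      ((i + s) % 3 = 0 ∧ (j + s) % 3 ≠ 0 ∧ (l : ℕ) ≠ 0) ∨
      ((i + s) % 3 ≠ 0 ∧ (j + s) % 3 = 0 ∧ (l : ℕ) ≠ 0) ∨
      ((i + s) % 3 ≠ 0 ∧ (j + s) % 3 ≠ 0 ∧ (l : ℕ) = 0) := by
    rintro s ⟨y, hy⟩
    have h1 := weight D H1 ⟨(i + s) % 3, Nat.mod_lt _ (by omega)⟩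
      ⟨(j + s) % 3, Nat.mod_lt _ (by omega)⟩ l ⟨y * w⁻¹, by
        simp only [pow_mod D.a3, pow_mod D.b3]
        rw [← key s]
        calc y * w⁻¹ * (w * (x * D.r ^ s) * w⁻¹) * (y * w⁻¹)⁻¹ = y * (x * D.r ^ s) * y⁻¹ := by
              group
          _ = D.r := hy⟩
    simp only [ne_eq, Fin.ext_iff, Fin.val_zero] at h1
    exact h1
  obtain ⟨s, hs, t, ht, hst, hs', ht'⟩ := FuseX.exists_two D x1 x2 xr x3 hu
  have ws := hwt s hs'
  have wt := hwt t ht'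
  have hi := i.2
  have hj := j.2
  have hl3 := l.2
  -- so `l ≠ 0` and `i ≠ j`
  have hl : (l : ℕ) ≠ 0 := by
    intro hl0
    have e1 : (i + s) % 3 ≠ 0 ∧ (j + s) % 3 ≠ 0 := by tauto
    have e2 : (i + t) % 3 ≠ 0 ∧ (j + t) % 3 ≠ 0 := by tauto
    have hij : (i : ℕ) = j := by omega
    have h1 : w * x * w⁻¹ = w * D.r ^ (i : ℕ) * w⁻¹ := by
      rw [hijl, hl0, ← conj_pow, hwr, Data.r, D.comm_ab.mul_pow, hij, pow_zero, mul_one]
    have h2 : x = D.r ^ (i : ℕ) := mul_left_cancel (mul_right_cancel h1)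
    rw [h2, (D.rz.pow_left _).eq, mul_inv_cancel_right] at x1
    exact D.u_ne_z x1.symm
  have hij : (i : ℕ) ≠ j := by omega
  -- the plane
  set s0 := (3 - (j : ℕ)) % 3 with hs0
  have hj0 : (j + s0) % 3 = 0 := by omega
  have hi0 : (i + s0) % 3 ≠ 0 := by omega
  set q := (i + s0) % 3 with hq
  have hq12 : q = 1 ∨ q = 2 := by omega
  have hqq : ((i + s0) * q) % 3 = 1 := by
    rw [Nat.mul_mod, ← hq]
    rcases hq12 with h | h <;> simp [h]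
  have hjq : ((j + s0) * q) % 3 = 0 := by
    rw [Nat.mul_mod, hj0]; simp
  set e := (l * q) % 3 with he
  have he12 : e = 1 ∨ e = 2 := by
    have hl12 : (l : ℕ) = 1 ∨ (l : ℕ) = 2 := by omega
    rw [he]
    rcases hl12 with h | h <;> rcases hq12 with h' | h' <;> simp [h, h']
  have plane : w * (x * D.r ^ s0) ^ q * w⁻¹ = D.a * D.c ^ e := by
    rw [← conj_pow, key s0, ((D.comm_ac.pow_pow _ _).mul_left (D.comm_bc.pow_pow _ _)).mul_pow,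
      (D.comm_ab.pow_pow _ _).mul_pow, ← pow_mul, ← pow_mul, ← pow_mul, ← pow_mod D.a3, hqq,
      ← pow_mod D.b3, hjq, ← pow_mod D.c3, ← he, pow_one, pow_zero, mul_one]
  obtain ⟨y, yr, yx⟩ := exists_inverting D x1 x2 xr
  have yr' : ∀ n : ℕ, y * D.r ^ n * y⁻¹ = (D.r ^ n)⁻¹ := by
    intro n; rw [← conj_pow, yr, inv_pow]
  have yxr : y * (x * D.r ^ s0) * y⁻¹ = (x * D.r ^ s0)⁻¹ := by
    calc y * (x * D.r ^ s0) * y⁻¹ = (y * x * y⁻¹) * (y * D.r ^ s0 * y⁻¹) := by group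
      _ = (x * D.r ^ s0)⁻¹ := by
        rw [yx, yr', (xr.pow_right s0).inv_inv.eq, ← mul_inv_rev]
  refine not_inverts_plane D he12 (y := w * y * w⁻¹) ?_ ?_
  · calc w * y * w⁻¹ * D.r * (w * y * w⁻¹)⁻¹
        = w * y * (w⁻¹ * D.r * w) * y⁻¹ * w⁻¹ := by group
      _ = w * (y * D.r * y⁻¹) * w⁻¹ := by
        have : w⁻¹ * D.r * w = D.r := by
          calc w⁻¹ * D.r * w = w⁻¹ * (w * D.r * w⁻¹) * w := by rw [hwr]
            _ = D.r := by group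
        rw [this]; group
      _ = (w * D.r * w⁻¹)⁻¹ := by rw [yr]; group
      _ = D.r⁻¹ := by rw [hwr]
  · rw [← plane]
    calc w * y * w⁻¹ * (w * (x * D.r ^ s0) ^ q * w⁻¹) * (w * y * w⁻¹)⁻¹
        = w * (y * (x * D.r ^ s0) ^ q * y⁻¹) * w⁻¹ := by group
      _ = w * ((x * D.r ^ s0)⁻¹) ^ q * w⁻¹ := by rw [← conj_pow, yxr]
      _ = (w * (x * D.r ^ s0) ^ q * w⁻¹)⁻¹ := by rw [inv_pow]; group

end Cfsg.Agent.SporRec.TwoNine.CaseTwo
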