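import Cfsg.Agent.SporRec.TwoNine.Gen

/-!
# Counting lemmas
-/

set_option autoImplicit false

namespace Cfsg.Agent.SporRec.TwoNine.Count

open Subgroup

variable {G : Type*} [Group G]

/-- A set on which `q` acts by conjugation, its square inverting all elements (none of which is an
involution or trivial), has cardinality divisible by four. -/
theorem four_dvd [Finite G] (S : Set G) (q z : G) (hq : q * q = z) (hz : z * z = 1)
    (hqS : ∀ s ∈ S, q * s * q⁻¹ ∈ S) (hinv : ∀ s ∈ S, z * s * z⁻¹ = s⁻¹)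
    (hne : ∀ s ∈ S, s⁻¹ ≠ s) : 4 ∣ Nat.card S := by
  rcases S.eq_empty_or_nonempty with rfl | ⟨s0, hs0⟩
  · simp
  have hz1 : z ≠ 1 := by
    rintro rfl
    apply hne s0 hs0
    rw [← hinv s0 hs0]; group
  have hq4 : q ^ 4 = 1 := by
    calc q ^ 4 = q * q * (q * q) := by simp only [pow_succ, pow_zero, one_mul, mul_assoc]
      _ = 1 := by rw [hq, hz]
  have ho : orderOf q = 4 := by
    have h1 : orderOf q = 2 ^ (1 + 1) := orderOf_eq_prime_pow (p := 2) (n := 1) (by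
      rw [pow_one, pow_two, hq]; exact hz1) (by exact hq4)
    rw [h1]; rfl
  have hpow : ∀ (k : ℕ), ∀ s ∈ S, q ^ k * s * (q ^ k)⁻¹ ∈ S := by
    intro k
    induction k with
    | zero => intro s hs; simpa using hs
    | succ k ih =>
      intro s hs
      have h1 := ih _ (hqS s hs)
      have h2 : q ^ k * (q * s * q⁻¹) * (q ^ k)⁻¹ = q ^ (k + 1) * s * (q ^ (k + 1))⁻¹ := by
        rw [pow_succ]; group
      rwa [h2] at h1
  have hzp : ∀ g ∈ zpowers q, ∃ k : ℕ, g = q ^ k := by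
    intro g hg
    obtain ⟨k, hk⟩ := mem_powers_iff_mem_zpowers.2 hg
    exact ⟨k, hk.symm⟩
  let act : MulAction (zpowers q) S :=
    { smul := fun g s => ⟨(g : G) * (s : G) * (g : G)⁻¹, by
        obtain ⟨k, hk⟩ := hzp g g.2
        rw [hk]; exact hpow k s s.2⟩
      one_smul := fun s => Subtype.ext (by
        change (1 : G) * (s : G) * (1 : G)⁻¹ = s
        simp)
      mul_smul := fun g h s => Subtype.ext (by
        change ((g : G) * (h : G)) * (s : G) * ((g : G) * (h : G))⁻¹ =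
          (g : G) * ((h : G) * (s : G) * (h : G)⁻¹) * (g : G)⁻¹
        group) }
  have hfree : ∀ s : S, MulAction.stabilizer (zpowers q) s = ⊥ := by
    intro s
    rw [eq_bot_iff]
    rintro ⟨g, hg⟩ hgs
    obtain ⟨k, hk⟩ := hzp g hg
    have h1 : g * (s : G) * g⁻¹ = s := congrArg Subtype.val (MulAction.mem_stabilizer_iff.1 hgs)
    have hqk : q ^ (k % 4) = g := by
      rw [hk]
      conv_rhs => rw [← Nat.mod_add_div k 4, pow_add, pow_mul, hq4, one_pow, mul_one]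
    have hnz : ¬ z * (s : G) * z⁻¹ = s := by
      rw [hinv s s.2]; exact hne s s.2
    have hk4 : k % 4 < 4 := Nat.mod_lt _ (by omega)
    have h2 : g * g * (s : G) * (g * g)⁻¹ = s := by
      calc g * g * (s : G) * (g * g)⁻¹ = g * (g * (s : G) * g⁻¹) * g⁻¹ := by group
        _ = s := by rw [h1, h1]
    interval_cases (k % 4)
    · rw [mem_bot]
      exact Subtype.ext (by change g = 1; rw [← hqk, pow_zero])
    · exfalso
      rw [← hqk, pow_one, hq] at h2
      exact hnz h2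
    · exfalso
      rw [← hqk, pow_two, hq] at h1
      exact hnz h1
    · exfalso
      have h3 : g * g = z := by
        rw [← hqk, ← pow_add]
        calc q ^ (3 + 3) = q ^ 4 * (q * q) := by
              simp only [pow_succ, pow_zero, one_mul, mul_assoc]
          _ = z := by rw [hq4, hq, one_mul]
      rw [h3] at h2
      exact hnz h2
  have e := MulAction.selfEquivOrbitsQuotientProd hfree
  rw [Nat.card_congr e, Nat.card_prod, Nat.card_zpowers, ho]
  exact dvd_mul_left _ _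

/-- the `p`-part of an abelian subgroup -/
theorem exists_pPart [Finite G] (B : Subgroup G) (hB : ∀ x ∈ B, ∀ y ∈ B, Commute x y) (p : ℕ)
    [hp : Fact p.Prime] : ∃ P ≤ B, Nat.card P = p ^ (Nat.card B).factorization p ∧
      ∀ g, (∀ x ∈ B, g * x * g⁻¹ ∈ B) → ∀ x ∈ P, g * x * g⁻¹ ∈ P := by
  set f := (Nat.card B).factorization p with hf
  let P : Subgroup G :=
    { carrier := {x | x ∈ B ∧ x ^ p ^ f = 1}
      one_mem' := ⟨one_mem _, one_pow _⟩
      mul_mem' := by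
        rintro x y ⟨hx, hx'⟩ ⟨hy, hy'⟩
        exact ⟨mul_mem hx hy, by rw [(hB x hx y hy).mul_pow, hx', hy', one_mul]⟩
      inv_mem' := by
        rintro x ⟨hx, hx'⟩
        exact ⟨inv_mem hx, by rw [inv_pow, hx', inv_one]⟩ }
  have memP : ∀ {x : G}, x ∈ P ↔ x ∈ B ∧ x ^ p ^ f = 1 := Iff.rfl
  have hPB : P ≤ B := fun x hx => (memP.1 hx).1
  refine ⟨P, hPB, ?_, ?_⟩
  · have h1 : IsPGroup p P := by
      rintro ⟨x, hx⟩
      exact ⟨f, Subtype.ext (by simpa using (memP.1 hx).2)⟩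
    obtain ⟨n, hn⟩ := IsPGroup.iff_card.1 h1
    rw [hn]
    congr 1
    apply le_antisymm
    · have h2 : p ^ n ∣ Nat.card B := by
        rw [← hn]; exact card_dvd_of_le hPB
      exact (Nat.Prime.pow_dvd_iff_le_factorization hp.1 Nat.card_pos.ne').1 h2
    · obtain ⟨Q⟩ : Nonempty (Sylow p B) := inferInstance
      have h3 : Nat.card Q = p ^ f := Q.card_eq_multiplicity
      have h4 : (Q : Subgroup B).map B.subtype ≤ P := by
        rintro _ ⟨y, hy, rfl⟩
        refine memP.2 ⟨y.2, ?_⟩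
        have h5 : (⟨y, hy⟩ : Q) ^ Nat.card Q = 1 := pow_card_eq_one'
        rw [h3] at h5
        have h6 := congrArg (fun w : Q => ((w : B) : G)) h5
        simpa using h6
      have h5 : Nat.card ((Q : Subgroup B).map B.subtype) = p ^ f := by
        rw [← h3]
        exact (Nat.card_congr ((Q : Subgroup B).equivMapOfInjective B.subtype
          B.subtype_injective).toEquiv).symm
      have h6 := card_dvd_of_le h4
      rw [h5, hn] at h6
      exact (Nat.pow_dvd_pow_iff_le_right hp.1.one_lt).1 h6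
  · rintro g hg x hx
    obtain ⟨hx1, hx2⟩ := memP.1 hx
    exact memP.2 ⟨hg x hx1, by rw [conj_pow, hx2]; group⟩

/-- a subgroup of prime order cannot be acted on by `q₁`, `q₂` with commutator inverting it -/
theorem card_ne_prime [Finite G] {P : Subgroup G} {p : ℕ} (hp : p.Prime) (hodd : Odd p) {q₁ q₂ z : G}
    (h1 : ∀ x ∈ P, q₁ * x * q₁⁻¹ ∈ P) (h2 : ∀ x ∈ P, q₂ * x * q₂⁻¹ ∈ P)
    (hc : q₁ * q₂ = q₂ * q₁ * z) (hinv : ∀ x ∈ P, z * x * z⁻¹ = x⁻¹) : Nat.card P ≠ p := by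
  intro hP
  have hpf : Fact p.Prime := ⟨hp⟩
  have hcyc : IsCyclic P := isCyclic_of_prime_card hP
  obtain ⟨⟨b, hb⟩, hgen⟩ := hcyc.exists_generator
  have key : ∀ x ∈ P, ∃ k : ℤ, b ^ k = x := by
    intro x hx
    obtain ⟨k, hk⟩ := hgen ⟨x, hx⟩
    exact ⟨k, congrArg Subtype.val hk⟩
  obtain ⟨s, hs⟩ := key _ (h1 b hb)
  obtain ⟨t, ht⟩ := key _ (h2 b hb)
  have e1 : q₁ * q₂ * b * (q₁ * q₂)⁻¹ = b ^ (s * t) := by
    calc q₁ * q₂ * b * (q₁ * q₂)⁻¹ = q₁ * (q₂ * b * q₂⁻¹) * q₁⁻¹ := by group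
      _ = (q₁ * b * q₁⁻¹) ^ t := by rw [← ht, conj_zpow]
      _ = b ^ (s * t) := by rw [← hs, zpow_mul]
  have e2 : q₂ * q₁ * b * (q₂ * q₁)⁻¹ = b ^ (s * t) := by
    calc q₂ * q₁ * b * (q₂ * q₁)⁻¹ = q₂ * (q₁ * b * q₁⁻¹) * q₂⁻¹ := by group
      _ = (q₂ * b * q₂⁻¹) ^ s := by rw [← hs, conj_zpow]
      _ = b ^ (s * t) := by rw [← ht, mul_comm s t, zpow_mul]
  have e3 : q₁ * q₂ * b * (q₁ * q₂)⁻¹ = (q₂ * q₁ * b * (q₂ * q₁)⁻¹)⁻¹ := by
    calc q₁ * q₂ * b * (q₁ * q₂)⁻¹ = q₂ * q₁ * (z * b * z⁻¹) * (q₂ * q₁)⁻¹ := by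
          rw [hc]; group
      _ = _ := by rw [hinv b hb]; group
  have hbodd : Odd (orderOf b) := Gen.orderOf_odd_of_mem (N := P) (by rw [hP]; exact hodd) hb
  have e4 : q₂ * q₁ * b * (q₂ * q₁)⁻¹ = 1 := by
    have h3 : Odd (orderOf (b ^ (s * t))) := by
      refine Odd.of_dvd_nat hbodd ?_
      exact orderOf_dvd_of_pow_eq_one (by
        rw [← zpow_natCast, ← zpow_mul, mul_comm, zpow_mul, zpow_natCast, pow_orderOf_eq_one,
          one_zpow])
    rw [← e2] at h3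
    refine Gen.eq_one_of_odd h3 ?_
    nth_rewrite 1 [e2, ← e1, e3]
    rw [inv_mul_cancel]
  have e5 : b = 1 := by
    calc b = (q₂ * q₁)⁻¹ * (q₂ * q₁ * b * (q₂ * q₁)⁻¹) * (q₂ * q₁) := by group
      _ = 1 := by rw [e4]; group
  have h3 : Nat.card P = 1 := by
    rw [Nat.card_eq_one_iff_unique]
    refine ⟨⟨?_⟩, ⟨1⟩⟩
    intro x y
    have h4 : ∀ x : P, x = 1 := by
      rintro ⟨x, hx⟩
      obtain ⟨k, hk⟩ := key x hx
      exact Subtype.ext (by change x = 1; rw [← hk, e5, one_zpow])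
    rw [h4 x, h4 y]
  rw [hP] at h3
  exact hp.one_lt.ne' h3

end Cfsg.Agent.SporRec.TwoNine.Count
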