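import Cfsg.Agent.SporRec.TwoNine.Gen
import Cfsg.Agent.Lib.KleinGen

/-!
# Counting lemmas, continued
-/

set_option autoImplicit false

namespace Cfsg.Agent.SporRec.TwoNine.Count2

open Subgroup
open Cfsg.Agent.Lib

variable {G : Type*} [Group G]

/-- An involution acting on a group of odd order. -/
theorem card_inv [Finite G] (L : Subgroup G) (hodd : Odd (Nat.card L)) {z : G} (hz : z * z = 1)
    (hL : ∀ x ∈ L, z * x * z⁻¹ ∈ L) :
    Nat.card L = Nat.card (L ⊓ centralizer {z} : Subgroup G) *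
      Nat.card {x : G | x ∈ L ∧ z * x * z⁻¹ = x⁻¹} := by
  rw [← Nat.card_prod]
  refine (Nat.card_congr (Equiv.ofBijective
    (fun t : (L ⊓ centralizer {z} : Subgroup G) × {x : G | x ∈ L ∧ z * x * z⁻¹ = x⁻¹} =>
      (⟨(t.1 : G) * (t.2 : G), mul_mem (mem_inf.1 t.1.2).1 t.2.2.1⟩ : L)) ⟨?_, ?_⟩)).symm
  · rintro ⟨⟨c, hc⟩, ⟨k, hk, hkz⟩⟩ ⟨⟨c', hc'⟩, ⟨k', hk', hkz'⟩⟩ h
    have e : c * k = c' * k' := congrArg Subtype.val h
    have hcz : Commute c z := mem_centralizer_singleton_iff.1 (mem_inf.1 hc).2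
    have hcz' : Commute c' z := mem_centralizer_singleton_iff.1 (mem_inf.1 hc').2
    have key : ∀ {c k : G}, Commute c z → z * k * z⁻¹ = k⁻¹ → (z * (c * k) * z⁻¹)⁻¹ * (c * k) =
        k * k := by
      intro c k hc hk
      have h1 : z * (c * k) * z⁻¹ = c * k⁻¹ := by
        calc z * (c * k) * z⁻¹ = (z * c) * k * z⁻¹ := by group
          _ = (c * z) * k * z⁻¹ := by rw [hc.eq]
          _ = c * (z * k * z⁻¹) := by group
          _ = c * k⁻¹ := by rw [hk]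
      rw [h1]; group
    have h1 : k * k = k' * k' := by rw [← key hcz hkz, ← key hcz' hkz', e]
    have h2 : k = k' := KleinGen.eq_of_mul_self_eq hodd hk hk' h1
    subst h2
    have h3 : c = c' := mul_right_cancel e
    subst h3
    rfl
  · rintro ⟨x, hx⟩
    obtain ⟨c, hc, k, hk, hcz, hkz, rfl⟩ :=
      KleinGen.exists_centralizer_mul_inverted L hodd z hz hL hx
    exact ⟨⟨⟨c, mem_inf.2 ⟨hc, mem_centralizer_singleton_iff.2 hcz.symm⟩⟩, ⟨k, hk, hkz⟩⟩, rfl⟩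

theorem card_le_of_subset_mul [Finite G] (H A B : Subgroup G)
    (h : ∀ x ∈ H, ∃ a ∈ A, ∃ b ∈ B, x = a * b) :
    Nat.card H * Nat.card (A ⊓ B : Subgroup G) ≤ Nat.card A * Nat.card B := by
  choose! a ha b hb hab using h
  rw [← Nat.card_prod, ← Nat.card_prod]
  refine Nat.card_le_card_of_injective (fun t : H × (A ⊓ B : Subgroup G) =>
    ((⟨a t.1 * t.2, mul_mem (ha _ t.1.2) (mem_inf.1 t.2.2).1⟩ : A),
      (⟨(t.2 : G)⁻¹ * b t.1, mul_mem (inv_mem (mem_inf.1 t.2.2).2) (hb _ t.1.2)⟩ : B))) ?_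
  rintro ⟨⟨x, hx⟩, ⟨w, hw⟩⟩ ⟨⟨x', hx'⟩, ⟨w', hw'⟩⟩ h
  have h1 : a x * w = a x' * w' := congrArg (fun t : A × B => ((t.1 : A) : G)) h
  have h2 : w⁻¹ * b x = w'⁻¹ * b x' := congrArg (fun t : A × B => ((t.2 : B) : G)) h
  have h3 : x = x' := by
    calc x = a x * w * (w⁻¹ * b x) := by rw [← mul_assoc, mul_inv_cancel_right]; exact hab x hx
      _ = a x' * w' * (w'⁻¹ * b x') := by rw [h1, h2]
      _ = x' := by rw [← mul_assoc, mul_inv_cancel_right]; exact (hab x' hx').symm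
  subst h3
  have h4 : w = w' := mul_left_cancel h1
  subst h4
  rfl

theorem card_mul_le [Finite G] {H A B : Subgroup G} (hA : A ≤ H) (hB : B ≤ H) :
    Nat.card A * Nat.card B ≤ Nat.card H * Nat.card (A ⊓ B : Subgroup G) := by
  -- choose a representation of every product
  have h : ∀ x : G, (∃ a ∈ A, ∃ b ∈ B, x = a * b) → ∃ a ∈ A, ∃ b ∈ B, x = a * b := fun _ h => h
  choose! a ha b hb hab using h
  rw [← Nat.card_prod, ← Nat.card_prod]
  have hex : ∀ t : A × B, ∃ a ∈ A, ∃ b ∈ B, ((t.1 : G) * (t.2 : G)) = a * b :=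
    fun t => ⟨t.1, t.1.2, t.2, t.2.2, rfl⟩
  refine Nat.card_le_card_of_injective (fun t : A × B =>
    ((⟨(t.1 : G) * (t.2 : G), mul_mem (hA t.1.2) (hB t.2.2)⟩ : H),
      (⟨(t.1 : G)⁻¹ * a ((t.1 : G) * (t.2 : G)), mem_inf.2 ⟨mul_mem (inv_mem t.1.2) (ha _ (hex t)),
        ?_⟩⟩ : (A ⊓ B : Subgroup G)))) ?_
  · have h1 := hab _ (hex t)
    have h2 : (t.1 : G)⁻¹ * a ((t.1 : G) * (t.2 : G)) =
        (t.2 : G) * (b ((t.1 : G) * (t.2 : G)))⁻¹ := by
      calc (t.1 : G)⁻¹ * a ((t.1 : G) * (t.2 : G)) = (t.1 : G)⁻¹ *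
            (a ((t.1 : G) * (t.2 : G)) * b ((t.1 : G) * (t.2 : G))) *
            (b ((t.1 : G) * (t.2 : G)))⁻¹ := by group
        _ = (t.1 : G)⁻¹ * ((t.1 : G) * (t.2 : G)) * (b ((t.1 : G) * (t.2 : G)))⁻¹ := by rw [← h1]
        _ = _ := by group
    rw [h2]
    exact mul_mem t.2.2 (inv_mem (hb _ (hex t)))
  · rintro ⟨⟨x, hx⟩, ⟨y, hy⟩⟩ ⟨⟨x', hx'⟩, ⟨y', hy'⟩⟩ h
    have h1 : x * y = x' * y' := congrArg (fun t : H × (A ⊓ B : Subgroup G) => ((t.1 : H) : G)) h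
    have h2 : x⁻¹ * a (x * y) = x'⁻¹ * a (x' * y') :=
      congrArg (fun t : H × (A ⊓ B : Subgroup G) => ((t.2 : (A ⊓ B : Subgroup G)) : G)) h
    rw [← h1] at h2
    have h3 : x = x' := inv_injective (mul_right_cancel h2)
    subst h3
    have h4 : y = y' := mul_left_cancel h1
    subst h4
    rfl

/-- a 3-group acting by conjugation on a set -/
theorem card_modEq [Finite G] {T : Subgroup G} (hT : IsPGroup 3 T) (S : Set G)
    (hS : ∀ t ∈ T, ∀ x ∈ S, t * x * t⁻¹ ∈ S) :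
    Nat.card S ≡ Nat.card {x : G | x ∈ S ∧ ∀ t ∈ T, Commute t x} [MOD 3] := by
  have hf3 : Fact (Nat.Prime 3) := ⟨by norm_num⟩
  let act : MulAction T S :=
    { smul := fun g x => ⟨(g : G) * (x : G) * (g : G)⁻¹, hS g g.2 x x.2⟩
      one_smul := fun x => Subtype.ext (by
        change (1 : G) * (x : G) * (1 : G)⁻¹ = x
        simp)
      mul_smul := fun g h x => Subtype.ext (by
        change ((g : G) * (h : G)) * (x : G) * ((g : G) * (h : G))⁻¹ =
          (g : G) * ((h : G) * (x : G) * (h : G)⁻¹) * (g : G)⁻¹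
        group) }
  have hmod := hT.card_modEq_card_fixedPoints (α := S)
  have hfix : Nat.card (MulAction.fixedPoints T S) =
      Nat.card {x : G | x ∈ S ∧ ∀ t ∈ T, Commute t x} := by
    refine Nat.card_congr ⟨fun x => ⟨((x : S) : G), (x : S).2, fun t ht => ?_⟩,
      fun x => ⟨⟨x, x.2.1⟩, fun t => ?_⟩, ?_, ?_⟩
    · have h1 := x.2 ⟨t, ht⟩
      have h2 : t * ((x : S) : G) * t⁻¹ = ((x : S) : G) := congrArg Subtype.val h1
      exact mul_inv_eq_iff_eq_mul.1 h2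
    · refine Subtype.ext ?_
      change (t : G) * (x : G) * (t : G)⁻¹ = x
      rw [(x.2.2 t t.2).eq, mul_inv_cancel_right]
    · intro x; rfl
    · intro x; rfl
  rw [hfix] at hmod
  exact hmod

theorem odd_card_of_forall [Finite G] {M : Subgroup G} (h : ∀ x ∈ M, Odd (orderOf x)) :
    Odd (Nat.card M) := by
  rw [← Nat.not_even_iff_odd]
  intro he
  have h2 : Fact (Nat.Prime 2) := ⟨Nat.prime_two⟩
  obtain ⟨x, hx⟩ := exists_prime_orderOf_dvd_card' 2 (even_iff_two_dvd.1 he)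
  have h3 := h x x.2
  rw [orderOf_coe, hx] at h3
  exact absurd h3 (by decide)

end Cfsg.Agent.SporRec.TwoNine.Count2
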