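import Cfsg.Agent.SporadicRecognition.AltCover

/-!
# Involution centralisers isomorphic to a double cover of an alternating group: element-wise interface

`Cv n z p`: the function `p : G → Perm (Fin n)` restricts to a homomorphism of the centraliser of the
involution `z` onto the alternating group with kernel `{1, z}`, and elements over double transpositions
have square `z`.
-/

set_option autoImplicit false

namespace Cfsg.Agent.SporRec.TwoNine.Cv

open Equiv Equiv.Perm

/-- `p` restricts to a non-split double cover of the alternating group on the centraliser of `z`. -/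
structure Cv {G : Type*} [Group G] (n : ℕ) (z : G) (p : G → Perm (Fin n)) : Prop where
  z_ne : z ≠ 1
  z_sq : z * z = 1
  mul : ∀ {x y : G}, Commute x z → Commute y z → p (x * y) = p x * p y
  sgn : ∀ {x : G}, Commute x z → sign (p x) = 1
  surj : ∀ {σ : Perm (Fin n)}, sign σ = 1 → ∃ x : G, Commute x z ∧ p x = σ
  ker : ∀ {x : G}, Commute x z → p x = 1 → x = 1 ∨ x = z
  pz : p z = 1
  two : ∀ {x : G} {a b c d : Fin n}, Commute x z → [a, b, c, d].Nodup →
    p x = swap a b * swap c d → x * x = z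

variable {G : Type*} [Group G] {n : ℕ} {z : G} {p : G → Perm (Fin n)}

theorem Cv.one (h : Cv n z p) : p 1 = 1 := by
  have h1 := h.mul (Commute.one_left z) (Commute.one_left z)
  rw [mul_one] at h1
  exact (mul_eq_left.1 h1.symm)

theorem Cv.inv (h : Cv n z p) {x : G} (hx : Commute x z) : p x⁻¹ = (p x)⁻¹ := by
  have h1 := h.mul hx.inv_left hx
  rw [inv_mul_cancel, h.one] at h1
  exact eq_inv_of_mul_eq_one_left h1.symm

theorem Cv.pow (h : Cv n z p) {x : G} (hx : Commute x z) (k : ℕ) : p (x ^ k) = p x ^ k := by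
  induction k with
  | zero => rw [pow_zero, pow_zero, h.one]
  | succ k ih => rw [pow_succ, pow_succ, h.mul (hx.pow_left k) hx, ih]

theorem Cv.zpow (h : Cv n z p) {x : G} (hx : Commute x z) (k : ℤ) : p (x ^ k) = p x ^ k := by
  obtain ⟨k, rfl | rfl⟩ := Int.eq_nat_or_neg k
  · rw [zpow_natCast, zpow_natCast, h.pow hx]
  · rw [zpow_neg, zpow_neg, zpow_natCast, zpow_natCast, h.inv (hx.pow_left k), h.pow hx]

theorem Cv.conj (h : Cv n z p) {g x : G} (hg : Commute g z) (hx : Commute x z) :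
    p (g * x * g⁻¹) = p g * p x * (p g)⁻¹ := by
  rw [h.mul (hg.mul_left hx) hg.inv_left, h.mul hg hx, h.inv hg]

theorem Cv.z_inv (h : Cv n z p) : z⁻¹ = z := inv_eq_of_mul_eq_one_left h.z_sq

theorem Cv.eq_or (h : Cv n z p) {x y : G} (hx : Commute x z) (hy : Commute y z)
    (hxy : p x = p y) : x = y ∨ x = y * z := by
  have h1 : p (y⁻¹ * x) = 1 := by rw [h.mul hy.inv_left hx, h.inv hy, hxy, inv_mul_cancel]
  rcases h.ker (hy.inv_left.mul_left hx) h1 with h2 | h2
  · left; exact (inv_mul_eq_one.1 h2).symm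
  · right; rw [← h2, mul_inv_cancel_left]

theorem Cv.mul_z (h : Cv n z p) {x : G} (hx : Commute x z) : p (x * z) = p x := by
  rw [h.mul hx (Commute.refl z), h.pz, mul_one]

theorem Cv.mul_z_cube (h : Cv n z p) {x : G} (hx : Commute x z) : (x * z) ^ 3 = x ^ 3 * z := by
  rw [hx.mul_pow, pow_succ z 2, pow_two, h.z_sq, one_mul]

theorem Cv.eq_of_cube (h : Cv n z p) {x y : G} (hx : Commute x z) (hy : Commute y z)
    (hx3 : x ^ 3 = 1) (hy3 : y ^ 3 = 1) (hxy : p x = p y) : x = y := by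
  rcases h.eq_or hx hy hxy with h1 | h1
  · exact h1
  · exfalso
    rw [h1, h.mul_z_cube hy, hy3, one_mul] at hx3
    exact h.z_ne hx3

theorem Cv.exists_cube (h : Cv n z p) {σ : Perm (Fin n)} (hσ : σ ^ 3 = 1) :
    ∃ x : G, Commute x z ∧ x ^ 3 = 1 ∧ p x = σ := by
  have hs : sign σ = 1 := by
    have h1 : sign σ ^ 3 = 1 := by rw [← map_pow, hσ, map_one]
    rcases Int.units_eq_one_or (sign σ) with h2 | h2
    · exact h2
    · rw [h2] at h1
      exact absurd h1 (by decide)
  obtain ⟨y, hy, hyσ⟩ := h.surj hs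
  have h3 : p (y ^ 3) = 1 := by rw [h.pow hy, hyσ, hσ]
  rcases h.ker (hy.pow_left 3) h3 with h1 | h1
  · exact ⟨y, hy, h1, hyσ⟩
  · refine ⟨y * z, hy.mul_left (Commute.refl z), ?_, ?_⟩
    · rw [h.mul_z_cube hy, h1, h.z_sq]
    · rw [h.mul_z hy, hyσ]

/-- conjugation of elements of order dividing three is determined by the images -/
theorem Cv.conj_cube (h : Cv n z p) {g x y : G} (hg : Commute g z) (hx : Commute x z)
    (hy : Commute y z) (hx3 : x ^ 3 = 1) (hy3 : y ^ 3 = 1) (e : p g * p x = p y * p g) :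
    g * x * g⁻¹ = y := by
  refine h.eq_of_cube ((hg.mul_left hx).mul_left hg.inv_left) hy ?_ hy3 ?_
  · rw [conj_pow, hx3, mul_one, mul_inv_cancel]
  · rw [h.conj hg hx, e, mul_inv_cancel_right]

theorem Cv.comm_cube (h : Cv n z p) {g x : G} (hg : Commute g z) (hx : Commute x z)
    (hx3 : x ^ 3 = 1) (e : p g * p x = p x * p g) : Commute g x := by
  have h1 := h.conj_cube hg hx hx hx3 hx3 e
  exact mul_inv_eq_iff_eq_mul.1 h1

theorem Cv.inv_cube (h : Cv n z p) {g x : G} (hg : Commute g z) (hx : Commute x z)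
    (hx3 : x ^ 3 = 1) (e : p g * p x = (p x)⁻¹ * p g) : g * x * g⁻¹ = x⁻¹ := by
  refine h.conj_cube hg hx hx.inv_left hx3 ?_ ?_
  · rw [inv_pow, hx3, inv_one]
  · rw [h.inv hx, e]

/-- transport along a conjugation -/
theorem Cv.transport (h : Cv n z p) (g : G) :
    Cv n (g * z * g⁻¹) (fun x => p (g⁻¹ * x * g)) := by
  have key : ∀ {x : G}, Commute x (g * z * g⁻¹) → Commute (g⁻¹ * x * g) z := by
    intro x hx
    have h1 : x * (g * z * g⁻¹) = g * z * g⁻¹ * x := hx
    change g⁻¹ * x * g * z = z * (g⁻¹ * x * g)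
    calc g⁻¹ * x * g * z = g⁻¹ * (x * (g * z * g⁻¹)) * g := by group
      _ = z * (g⁻¹ * x * g) := by rw [h1]; group
  refine ⟨?_, ?_, ?_, ?_, ?_, ?_, ?_, ?_⟩
  · intro h1
    apply h.z_ne
    calc z = g⁻¹ * (g * z * g⁻¹) * g := by group
      _ = 1 := by rw [h1]; group
  · calc g * z * g⁻¹ * (g * z * g⁻¹) = g * (z * z) * g⁻¹ := by group
      _ = 1 := by rw [h.z_sq]; group
  · intro x y hx hy
    change p (g⁻¹ * (x * y) * g) = p (g⁻¹ * x * g) * p (g⁻¹ * y * g)
    rw [← h.mul (key hx) (key hy)]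
    congr 1
    group
  · intro x hx
    exact h.sgn (key hx)
  · intro σ hσ
    obtain ⟨x, hx, hxσ⟩ := h.surj hσ
    refine ⟨g * x * g⁻¹, ?_, ?_⟩
    · have h1 : x * z = z * x := hx
      change g * x * g⁻¹ * (g * z * g⁻¹) = g * z * g⁻¹ * (g * x * g⁻¹)
      calc g * x * g⁻¹ * (g * z * g⁻¹) = g * (x * z) * g⁻¹ := by group
        _ = g * z * g⁻¹ * (g * x * g⁻¹) := by rw [h1]; group
    · change p (g⁻¹ * (g * x * g⁻¹) * g) = σ
      rw [← hxσ]
      congr 1
      group
  · intro x hx hx1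
    rcases h.ker (key hx) hx1 with h1 | h1
    · left
      calc x = g * (g⁻¹ * x * g) * g⁻¹ := by group
        _ = 1 := by rw [h1]; group
    · right
      rw [← h1]; group
  · change p (g⁻¹ * (g * z * g⁻¹) * g) = 1
    rw [← h.pz]
    congr 1
    group
  · intro x a b c d hx hn hpx
    have h1 := h.two (key hx) hn hpx
    calc x * x = g * (g⁻¹ * x * g * (g⁻¹ * x * g)) * g⁻¹ := by group
      _ = g * z * g⁻¹ := by rw [h1]

end Cfsg.Agent.SporRec.TwoNine.Cv
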