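import Cfsg.Agent.SporRec.TwoNine.Vx

/-!
# Elements of order three centralising a four-group; planes
-/

set_option autoImplicit false

namespace Cfsg.Agent.SporRec.TwoNine.Fuse

open Equiv Equiv.Perm Subgroup
open Cfsg.Agent.SporRec.TwoNine.Cv Cfsg.Agent.SporRec.TwoNine.Perms
  Cfsg.Agent.SporRec.TwoNine.PermFacts Cfsg.Agent.SporRec.TwoNine.PermFacts2
  Cfsg.Agent.SporRec.TwoNine.PermFacts3 Cfsg.Agent.SporRec.TwoNine.Basic
  Cfsg.Agent.SporRec.TwoNine.Lifts Cfsg.Agent.SporRec.TwoNine.Lifts.Data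
  Cfsg.Agent.SporRec.TwoNine.Vx

variable {G : Type*} [Group G] {m : ℕ} (D : Data G m)

theorem p_comm {x y : G} (hx : Commute x D.z) (hy : Commute y D.z) (h : Commute x y) :
    Commute (D.p x) (D.p y) := by
  change _ * _ = _ * _
  rw [← D.cv.mul hx hy, h.eq, D.cv.mul hy hx]

/-- an element of order three of `C(z)` commuting with an involution `t ≠ z` of `C(z)` is conjugate to `r` -/
theorem conj_r_of_z {x t : G} (hx3 : x ^ 3 = 1) (hx1 : x ≠ 1) (hxz : Commute x D.z)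
    (htz : Commute t D.z) (htt : t * t = 1) (ht1 : t ≠ 1) (htz' : t ≠ D.z) (hxt : Commute x t) :
    ∃ y, y * x * y⁻¹ = D.r := by
  have hm := D.hm
  have h := D.cv
  obtain ⟨k, hk, hkt⟩ := exists_conj_u hm h D.uz D.pu htz htt ht1 htz'
  set x' := k * x * k⁻¹ with hx'
  have h1 : Commute x' D.z := (hk.mul_left hxz).mul_left hk.inv_left
  have h2 : Commute x' D.u := by
    rw [← hkt]; exact SemiconjBy.conj_iff.2 hxt
  have h3 : x' ^ 3 = 1 := by rw [hx', conj_pow, hx3]; group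
  have h4 : x' ≠ 1 := by
    intro h5
    apply hx1
    calc x = k⁻¹ * x' * k := by rw [hx']; group
      _ = 1 := by rw [h5]; group
  have h5 : D.p x' ^ 3 = 1 := by rw [← h.pow h1, h3, h.one]
  have h6 : D.p x' ≠ 1 := by
    intro h7
    rcases h.ker h1 h7 with h8 | h8
    · exact h4 h8
    · rw [h8, pow_succ, pow_two, D.zz, one_mul] at h3
      exact D.z_ne_one h3
  have h7 : Commute (D.p x') (su m) := by
    rw [← D.pu]; exact p_comm D h1 D.uz h2
  obtain ⟨σ, hσ, hσx⟩ := exists_even_conj_sab hm (cycleType_of_commute_su hm h5 h6 h7)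
  obtain ⟨s, hs, hsp⟩ := h.surj hσ
  have h8 : s * x' * s⁻¹ = D.r := by
    refine h.conj_cube hs h1 D.rz h3 D.r3 ?_
    rw [hsp, D.pr, ← hσx]; group
  refine ⟨s * k, ?_⟩
  rw [← h8, hx']; group

/-- an element of order three commuting with two commuting involutions conjugate to `z` is conjugate to `r` -/
theorem conj_r {x t s : G} (hx3 : x ^ 3 = 1) (hx1 : x ≠ 1) (ht : ∃ y, y * D.z * y⁻¹ = t)
    (hss : s * s = 1) (hs1 : s ≠ 1) (hst : s ≠ t) (hcs : Commute s t)
    (hxt : Commute x t) (hxs : Commute x s) : ∃ y, y * x * y⁻¹ = D.r := by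
  obtain ⟨y, hy⟩ := ht
  have e : y⁻¹ * t * y = D.z := by rw [← hy]; group
  obtain ⟨k, hk⟩ := conj_r_of_z D (x := y⁻¹ * x * y) (t := y⁻¹ * s * y) (by
      have : y⁻¹ * x * y = y⁻¹ * x * (y⁻¹)⁻¹ := by rw [inv_inv]
      rw [this, conj_pow, hx3]; group) (by
      intro h1
      apply hx1
      calc x = y * (y⁻¹ * x * y) * y⁻¹ := by group
        _ = 1 := by rw [h1]; group) (by
      rw [← e]
      have : ∀ w : G, y⁻¹ * w * y = y⁻¹ * w * (y⁻¹)⁻¹ := fun w => by rw [inv_inv]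
      rw [this, this]
      exact SemiconjBy.conj_iff.2 hxt) (by
      rw [← e]
      have : ∀ w : G, y⁻¹ * w * y = y⁻¹ * w * (y⁻¹)⁻¹ := fun w => by rw [inv_inv]
      rw [this, this]
      exact SemiconjBy.conj_iff.2 hcs) (by
      calc y⁻¹ * s * y * (y⁻¹ * s * y) = y⁻¹ * (s * s) * y := by group
        _ = 1 := by rw [hss]; group) (by
      intro h1
      apply hs1
      calc s = y * (y⁻¹ * s * y) * y⁻¹ := by group
        _ = 1 := by rw [h1]; group) (by
      rw [← e]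
      intro h1
      exact hst (mul_left_cancel (mul_right_cancel h1))) (by
      have : ∀ w : G, y⁻¹ * w * y = y⁻¹ * w * (y⁻¹)⁻¹ := fun w => by rw [inv_inv]
      rw [this, this]
      exact SemiconjBy.conj_iff.2 hxs)
  refine ⟨k * y⁻¹, ?_⟩
  rw [← hk]; group

/-- elements of `C(z)` commuting with a plane of `A` -/
theorem mem_A_or_of_plane {e : ℕ} (he : e = 1 ∨ e = 2) {y : G} (hz : Commute y D.z)
    (hr : Commute y D.r) (hc : Commute y (D.a * D.c ^ e)) : y ∈ D.A ∨ y * D.z ∈ D.A := by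
  have h1 : Commute (D.p y) (sa m * sb m) := by
    rw [← D.pr]; exact p_comm D hz D.rz hr
  have h2 : Commute (D.p y) (sa m * sc m ^ e) := by
    have h3 := p_comm D hz (D.az.mul_left (D.cz.pow_left e)) hc
    rw [D.cv.mul D.az (D.cz.pow_left e), D.cv.pow D.cz, D.pa, D.pc] at h3
    exact h3
  obtain ⟨i, -, j, -, k, -, h3⟩ := commute_plane D.hm he h1 h2
  exact D.mem_A_or_of_p hz h3

theorem mem_A_of_odd {y : G} (h : y ∈ D.A ∨ y * D.z ∈ D.A) (hz : Commute y D.z)
    (ho : Odd (orderOf y)) : y ∈ D.A := by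
  rcases h with h | h
  · exact h
  · exfalso
    have h1 := D.A_cube h
    rw [hz.mul_pow] at h1
    have h2 : D.z ^ 3 = D.z := by rw [pow_succ, pow_two, D.zz, one_mul]
    rw [h2] at h1
    have h3 : y ^ 3 = D.z := by
      rw [← D.z_inv]; exact eq_inv_of_mul_eq_one_left h1
    have h4 : Odd (orderOf (y ^ 3)) := ho.of_dvd_nat (orderOf_pow_dvd 3)
    rw [h3] at h4
    exact D.z_ne_one (Gen.eq_one_of_odd h4 D.zz)

theorem eq_z_of_involution {y : G} (h : y ∈ D.A ∨ y * D.z ∈ D.A) (hz : Commute y D.z)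
    (hyy : y * y = 1) (hy1 : y ≠ 1) : y = D.z := by
  have hodd : ∀ w ∈ D.A, Odd (orderOf w) := by
    intro w hw
    refine Odd.of_dvd_nat (n := 3) (by decide) (orderOf_dvd_of_pow_eq_one (D.A_cube hw))
  rcases h with h | h
  · exact absurd (Gen.eq_one_of_odd (hodd y h) hyy) hy1
  · have h1 : y * D.z = 1 := by
      refine Gen.eq_one_of_odd (hodd _ h) ?_
      calc y * D.z * (y * D.z) = y * (D.z * y) * D.z := by group
        _ = y * (y * D.z) * D.z := by rw [hz.eq]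
        _ = (y * y) * (D.z * D.z) := by group
        _ = 1 := by rw [hyy, D.zz, one_mul]
    rw [← D.z_inv]
    exact eq_inv_of_mul_eq_one_left h1

/-- no element inverts a plane of type `⟨a b, a c ^ e⟩` of `A` -/
theorem not_inverts_plane [Finite G] {e : ℕ} (he : e = 1 ∨ e = 2) {y : G}
    (h1 : y * D.r * y⁻¹ = D.r⁻¹) (h2 : y * (D.a * D.c ^ e) * y⁻¹ = (D.a * D.c ^ e)⁻¹) : False := by
  set s := D.a * D.c ^ e with hs
  have hsz : Commute s D.z := D.az.mul_left (D.cz.pow_left e)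
  set N : Subgroup G := centralizer {D.r, s} with hN
  have memN : ∀ {w : G}, w ∈ N ↔ Commute w D.r ∧ Commute w s := by
    intro w
    rw [hN, mem_centralizer_iff]
    constructor
    · intro h
      exact ⟨(h D.r (by simp)).symm, (h s (by simp)).symm⟩
    · rintro ⟨h1, h2⟩ t (rfl | rfl)
      · exact h1.eq.symm
      · exact h2.eq.symm
  have hu := Gen.unique_involution_sub (N := N) (z := D.z) (memN.2 ⟨D.rz.symm, hsz.symm⟩) D.zz
    D.z_ne_one (by
      intro t ht htt ht1 htz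
      obtain ⟨t1, t2⟩ := memN.1 ht
      exact eq_z_of_involution D (mem_A_or_of_plane D he htz t1 t2) htz htt ht1)
  have conj_inv : ∀ {w : G}, Commute w D.z → y * w * y⁻¹ = w⁻¹ → Commute (y * D.z * y⁻¹) w := by
    intro w hw hyw
    have h3 : Commute (y * D.z * y⁻¹) (y * w * y⁻¹) := SemiconjBy.conj_iff.2 hw.symm
    rw [hyw] at h3
    exact Commute.inv_right_iff.1 h3
  obtain ⟨k, hk, hkz⟩ := hu.1 (y * D.z * y⁻¹) (memN.2 ⟨conj_inv D.rz h1, conj_inv hsz h2⟩) (by
      calc y * D.z * y⁻¹ * (y * D.z * y⁻¹) = y * (D.z * D.z) * y⁻¹ := by group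
        _ = 1 := by rw [D.zz]; group) (by
      intro h3
      apply D.z_ne_one
      calc D.z = y⁻¹ * (y * D.z * y⁻¹) * y := by group
        _ = 1 := by rw [h3]; group)
  obtain ⟨kr, ks⟩ := memN.1 hk
  set q := k * y with hq
  have hqz : Commute q D.z := by
    refine mul_inv_eq_iff_eq_mul.1 ?_
    calc q * D.z * q⁻¹ = k * (y * D.z * y⁻¹) * k⁻¹ := by rw [hq]; group
      _ = D.z := hkz
  have hqr : q * D.r * q⁻¹ = D.r⁻¹ := by
    calc q * D.r * q⁻¹ = k * (y * D.r * y⁻¹) * k⁻¹ := by rw [hq]; group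
      _ = D.r⁻¹ := by rw [h1, kr.inv_right.eq, mul_inv_cancel_right]
  have hqs : q * s * q⁻¹ = s⁻¹ := by
    calc q * s * q⁻¹ = k * (y * s * y⁻¹) * k⁻¹ := by rw [hq]; group
      _ = s⁻¹ := by rw [h2, ks.inv_right.eq, mul_inv_cancel_right]
  have h := D.cv
  refine sign_of_inverts D.hm he (σ := D.p q) ?_ ?_ (h.sgn hqz)
  · rw [← D.pr, ← h.conj hqz D.rz, hqr, h.inv D.rz]
  · have hps : D.p s = sa m * sc m ^ e := by
      rw [hs, h.mul D.az (D.cz.pow_left e), h.pow D.cz, D.pa, D.pc]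
    rw [← hps, ← h.conj hqz hsz, hqs, h.inv hsz]

end Cfsg.Agent.SporRec.TwoNine.Fuse
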