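import Cfsg.Agent.SporRec.TwoNine.TwoCore

/-!
# At least two of the three subgroups `⟨x r ^ i⟩` are fused to `⟨r⟩`
-/

set_option autoImplicit false

namespace Cfsg.Agent.SporRec.TwoNine.FuseX

open Equiv Equiv.Perm Subgroup Cfsg
open Cfsg.Agent.Lib
open Cfsg.Agent.SporRec.TwoNine.Cv Cfsg.Agent.SporRec.TwoNine.Perms
  Cfsg.Agent.SporRec.TwoNine.PermFacts Cfsg.Agent.SporRec.TwoNine.PermFacts2
  Cfsg.Agent.SporRec.TwoNine.PermFacts3 Cfsg.Agent.SporRec.TwoNine.Basic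
  Cfsg.Agent.SporRec.TwoNine.Lifts Cfsg.Agent.SporRec.TwoNine.Lifts.Data
  Cfsg.Agent.SporRec.TwoNine.Vx Cfsg.Agent.SporRec.TwoNine.Fuse
  Cfsg.Agent.SporRec.TwoNine.TwoCore

variable {G : Type*} [Group G]

theorem exists_central_involution [Finite G] {Y : Subgroup G} (hY : IsPGroup 2 Y) {q : G}
    (hq : q ∈ Y) (hq1 : q ≠ 1) :
    ∃ t ∈ Y, t * t = 1 ∧ t ≠ 1 ∧ ∀ y ∈ Y, Commute y t := by
  have h2 : Fact (Nat.Prime 2) := ⟨Nat.prime_two⟩
  have hne : Nontrivial Y := ⟨⟨⟨q, hq⟩, 1, fun h => hq1 (congrArg Subtype.val h)⟩⟩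
  have hcne : Nontrivial (center Y) := IsPGroup.center_nontrivial hY
  have hdvd : 2 ∣ Nat.card (center Y) := by
    obtain ⟨k, hk⟩ := IsPGroup.iff_card.1 (hY.to_subgroup (center Y))
    have hk0 : k ≠ 0 := by
      rintro rfl
      rw [pow_zero] at hk
      exact absurd hk (ne_of_gt (Finite.one_lt_card))
    rw [hk]; exact dvd_pow_self 2 hk0
  obtain ⟨t, ht⟩ := exists_prime_orderOf_dvd_card' 2 hdvd
  refine ⟨((t : Y) : G), (t : Y).2, ?_, ?_, ?_⟩
  · have h3 : t ^ 2 = 1 := by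
      have := pow_orderOf_eq_one t
      rwa [ht] at this
    rw [pow_two] at h3
    exact congrArg (fun x : center Y => ((x : Y) : G)) h3
  · intro h
    have : t = 1 := Subtype.ext (Subtype.ext h)
    rw [this, orderOf_one] at ht
    exact absurd ht (by decide)
  · intro y hy
    exact congrArg Subtype.val (mem_center_iff.1 t.2 ⟨y, hy⟩)

variable {m : ℕ} (D : Data G m)

/-- elements of even order of `C(⟨z, u⟩)` commuting with `r` -/
theorem mem_V {y : G} (hz : Commute y D.z) (hu : Commute y D.u) (hr : Commute y D.r) {n : ℕ}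
    (hn : y ^ 2 ^ n = 1) : ∃ j < 2, ∃ k < 2, y = D.u ^ j * D.z ^ k := by
  obtain ⟨i, hi, j, hj, k, hk, e⟩ := commute_zur D hz hu hr
  refine ⟨j, hj, k, hk, ?_⟩
  set v := D.u ^ j * D.z ^ k with hv
  have e' : y = D.r ^ i * v := by rw [e, hv, mul_assoc]
  have hrv : Commute (D.r ^ i) v :=
    ((D.ru.pow_left i).pow_right j).mul_right ((D.rz.pow_left i).pow_right k)
  have hvv : v * v = 1 := by
    calc D.u ^ j * D.z ^ k * (D.u ^ j * D.z ^ k)
        = D.u ^ j * (D.z ^ k * D.u ^ j) * D.z ^ k := by group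
      _ = D.u ^ j * (D.u ^ j * D.z ^ k) * D.z ^ k := by rw [(D.uz.pow_pow j k).eq]
      _ = (D.u * D.u) ^ j * (D.z * D.z) ^ k := by
        rw [(Commute.refl D.u).mul_pow, (Commute.refl D.z).mul_pow]; group
      _ = 1 := by rw [D.uu, D.zz, one_pow, one_pow, one_mul]
  have h1 : (D.r ^ i) ^ 2 ^ (n + 1) = 1 := by
    have h2 : y ^ 2 ^ (n + 1) = 1 := by rw [pow_succ, pow_mul, hn, one_pow]
    rw [e', hrv.mul_pow] at h2
    have h3 : v ^ 2 ^ (n + 1) = 1 := by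
      rw [pow_succ, mul_comm, pow_mul, pow_two, hvv, one_pow]
    rw [h3, mul_one] at h2
    exact h2
  have h2 : (D.r ^ i) ^ 3 = 1 := by rw [← pow_mul, mul_comm, pow_mul, D.r3, one_pow]
  have h3 : D.r ^ i = 1 := by
    rw [← orderOf_eq_one_iff]
    exact Nat.eq_one_of_dvd_coprimes (a := 3) (b := 2 ^ (n + 1))
      (Nat.Coprime.pow_right _ (by decide))
      (orderOf_dvd_of_pow_eq_one h2) (orderOf_dvd_of_pow_eq_one h1)
  rw [e', h3, one_mul]

section x

variable {x : G} (x1 : x * D.z * x⁻¹ = D.u) (x2 : x * D.u * x⁻¹ = D.u * D.z)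

include x1 x2 in
theorem x3' : x * (D.u * D.z) * x⁻¹ = D.z := by
  calc x * (D.u * D.z) * x⁻¹ = (x * D.u * x⁻¹) * (x * D.z * x⁻¹) := by group
    _ = D.z := by rw [x1, x2, D.uz.eq, mul_assoc, D.uu, mul_one]

include x1 in
theorem xr1 (i : ℕ) : x * D.r ^ i * D.z * (x * D.r ^ i)⁻¹ = D.u := by
  calc x * D.r ^ i * D.z * (x * D.r ^ i)⁻¹ = x * (D.r ^ i * D.z * (D.r ^ i)⁻¹) * x⁻¹ := by group
    _ = D.u := by rw [(D.rz.pow_left i).eq, mul_inv_cancel_right, x1]

include x2 in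
theorem xr2 (i : ℕ) : x * D.r ^ i * D.u * (x * D.r ^ i)⁻¹ = D.u * D.z := by
  calc x * D.r ^ i * D.u * (x * D.r ^ i)⁻¹ = x * (D.r ^ i * D.u * (D.r ^ i)⁻¹) * x⁻¹ := by group
    _ = D.u * D.z := by rw [(D.ru.pow_left i).eq, mul_inv_cancel_right, x2]

include x1 x2 in
/-- `x` acts without fixed points on the four-group -/
theorem fpf {j k : ℕ} (hj : j < 2) (hk : k < 2) (h : Commute (D.u ^ j * D.z ^ k) x) :
    D.u ^ j * D.z ^ k = 1 := by
  have x3 := x3' D x1 x2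
  have hc : x * (D.u ^ j * D.z ^ k) * x⁻¹ = D.u ^ j * D.z ^ k := by
    rw [← h.eq, mul_inv_cancel_right]
  interval_cases j <;> interval_cases k
  · simp
  · exfalso
    simp only [pow_zero, pow_one, one_mul] at hc
    rw [x1] at hc
    exact D.u_ne_z hc
  · exfalso
    simp only [pow_zero, pow_one, mul_one] at hc
    rw [x2] at hc
    exact D.z_ne_one (mul_eq_left.1 hc)
  · exfalso
    simp only [pow_one] at hc
    rw [x3] at hc
    exact D.u_ne_one (mul_eq_right.1 hc.symm)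

include x1 x2 in
theorem x_mem_normalizer [Finite G] : x ∈ normalizer (Cd D : Set G) := by
  refine Gen.mem_normalizer_of_conj ?_
  intro y hy
  obtain ⟨yz, yu⟩ := (mem_Cd D).1 hy
  refine (mem_Cd D).2 ⟨?_, ?_⟩
  · have h := x3' D x1 x2
    have h2 : Commute (x * y * x⁻¹) (x * (D.u * D.z) * x⁻¹) :=
      SemiconjBy.conj_iff.2 (yu.mul_right yz)
    rwa [h] at h2
  · have h2 : Commute (x * y * x⁻¹) (x * D.z * x⁻¹) := SemiconjBy.conj_iff.2 yz
    rwa [x1] at h2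

include x1 x2 in
/-- If some element of the 2-core commutes with `x r ^ i`, then the latter is conjugate to `r`. -/
theorem conj_of_commute [Finite G] (xr : Commute x D.r) (x3 : x ^ 3 = 1)
    (hu : ∃ y, y * D.z * y⁻¹ = D.u) {i : ℕ} {q : G} (hq : q ∈ tc (Cd D)) (hq1 : q ≠ 1)
    (hqx : Commute q (x * D.r ^ i)) : ∃ y, y * (x * D.r ^ i) * y⁻¹ = D.r := by
  set w := x * D.r ^ i with hw
  have w1 := xr1 D x1 i
  have w2 := xr2 D x2 i
  rw [← hw] at w1 w2
  have wr : Commute w D.r := xr.mul_left ((Commute.refl _).pow_left i)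
  have w3 : w ^ 3 = 1 := by
    rw [hw, (xr.pow_right i).mul_pow, x3, ← pow_mul, mul_comm, pow_mul, D.r3, one_pow, one_mul]
  clear_value w
  set Y : Subgroup G := tc (Cd D) ⊓ centralizer {w} with hY
  have memY : ∀ {y : G}, y ∈ Y ↔ y ∈ tc (Cd D) ∧ Commute y w := by
    intro y
    rw [hY, mem_inf, mem_centralizer_singleton_iff]
    rfl
  have hYp : IsPGroup 2 Y := (isPGroup_tc (Cd D)).to_le inf_le_left
  obtain ⟨t, htY, htt, ht1, htc⟩ := exists_central_involution hYp (memY.2 ⟨hq, hqx⟩) hq1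
  obtain ⟨htQ, htw⟩ := memY.1 htY
  obtain ⟨tz, tu⟩ := (mem_Cd D).1 (tc_le _ htQ)
  have hrn : D.r ∈ normalizer (Cd D : Set G) :=
    (Subgroup.le_normalizer (H := Cd D)) ((mem_Cd D).2 ⟨D.rz, D.ru⟩)
  set s := D.r * t * D.r⁻¹ with hs
  have hsY : s ∈ Y := by
    refine memY.2 ⟨tc_conj hrn htQ, ?_⟩
    exact (wr.symm.mul_left htw).mul_left wr.symm.inv_left
  have hst : Commute s t := htc s hsY
  have hnz : t ≠ D.z := by
    intro h
    rw [h] at htw
    rw [htw.symm.eq, mul_inv_cancel_right] at w1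
    exact D.u_ne_z w1.symm
  have hne : s ≠ t := by
    intro h
    have hc : Commute t D.r := by
      have h1 : D.r * t = t * D.r := by
        calc D.r * t = s * D.r := by rw [hs]; group
          _ = t * D.r := by rw [h]
      exact h1.symm
    obtain ⟨j, hj, k, hk, e⟩ := mem_V D tz tu hc (n := 1) (by rw [pow_one, pow_two, htt])
    rw [e] at htw
    exact ht1 (e.trans (fpf D w1 w2 hj hk htw))
  obtain ⟨g, hg, hgt⟩ := exists_conj_u D.hm D.cv D.uz D.pu tz htt ht1 hnz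
  obtain ⟨y, hy⟩ := hu
  refine conj_r D (t := t) (s := s) w3 ?_ ⟨g⁻¹ * y, ?_⟩ ?_ ?_ hne hst htw.symm (memY.1 hsY).2.symm
  · rintro rfl
    rw [one_mul, inv_one, mul_one] at w1
    exact D.u_ne_z w1.symm
  · calc g⁻¹ * y * D.z * (g⁻¹ * y)⁻¹ = g⁻¹ * (y * D.z * y⁻¹) * g := by group
      _ = t := by rw [hy, ← hgt]; group
  · calc s * s = D.r * (t * t) * D.r⁻¹ := by rw [hs]; group
      _ = 1 := by rw [htt]; group
  · intro h
    apply ht1
    calc t = D.r⁻¹ * s * D.r := by rw [hs]; group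
      _ = 1 := by rw [h]; group

/-- the group generated by two commuting elements of order dividing three -/
def gen2 (x r : G) (hx : x ^ 3 = 1) (hr : r ^ 3 = 1) (h : Commute x r) : Subgroup G where
  carrier := {g | ∃ i j : Fin 3, g = x ^ (i : ℕ) * r ^ (j : ℕ)}
  one_mem' := ⟨0, 0, by simp⟩
  mul_mem' := by
    rintro _ _ ⟨i, j, rfl⟩ ⟨i', j', rfl⟩
    refine ⟨⟨(i + i') % 3, Nat.mod_lt _ (by omega)⟩, ⟨(j + j') % 3, Nat.mod_lt _ (by omega)⟩, ?_⟩
    simp only [pow_mod hx, pow_mod hr, pow_add]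
    have c := (h.pow_pow i' j).eq
    calc x ^ (i : ℕ) * r ^ (j : ℕ) * (x ^ (i' : ℕ) * r ^ (j' : ℕ))
        = x ^ (i : ℕ) * (r ^ (j : ℕ) * x ^ (i' : ℕ)) * r ^ (j' : ℕ) := by group
      _ = _ := by rw [← c]; group
  inv_mem' := by
    rintro _ ⟨i, j, rfl⟩
    have e : ∀ {w : G} (_ : w ^ 3 = 1) (i : ℕ), (w ^ i)⁻¹ = w ^ (2 * i) := by
      intro w hw i
      rw [inv_eq_iff_mul_eq_one, ← pow_add]
      have : i + 2 * i = 3 * i := by ring
      rw [this, pow_mul, hw, one_pow]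
    refine ⟨⟨(2 * i) % 3, Nat.mod_lt _ (by omega)⟩, ⟨(2 * j) % 3, Nat.mod_lt _ (by omega)⟩, ?_⟩
    simp only [pow_mod hx, pow_mod hr]
    rw [mul_inv_rev, e hx, e hr]
    exact (h.pow_pow _ _).eq.symm

theorem mem_gen2 {x r : G} {hx : x ^ 3 = 1} {hr : r ^ 3 = 1} {h : Commute x r} {g : G} :
    g ∈ gen2 x r hx hr h ↔ ∃ i j : Fin 3, g = x ^ (i : ℕ) * r ^ (j : ℕ) := Iff.rfl

include x1 x2 in
theorem exists_nontrivial [Finite G] (xr : Commute x D.r) (x3 : x ^ 3 = 1) (i0 : ℕ) (hi0 : i0 < 3) :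
    ∃ i < 3, i ≠ i0 ∧ ∃ q ∈ tc (Cd D), q ≠ 1 ∧ Commute q (x * D.r ^ i) := by
  have hf2 : Fact (Nat.Prime 2) := ⟨Nat.prime_two⟩
  have hf3 : Fact (Nat.Prime 3) := ⟨by norm_num⟩
  by_contra hcon
  push Not at hcon
  have hno : ∀ i < 3, i ≠ i0 → ∀ q ∈ tc (Cd D), Commute q (x * D.r ^ i) → q = 1 := by
    intro i hi hne q hq hc
    by_contra h1
    exact hcon i hi hne q hq h1 hc
  clear hcon
  have hx1 : x ≠ 1 := by
    rintro rfl
    rw [one_mul, inv_one, mul_one] at x1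
    exact D.u_ne_z x1.symm
  let M : Subgroup G :=
    { carrier := {g | g ∈ Cd D ∧ ∃ v ∈ Cd D, (∀ w ∈ Cd D, Commute v w) ∧
        Commute (v * g) (x * D.r ^ i0)}
      one_mem' := ⟨one_mem _, 1, one_mem _, fun w _ => Commute.one_left w, by simp⟩
      mul_mem' := by
        rintro g g' ⟨hg, v, hv, hvc, h⟩ ⟨hg', v', hv', hvc', h'⟩
        refine ⟨mul_mem hg hg', v * v', mul_mem hv hv',
          fun w hw => (hvc w hw).mul_left (hvc' w hw), ?_⟩
        have e : v * v' * (g * g') = v * g * (v' * g') := by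
          calc v * v' * (g * g') = v * (v' * g) * g' := by group
            _ = v * (g * v') * g' := by rw [(hvc' g hg).eq]
            _ = _ := by group
        rw [e]
        exact h.mul_left h'
      inv_mem' := by
        rintro g ⟨hg, v, hv, hvc, h⟩
        refine ⟨inv_mem hg, v⁻¹, inv_mem hv, fun w hw => (hvc w hw).inv_left, ?_⟩
        have e : v⁻¹ * g⁻¹ = (v * g)⁻¹ := by
          rw [mul_inv_rev]
          exact ((hvc g hg).inv_inv).eq
        rw [e]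
        exact h.inv_left }
  have memM : ∀ {g : G}, g ∈ M ↔ g ∈ Cd D ∧ ∃ v ∈ Cd D, (∀ w ∈ Cd D, Commute v w) ∧
        Commute (v * g) (x * D.r ^ i0) := Iff.rfl
  set R := gen2 x D.r x3 D.r3 xr with hR
  have memR : ∀ {g : G}, g ∈ R ↔ ∃ i j : Fin 3, g = x ^ (i : ℕ) * D.r ^ (j : ℕ) := Iff.rfl
  have hxR : x ∈ R := memR.2 ⟨1, 0, by simp⟩
  have hrR : D.r ∈ R := memR.2 ⟨0, 1, by simp⟩
  have hRcube : ∀ g ∈ R, g ^ 3 = 1 := by
    rintro g ⟨i, j, rfl⟩
    rw [(xr.pow_pow i j).mul_pow, ← pow_mul, ← pow_mul, mul_comm, mul_comm (j : ℕ) 3, pow_mul,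
      pow_mul, x3, D.r3, one_pow, one_pow, one_mul]
  have hRc : IsMulCommutative R := by
    refine ⟨⟨?_⟩⟩
    rintro ⟨_, i, j, rfl⟩ ⟨_, i', j', rfl⟩
    refine Subtype.ext ?_
    change x ^ (i : ℕ) * D.r ^ (j : ℕ) * (x ^ (i' : ℕ) * D.r ^ (j' : ℕ)) =
      x ^ (i' : ℕ) * D.r ^ (j' : ℕ) * (x ^ (i : ℕ) * D.r ^ (j : ℕ))
    have c : Commute (x ^ (i : ℕ) * D.r ^ (j : ℕ)) (x ^ (i' : ℕ) * D.r ^ (j' : ℕ)) := by
      refine Commute.mul_left (Commute.mul_right ?_ ?_) (Commute.mul_right ?_ ?_)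
      · exact (Commute.refl x).pow_pow _ _
      · exact xr.pow_pow _ _
      · exact xr.symm.pow_pow _ _
      · exact (Commute.refl D.r).pow_pow _ _
    exact c.eq
  have hRn : ¬ IsCyclic R := by
    intro hc
    obtain ⟨⟨g, hg⟩, hgen⟩ := hc.exists_generator
    obtain ⟨k, hk⟩ := hgen ⟨D.r, hrR⟩
    obtain ⟨l, hl⟩ := hgen ⟨x, hxR⟩
    have hk' : g ^ k = D.r := congrArg Subtype.val hk
    have hl' : g ^ l = x := congrArg Subtype.val hl
    have hg3 := hRcube g hg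
    -- `g` commutes with `z`
    have h1 : Commute g D.z := by
      have h3k : ¬ (3 : ℤ) ∣ k := by
        rintro ⟨k', rfl⟩
        rw [zpow_mul] at hk'
        have : g ^ (3 : ℤ) = 1 := by exact_mod_cast hg3
        rw [this, one_zpow] at hk'
        exact D.r_ne_one hk'.symm
      have : ∃ s : ℤ, g = D.r ^ s := by
        have h4 : k % 3 = 1 ∨ k % 3 = 2 := by omega
        have h5 : ∀ n : ℤ, g ^ (3 * n + 1) = g := by
          intro n
          rw [zpow_add, zpow_mul]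
          have : g ^ (3 : ℤ) = 1 := by exact_mod_cast hg3
          rw [this, one_zpow, one_mul, zpow_one]
        rcases h4 with h4 | h4
        · refine ⟨1, ?_⟩
          rw [zpow_one, ← hk', ← h5 (k / 3)]
          rw [h5]
          conv_lhs => rw [← h5 (k / 3)]
          congr 1; omega
        · refine ⟨2, ?_⟩
          rw [← hk', ← zpow_mul]
          conv_lhs => rw [← h5 (2 * (k / 3) + 1)]
          congr 1; omega
      obtain ⟨s, hs⟩ := this
      rw [hs]; exact D.rz.zpow_left s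
    have h2 : Commute x D.z := by rw [← hl']; exact h1.zpow_left l
    rw [h2.eq, mul_inv_cancel_right] at x1
    exact D.u_ne_z x1.symm
  have hxn : x ∈ normalizer (Cd D : Set G) := x_mem_normalizer D x1 x2
  have hrn : D.r ∈ normalizer (Cd D : Set G) :=
    (Subgroup.le_normalizer (H := Cd D)) ((mem_Cd D).2 ⟨D.rz, D.ru⟩)
  have hRN : R ≤ normalizer (tc (Cd D) : Set G) := by
    rintro g ⟨i, j, rfl⟩
    refine Gen.mem_normalizer_of_conj ?_
    intro y hy
    exact tc_conj (mul_mem (pow_mem hxn _) (pow_mem hrn _)) hy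
  have hcop : (Nat.card R).Coprime (Nat.card (tc (Cd D))) := by
    have h1 : IsPGroup 3 R := by
      rintro ⟨g, hg⟩
      exact ⟨1, Subtype.ext (by simpa using hRcube g hg)⟩
    exact IsPGroup.coprime_card_of_ne 3 2 (by decide) R (tc (Cd D)) h1 (isPGroup_tc _)
  have hgenr := Cfsg.Agent.S0058.result R (tc (Cd D)) hRn hRN hcop
  have hle : tc (Cd D) ≤ M := by
    rw [← hgenr]
    refine iSup₂_le ?_
    rintro a ⟨⟨i, j, rfl⟩, ha1⟩ g hg
    obtain ⟨hgQ, hgc⟩ := mem_inf.1 hg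
    have hgc' : Commute g (x ^ (i : ℕ) * D.r ^ (j : ℕ)) := mem_centralizer_singleton_iff.1 hgc
    have hgC := tc_le _ hgQ
    obtain ⟨gz, gu⟩ := (mem_Cd D).1 hgC
    have done : ∀ i' < 3, Commute g (x * D.r ^ i') → g ∈ M := by
      intro i' hi' h
      by_cases hii : i' = i0
      · subst hii
        exact memM.2 ⟨hgC, 1, one_mem _, fun w _ => Commute.one_left w, by rw [one_mul]; exact h⟩
      · rw [hno i' hi' hii g hgQ h]
        exact one_mem M
    fin_cases i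
    · -- powers of `r`
      simp only [Fin.zero_eta, Fin.val_zero, pow_zero, one_mul] at hgc' ha1
      have hgr : Commute g D.r := by
        fin_cases j
        · exact absurd (pow_zero D.r) ha1
        · simpa using hgc'
        · have h1 : D.r = (D.r ^ 2) ^ 2 := by
            rw [← pow_mul]
            exact (pow_mod D.r3 4).symm ▸ (pow_one _).symm
          rw [h1]
          exact hgc'.pow_right 2
      obtain ⟨n, hn⟩ := isPGroup_tc (Cd D) ⟨g, hgQ⟩
      have hn' : g ^ 2 ^ n = 1 := congrArg Subtype.val hn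
      obtain ⟨j', -, k', -, e⟩ := mem_V D gz gu hgr hn'
      refine memM.2 ⟨hgC, g⁻¹, inv_mem hgC, ?_, by rw [inv_mul_cancel]; exact Commute.one_left _⟩
      intro w hw
      obtain ⟨wz, wu⟩ := (mem_Cd D).1 hw
      rw [e]
      exact (((wu.symm.pow_left j').mul_left (wz.symm.pow_left k'))).inv_left
    · refine done j j.2 ?_
      simpa using hgc'
    · refine done ((2 * j) % 3) (Nat.mod_lt _ (by omega)) ?_
      rw [pow_mod D.r3]
      have h1 : x * D.r ^ (2 * (j : ℕ)) = (x ^ 2 * D.r ^ (j : ℕ)) ^ 2 := by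
        rw [(xr.pow_pow 2 j).mul_pow, ← pow_mul, ← pow_mul, mul_comm (j : ℕ) 2]
        congr 1
        exact (pow_one x).symm.trans (pow_mod x3 4)
      rw [h1]
      exact hgc'.pow_right 2
  obtain ⟨s, hs, t, ht, hst⟩ := exists_pair D
  obtain ⟨hsC, v, hv, hvc, hvs⟩ := memM.1 (hle hs)
  obtain ⟨htC, v', hv', hvc', hvt⟩ := memM.1 (hle ht)
  have e : v * s * (v' * t) * (v * s)⁻¹ * (v' * t)⁻¹ = D.z := by
    calc v * s * (v' * t) * (v * s)⁻¹ * (v' * t)⁻¹
        = v * (s * v') * (t * (s⁻¹ * v⁻¹)) * t⁻¹ * v'⁻¹ := by group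
      _ = v * (v' * s) * (t * (v⁻¹ * s⁻¹)) * t⁻¹ * v'⁻¹ := by
        rw [(hvc' s hsC).eq, ((hvc s hsC).inv_inv).eq]
      _ = v * v' * s * (t * v⁻¹) * s⁻¹ * t⁻¹ * v'⁻¹ := by group
      _ = v * v' * s * (v⁻¹ * t) * s⁻¹ * t⁻¹ * v'⁻¹ := by rw [((hvc t htC).inv_left).eq]
      _ = v * v' * (s * v⁻¹) * t * s⁻¹ * t⁻¹ * v'⁻¹ := by group
      _ = v * v' * (v⁻¹ * s) * t * s⁻¹ * t⁻¹ * v'⁻¹ := by rw [((hvc s hsC).inv_left).eq]
      _ = v * (v' * v⁻¹) * (s * t * s⁻¹ * t⁻¹) * v'⁻¹ := by group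
      _ = v * (v⁻¹ * v') * D.z * v'⁻¹ := by rw [hst, ((hvc v' hv').inv_left).eq]
      _ = v' * D.z * v'⁻¹ := by group
      _ = D.z := by
        rw [(hvc' D.z ((mem_Cd D).2 ⟨Commute.refl _, D.uz.symm⟩)).eq, mul_inv_cancel_right]
  have hzx : Commute D.z (x * D.r ^ i0) := by
    rw [← e]
    exact ((hvs.mul_left hvt).mul_left hvs.inv_left).mul_left hvt.inv_left
  have h1 := xr1 D x1 i0
  rw [hzx.symm.eq, mul_inv_cancel_right] at h1
  exact D.u_ne_z h1.symm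

include x1 x2 in
theorem exists_two [Finite G] (xr : Commute x D.r) (x3 : x ^ 3 = 1)
    (hu : ∃ y, y * D.z * y⁻¹ = D.u) : ∃ i < 3, ∃ j < 3, i ≠ j ∧
      (∃ y, y * (x * D.r ^ i) * y⁻¹ = D.r) ∧ (∃ y, y * (x * D.r ^ j) * y⁻¹ = D.r) := by
  obtain ⟨i, hi, -, q, hq, hq1, hqc⟩ := exists_nontrivial D x1 x2 xr x3 0 (by omega)
  obtain ⟨j, hj, hji, q', hq', hq1', hqc'⟩ := exists_nontrivial D x1 x2 xr x3 i hi
  exact ⟨j, hj, i, hi, hji, conj_of_commute D x1 x2 xr x3 hu hq' hq1' hqc',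
    conj_of_commute D x1 x2 xr x3 hu hq hq1 hqc⟩

end x

end Cfsg.Agent.SporRec.TwoNine.FuseX
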