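import Cfsg.Agent.Lib.Cores
import Cfsg.Agent.S0215

/-!
# Generalities: the odd core of a subgroup, involutions with a unique involution in their centraliser
-/

set_option autoImplicit false

namespace Cfsg.Agent.SporRec.TwoNine.Gen

open Subgroup Cfsg
open Cfsg.Agent.Lib

variable {G : Type*} [Group G]

/-- the odd core of a subgroup -/
def oc (N : Subgroup G) : Subgroup G := (pPrimeCore 2 N).map N.subtype

theorem oc_le (N : Subgroup G) : oc N ≤ N := by
  rintro _ ⟨x, -, rfl⟩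
  exact x.2

theorem odd_card_oc [Finite G] (N : Subgroup G) : Odd (Nat.card (oc N)) := by
  have h1 : Nat.card (oc N) = Nat.card (pPrimeCore 2 N) :=
    (Nat.card_congr ((pPrimeCore 2 N).equivMapOfInjective N.subtype
      N.subtype_injective).toEquiv).symm
  rw [h1, ← Nat.coprime_two_right]
  exact Cores.pPrimeCore_coprime 2

theorem le_oc {N M : Subgroup G} (hMN : M ≤ N) (hn : ∀ g ∈ N, ∀ m ∈ M, g * m * g⁻¹ ∈ M)
    (ho : Odd (Nat.card M)) : M ≤ oc N := by
  have h1 : (M.subgroupOf N).Normal := by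
    refine ⟨fun m hm g => ?_⟩
    rw [mem_subgroupOf] at hm ⊢
    exact hn g g.2 m hm
  have h2 : (Nat.card (M.subgroupOf N)).Coprime 2 := by
    rw [Nat.card_congr (subgroupOfEquivOfLe hMN).toEquiv, Nat.coprime_two_right]
    exact ho
  intro m hm
  exact ⟨⟨m, hMN hm⟩, Cores.le_pPrimeCore h1 h2 (mem_subgroupOf.2 hm), rfl⟩

/-- an element normalizing `N` normalizes its odd core -/
theorem oc_conj {N : Subgroup G} {g : G} (hg : g ∈ normalizer (N : Set G)) {k : G}
    (hk : k ∈ oc N) : g * k * g⁻¹ ∈ oc N := by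
  obtain ⟨y, hy, rfl⟩ := hk
  let e : N ≃* N := N.normalizerMonoidHom ⟨g, hg⟩
  have h1 := Cores.map_equiv_pPrimeCore e 2
  have h2 : e y ∈ pPrimeCore 2 N := by
    rw [← h1]
    exact mem_map_of_mem _ hy
  exact ⟨e y, h2, rfl⟩

theorem mem_normalizer_of_conj [Finite G] {N : Subgroup G} {g : G}
    (hg : ∀ x ∈ N, g * x * g⁻¹ ∈ N) : g ∈ normalizer (N : Set G) := by
  have hinj : Function.Injective (fun x : N => (⟨g * x * g⁻¹, hg x x.2⟩ : N)) := by
    intro x y hxy
    have h1 : g * (x : G) * g⁻¹ = g * (y : G) * g⁻¹ := congrArg Subtype.val hxy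
    exact Subtype.ext (mul_left_cancel (mul_right_cancel h1))
  have hsurj := Finite.surjective_of_injective hinj
  rw [mem_normalizer_iff]
  intro x
  constructor
  · exact hg x
  · intro hx
    obtain ⟨y, hy⟩ := hsurj ⟨_, hx⟩
    have h1 : g * (y : G) * g⁻¹ = g * x * g⁻¹ := congrArg Subtype.val hy
    have h2 : (y : G) = x := mul_left_cancel (mul_right_cancel h1)
    rw [← h2]
    exact y.2

theorem orderOf_odd_of_mem {N : Subgroup G} (ho : Odd (Nat.card N)) {x : G} (hx : x ∈ N) :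
    Odd (orderOf x) := by
  have h1 : orderOf (⟨x, hx⟩ : N) ∣ Nat.card N := orderOf_dvd_natCard _
  have h2 : orderOf (⟨x, hx⟩ : N) = orderOf x := orderOf_mk x hx
  rw [← h2]
  exact ho.of_dvd_nat h1

/-- an element of odd order of square one is trivial -/
theorem eq_one_of_odd {x : G} (ho : Odd (orderOf x)) (h : x * x = 1) : x = 1 := by
  have h1 : orderOf x ∣ 2 := orderOf_dvd_of_pow_eq_one (by rw [pow_two]; exact h)
  rcases (Nat.dvd_prime Nat.prime_two).1 h1 with h2 | h2
  · exact orderOf_eq_one_iff.1 h2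
  · rw [h2] at ho
    exact absurd ho (by decide)

theorem exists_sqrt {c : G} (hc : Odd (orderOf c)) : ∃ k : ℕ, c ^ k * c ^ k = c := by
  obtain ⟨k, hk⟩ := hc
  refine ⟨k + 1, ?_⟩
  have h1 : c ^ (2 * k + 1) = 1 := by rw [← hk]; exact pow_orderOf_eq_one c
  calc c ^ (k + 1) * c ^ (k + 1) = c ^ (2 * k + 1) * c := by
        rw [← pow_add, ← pow_succ]; congr 1; ring
    _ = c := by rw [h1, one_mul]

/-- If the involution `z` maps the coset `K g` to itself, it fixes an element of it. -/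
theorem exists_fixed {K : Subgroup G} (ho : Odd (Nat.card K)) {z g : G} (hzz : z * z = 1)
    (hg : z * g * z⁻¹ * g⁻¹ ∈ K) : ∃ k ∈ K, Commute (k * g) z := by
  have hzi : z⁻¹ = z := inv_eq_of_mul_eq_one_left hzz
  set w := z * g * z⁻¹ * g⁻¹ with hw
  have hzw : z * w * z⁻¹ = w⁻¹ := by
    rw [hw, mul_inv_rev, mul_inv_rev, mul_inv_rev, inv_inv, inv_inv]
    calc z * (z * g * z⁻¹ * g⁻¹) * z⁻¹ = (z * z) * g * z⁻¹ * g⁻¹ * z⁻¹ := by group
      _ = g * (z * (g⁻¹ * z⁻¹)) := by rw [hzz, hzi]; group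
  obtain ⟨j, hj⟩ := exists_sqrt (orderOf_odd_of_mem ho hg)
  refine ⟨w ^ j, K.pow_mem hg j, ?_⟩
  have h1 : z * w ^ j * z⁻¹ = (w ^ j)⁻¹ := by
    rw [← conj_pow, hzw, inv_pow]
  have h2 : z * g * z⁻¹ = w * g := by rw [hw]; group
  have h3 : z * (w ^ j * g) * z⁻¹ = w ^ j * g := by
    calc z * (w ^ j * g) * z⁻¹ = (z * w ^ j * z⁻¹) * (z * g * z⁻¹) := by group
      _ = (w ^ j)⁻¹ * (w * g) := by rw [h1, h2]
      _ = (w ^ j)⁻¹ * (w ^ j * w ^ j) * g := by rw [hj]; group
      _ = w ^ j * g := by group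
  exact (mul_inv_eq_iff_eq_mul.1 h3).symm

/-- Let `z` be an involution which is the only involution commuting with it in the finite group `M`. Then
all involutions are conjugate to `z`, and (Glauberman, Brauer–Suzuki) `z` is central modulo the odd
core. -/
theorem unique_involution {M : Type*} [Group M] [Finite M] {z : M} (hzz : z * z = 1) (hz1 : z ≠ 1)
    (hu : ∀ t : M, t * t = 1 → t ≠ 1 → Commute t z → t = z) :
    (∀ t : M, t * t = 1 → t ≠ 1 → ∃ m : M, m * t * m⁻¹ = z) ∧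
      ∀ g : M, z * g * z⁻¹ * g⁻¹ ∈ pPrimeCore 2 M := by
  have h2 : Fact (Nat.Prime 2) := ⟨Nat.prime_two⟩
  have hoz : orderOf z = 2 := orderOf_eq_prime (by rw [pow_two]; exact hzz) hz1
  have hpz : IsPGroup 2 (zpowers z) := by
    refine IsPGroup.of_card (n := 1) ?_
    rw [Nat.card_zpowers, hoz, pow_one]
  obtain ⟨P, hP⟩ := hpz.exists_le_sylow
  have hzP : z ∈ P := hP (mem_zpowers z)
  have hne : Nontrivial P := ⟨⟨⟨z, hzP⟩, 1, fun h => hz1 (congrArg Subtype.val h)⟩⟩
  have hcne : Nontrivial (center P) := IsPGroup.center_nontrivial P.isPGroup'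
  -- an involution in the centre of `P`
  have hzc : ∀ s ∈ P, Commute s z := by
    have hdvd : 2 ∣ Nat.card (center P) := by
      obtain ⟨k, hk⟩ := IsPGroup.iff_card.1 (P.isPGroup'.to_subgroup (center P))
      have hk0 : k ≠ 0 := by
        rintro rfl
        rw [pow_zero] at hk
        exact absurd hk (ne_of_gt (Finite.one_lt_card))
      rw [hk]; exact dvd_pow_self 2 hk0
    obtain ⟨t, ht⟩ := exists_prime_orderOf_dvd_card' 2 hdvd
    have ht1 : ((t : P) : M) ≠ 1 := by
      intro h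
      have : t = 1 := Subtype.ext (Subtype.ext h)
      rw [this, orderOf_one] at ht
      exact absurd ht (by decide)
    have htt : ((t : P) : M) * ((t : P) : M) = 1 := by
      have h3 : t ^ 2 = 1 := by
        have := pow_orderOf_eq_one t
        rwa [ht] at this
      rw [pow_two] at h3
      exact congrArg (fun x : center P => ((x : P) : M)) h3
    have hcomm : ∀ s ∈ P, Commute s ((t : P) : M) := by
      intro s hs
      exact congrArg Subtype.val (mem_center_iff.1 t.2 ⟨s, hs⟩)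
    have h4 := hu _ htt ht1 (hcomm z hzP).symm
    rw [h4] at hcomm
    exact hcomm
  have hP1 : ∀ s ∈ P, s * s = 1 → s ≠ 1 → s = z := fun s hs h3 h4 => hu s h3 h4 (hzc s hs)
  have hconj : ∀ t : M, t * t = 1 → t ≠ 1 → ∃ m : M, m * t * m⁻¹ = z := by
    intro t htt ht1
    have hot : orderOf t = 2 := orderOf_eq_prime (by rw [pow_two]; exact htt) ht1
    have hpt : IsPGroup 2 (zpowers t) := by
      refine IsPGroup.of_card (n := 1) ?_
      rw [Nat.card_zpowers, hot, pow_one]
    obtain ⟨Q, hQ⟩ := hpt.exists_le_sylow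
    obtain ⟨m, hm⟩ := MulAction.exists_smul_eq M Q P
    refine ⟨m, hP1 _ ?_ ?_ ?_⟩
    · rw [← hm]
      change m * t * m⁻¹ ∈ ((m • Q : Sylow 2 M) : Subgroup M)
      rw [Sylow.coe_subgroup_smul, Subgroup.mem_pointwise_smul_iff_inv_smul_mem]
      have : (MulAut.conj m)⁻¹ • (m * t * m⁻¹) = t := by
        rw [← map_inv, MulAut.smul_def, MulAut.conj_apply]; group
      rw [this]
      exact hQ (mem_zpowers t)
    · calc m * t * m⁻¹ * (m * t * m⁻¹) = m * (t * t) * m⁻¹ := by group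
        _ = 1 := by rw [htt]; group
    · intro h
      apply ht1
      calc t = m⁻¹ * (m * t * m⁻¹) * m := by group
        _ = 1 := by rw [h]; group
  refine ⟨hconj, ?_⟩
  obtain ⟨N, hN, hodd, hcomm⟩ := Cfsg.Agent.S0215.result P z hoz hzP (by
    intro g hg
    refine hP1 _ hg ?_ ?_
    · calc g * z * g⁻¹ * (g * z * g⁻¹) = g * (z * z) * g⁻¹ := by group
        _ = 1 := by rw [hzz]; group
    · intro h
      apply hz1
      calc z = g⁻¹ * (g * z * g⁻¹) * g := by group
        _ = 1 := by rw [h]; group)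
  intro g
  exact Cores.le_pPrimeCore hN (Nat.coprime_two_right.2 hodd) (hcomm g)

/-- The same for a subgroup. -/
theorem unique_involution_sub [Finite G] {N : Subgroup G} {z : G} (hzN : z ∈ N) (hzz : z * z = 1)
    (hz1 : z ≠ 1) (hu : ∀ t ∈ N, t * t = 1 → t ≠ 1 → Commute t z → t = z) :
    (∀ t ∈ N, t * t = 1 → t ≠ 1 → ∃ m ∈ N, m * t * m⁻¹ = z) ∧
      ∀ g ∈ N, z * g * z⁻¹ * g⁻¹ ∈ oc N := by
  obtain ⟨h1, h2⟩ := unique_involution (M := N) (z := ⟨z, hzN⟩) (Subtype.ext hzz)
    (fun h => hz1 (congrArg Subtype.val h)) (by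
      intro t ht ht1 htz
      refine Subtype.ext (hu t t.2 (congrArg Subtype.val ht) (fun h => ht1 (Subtype.ext h)) ?_)
      exact congrArg Subtype.val htz)
  refine ⟨?_, ?_⟩
  · intro t ht htt ht1
    obtain ⟨m, hm⟩ := h1 ⟨t, ht⟩ (Subtype.ext htt) (fun h => ht1 (congrArg Subtype.val h))
    exact ⟨m, m.2, congrArg Subtype.val hm⟩
  · intro g hg
    exact ⟨_, h2 ⟨g, hg⟩, rfl⟩

end Cfsg.Agent.SporRec.TwoNine.Gen
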