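import Cfsg.Agent.SporRec.TwoNine.KCore
import Cfsg.Agent.SporRec.TwoNine.CaseTwo

/-!
# The order of the odd core of the centraliser of a 3-cycle
-/

set_option autoImplicit false

namespace Cfsg.Agent.SporRec.TwoNine.KCard

open Equiv Equiv.Perm Subgroup Cfsg
open Cfsg.Agent.Lib
open Cfsg.Agent.SporRec.TwoNine.Cv Cfsg.Agent.SporRec.TwoNine.Perms
  Cfsg.Agent.SporRec.TwoNine.PermFacts Cfsg.Agent.SporRec.TwoNine.PermFacts2
  Cfsg.Agent.SporRec.TwoNine.PermFacts3 Cfsg.Agent.SporRec.TwoNine.Basic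
  Cfsg.Agent.SporRec.TwoNine.Lifts Cfsg.Agent.SporRec.TwoNine.Lifts.Data
  Cfsg.Agent.SporRec.TwoNine.Fuse Cfsg.Agent.SporRec.TwoNine.KCore
open Cfsg.Agent.SporadicB.J1Local

variable {G : Type*} [Group G] {m : ℕ} (D : Data G m)

/-- the order of the centraliser of `z` -/
theorem card_centralizer_z [Finite G] : Nat.card (centralizer {D.z}) = (m + 9).factorial := by
  have memC : ∀ {x : G}, x ∈ centralizer {D.z} ↔ Commute x D.z := mem_centralizer_singleton_iff
  let ψ : centralizer {D.z} →* Perm (Fin (m + 9)) :=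
    { toFun := fun x => D.p x
      map_one' := D.cv.one
      map_mul' := fun x y => D.cv.mul (memC.1 x.2) (memC.1 y.2) }
  have hrange : ψ.range = alternatingGroup (Fin (m + 9)) := by
    ext σ
    rw [MonoidHom.mem_range, mem_alternatingGroup]
    constructor
    · rintro ⟨x, rfl⟩
      exact D.cv.sgn (memC.1 x.2)
    · intro hσ
      obtain ⟨x, hx, hxσ⟩ := D.cv.surj hσ
      exact ⟨⟨x, memC.2 hx⟩, hxσ⟩
  have hker : Nat.card ψ.ker = 2 := by
    have h1 : ψ.ker = zpowers (⟨D.z, memC.2 (Commute.refl _)⟩ : centralizer {D.z}) := by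
      ext x
      rw [MonoidHom.mem_ker, mem_zpowers_iff]
      constructor
      · intro hx
        rcases D.cv.ker (memC.1 x.2) hx with h | h
        · exact ⟨0, by rw [zpow_zero]; exact Subtype.ext h.symm⟩
        · exact ⟨1, by rw [zpow_one]; exact Subtype.ext h.symm⟩
      · rintro ⟨k, rfl⟩
        rw [map_zpow]
        have : ψ ⟨D.z, memC.2 (Commute.refl _)⟩ = 1 := D.cv.pz
        rw [this, one_zpow]
    rw [h1, Nat.card_zpowers, orderOf_mk]
    exact orderOf_eq_prime (by rw [pow_two]; exact D.zz) D.z_ne_one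
  have h1 := ψ.ker.card_mul_index
  rw [index_ker, hker, hrange] at h1
  rw [← h1]
  have h2 : Nontrivial (Fin (m + 9)) := ⟨⟨0, 1, by
    have := D.hm; interval_cases m <;> decide⟩⟩
  have h3 := two_mul_nat_card_alternatingGroup (α := Fin (m + 9))
  rw [h3, Nat.card_perm, Nat.card_eq_fintype_card, Fintype.card_fin]

theorem not_243_dvd [Finite G] : ¬ 3 ^ (4 + 1) ∣ Nat.card (centralizer {D.z}) := by
  rw [card_centralizer_z]
  have hm := D.hm
  interval_cases m <;> decide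

/-- there is no abelian subgroup of order 81 in the centraliser of `z` -/
theorem not_abelian_81 [Finite G] {S : Subgroup G} (hS : S ≤ centralizer {D.z})
    (hc : ∀ x ∈ S, ∀ y ∈ S, Commute x y) : Nat.card S ≠ 81 := by
  intro hS81
  have memC : ∀ {x : G}, x ∈ centralizer {D.z} ↔ Commute x D.z := mem_centralizer_singleton_iff
  have hf3 : Fact (Nat.Prime 3) := ⟨by norm_num⟩
  have hAC : D.A ≤ centralizer {D.z} := fun x hx => memC.2 (D.commute_z_of_mem_A hx)
  have h81 : 3 ^ (3 + 1) ∣ Nat.card (centralizer {D.z}) := by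
    rw [card_centralizer_z]
    have hm := D.hm
    interval_cases m <;> decide
  obtain ⟨T, hTC, hAT, hT, -⟩ := S27.exists_normalizing hAC (n := 3) (by rw [D.card_A]; rfl) h81
  have hfac : (Nat.card (centralizer {D.z})).factorization 3 = 4 := by
    have h1 : 4 ≤ (Nat.card (centralizer {D.z})).factorization 3 :=
      (Nat.Prime.pow_dvd_iff_le_factorization (by norm_num) Nat.card_pos.ne').1 h81
    have h2 : ¬ 5 ≤ (Nat.card (centralizer {D.z})).factorization 3 := by
      rw [← Nat.Prime.pow_dvd_iff_le_factorization (by norm_num) Nat.card_pos.ne']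
      exact not_243_dvd D
    omega
  let P : Sylow 3 (centralizer {D.z}) := Sylow.ofCard (S.subgroupOf _) (by
    rw [hfac, Nat.card_congr (subgroupOfEquivOfLe hS).toEquiv, hS81]; rfl)
  let Q : Sylow 3 (centralizer {D.z}) := Sylow.ofCard (T.subgroupOf _) (by
    rw [hfac, Nat.card_congr (subgroupOfEquivOfLe hTC).toEquiv, hT])
  obtain ⟨w, hw⟩ := MulAction.exists_smul_eq (centralizer {D.z}) Q P
  have hmem : ∀ t ∈ T, (w : G) * t * (w : G)⁻¹ ∈ S := by
    intro t ht
    have h1 : w * (⟨t, hTC ht⟩ : centralizer {D.z}) * w⁻¹ ∈ (P : Subgroup (centralizer {D.z})) := by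
      rw [← hw, Sylow.coe_subgroup_smul, Subgroup.mem_pointwise_smul_iff_inv_smul_mem]
      have : (MulAut.conj w)⁻¹ • (w * (⟨t, hTC ht⟩ : centralizer {D.z}) * w⁻¹) = ⟨t, hTC ht⟩ := by
        rw [← map_inv, MulAut.smul_def, MulAut.conj_apply]; group
      rw [this]
      exact mem_subgroupOf.2 ht
    exact mem_subgroupOf.1 h1
  have hTc : ∀ t ∈ T, ∀ s ∈ T, Commute t s := by
    intro t ht s hs
    have h1 := hc _ (hmem t ht) _ (hmem s hs)
    exact SemiconjBy.conj_iff.1 h1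
  have hTA : T ≤ D.A := by
    intro t ht
    refine mem_A_of_odd D (mem_A_or_of_plane D (e := 1) (Or.inl rfl) (memC.1 (hTC ht))
      (hTc t ht _ (hAT D.rA)) (hTc t ht _ (hAT (mul_mem D.aA (pow_mem D.cA 1)))))
      (memC.1 (hTC ht)) (Gen.orderOf_odd_of_mem (N := T) (by rw [hT]; decide) ht)
  have h1 := card_le_of_le hTA
  rw [hT, D.card_A] at h1
  norm_num at h1

section v

variable {v l : G} (vz : Commute v D.z) (vv : v * v = 1) (va : v * D.a * v⁻¹ = D.a⁻¹)
  (lz : Commute l D.z) (la : Commute l D.a) (lv : l * v * l⁻¹ = D.z * v)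

include vz vv va in
theorem hyp [Finite G] : Kstr.Hyp (K D) D.z v D.a := by
  have vi : v⁻¹ = v := inv_eq_of_mul_eq_one_left vv
  refine ⟨fun k hk => odd_of_mem D hk, D.zz, vv, vz.symm.eq, a_mem D, fun k hk => (comm_a D hk).eq,
    fun k hk => ?_, fun k hk => ?_, D.az.symm.eq, ?_, fun k hk hzk => ?_⟩
  · have := K_conj' D D.az.symm hk
    rwa [D.z_inv] at this
  · have := K_conj D (Or.inr va) hk
    rwa [vi] at this
  · rw [vi] at va; exact va
  · obtain ⟨i, -, hi⟩ := cent_z D hk hzk.symm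
    rw [hi]
    exact pow_mem (mem_zpowers _) i

/-- the centraliser of `v` in `K` -/
def B (v : G) : Subgroup G := K D ⊓ centralizer {v}

theorem mem_B {v x : G} : x ∈ B D v ↔ x ∈ K D ∧ Commute x v := by
  rw [B, mem_inf, mem_centralizer_singleton_iff]
  rfl

include vz vv va in
theorem inv_B [Finite G] {x : G} (hx : x ∈ B D v) : D.z * x * D.z⁻¹ = x⁻¹ := by
  obtain ⟨hxK, hxv⟩ := (mem_B D).1 hx
  have hy := hyp D vz vv va
  obtain ⟨w, hw, e⟩ := hy.inv hxK
  have hww := hy.sz hw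
  have vi : v⁻¹ = v := inv_eq_of_mul_eq_one_left vv
  have e1 : v * (D.z * x * D.z) * v = D.z * x * D.z := by
    have c : Commute (D.z * x * D.z) v := (vz.symm.mul_left hxv).mul_left vz.symm
    rw [← c.eq, mul_assoc, vv, mul_one]
  have e2 : v * (x⁻¹ * w) * v = x⁻¹ * w⁻¹ := by
    calc v * (x⁻¹ * w) * v = (v * x⁻¹) * w * v := by group
      _ = x⁻¹ * (v * w * v) := by rw [← hxv.inv_left.eq]; group
      _ = x⁻¹ * w⁻¹ := by rw [hww]
  have e3 : w = w⁻¹ := by
    rw [e, e2] at e1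
    exact (mul_left_cancel e1).symm
  have hw1 : w = 1 := by
    refine Gen.eq_one_of_odd (odd_of_mem D (hy.zK hw)) ?_
    calc w * w = w * w⁻¹ := by rw [← e3]
      _ = 1 := mul_inv_cancel w
  rw [D.z_inv, e, hw1, mul_one]

include vz vv va in
theorem comm_B [Finite G] {x y : G} (hx : x ∈ B D v) (hy : y ∈ B D v) : Commute x y := by
  have h1 := inv_B D vz vv va (mul_mem hx hy)
  have h2 : D.z * (x * y) * D.z⁻¹ = x⁻¹ * y⁻¹ := by
    calc D.z * (x * y) * D.z⁻¹ = (D.z * x * D.z⁻¹) * (D.z * y * D.z⁻¹) := by group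
      _ = x⁻¹ * y⁻¹ := by rw [inv_B D vz vv va hx, inv_B D vz vv va hy]
  have h3 : (x * y)⁻¹ = (y * x)⁻¹ := by rw [← h1, h2, mul_inv_rev]
  exact inv_injective h3

include vz vv va lz la lv in
/-- `|K| = 3 |B|²` -/
theorem card_K [Finite G] : Nat.card (K D) = 3 * Nat.card (B D v) ^ 2 := by
  have hy := hyp D vz vv va
  -- the centraliser of `z v`
  have toB' : ∀ x ∈ B D v, l * x * l⁻¹ ∈ B D (D.z * v) := by
    intro x hx
    obtain ⟨h1, h2⟩ := (mem_B D).1 hx
    refine (mem_B D).2 ⟨K_conj' D la h1, ?_⟩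
    rw [← lv]
    exact SemiconjBy.conj_iff.2 h2
  have fromB' : ∀ x ∈ B D (D.z * v), l⁻¹ * x * l ∈ B D v := by
    intro x hx
    obtain ⟨h1, h2⟩ := (mem_B D).1 hx
    refine (mem_B D).2 ⟨?_, ?_⟩
    · have := K_conj' D la.inv_left h1
      rwa [inv_inv] at this
    · have h3 : Commute (l⁻¹ * x * (l⁻¹)⁻¹) (l⁻¹ * (D.z * v) * (l⁻¹)⁻¹) :=
        SemiconjBy.conj_iff.2 h2
      have h4 : l⁻¹ * (D.z * v) * (l⁻¹)⁻¹ = v := by rw [← lv]; group
      rwa [h4, inv_inv] at h3
  have hcardB' : Nat.card (B D (D.z * v)) = Nat.card (B D v) := by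
    refine Nat.card_congr ⟨fun x => ⟨_, fromB' x x.2⟩, fun x => ⟨_, toB' x x.2⟩, ?_, ?_⟩
    · rintro ⟨x, hx⟩
      exact Subtype.ext (by change l * (l⁻¹ * x * l) * l⁻¹ = x; group)
    · rintro ⟨x, hx⟩
      exact Subtype.ext (by change l⁻¹ * (l * x * l⁻¹) * l = x; group)
  have inv_B' : ∀ x ∈ B D (D.z * v), D.z * x * D.z⁻¹ = x⁻¹ := by
    intro x hx
    have h1 := inv_B D vz vv va (fromB' x hx)
    calc D.z * x * D.z⁻¹ = D.z * (l * (l⁻¹ * x * l) * l⁻¹) * D.z⁻¹ := by group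
      _ = (D.z * l) * (l⁻¹ * x * l) * (D.z * l)⁻¹ := by group
      _ = (l * D.z) * (l⁻¹ * x * l) * (l * D.z)⁻¹ := by rw [lz.eq]
      _ = l * (D.z * (l⁻¹ * x * l) * D.z⁻¹) * l⁻¹ := by group
      _ = x⁻¹ := by rw [h1]; group
  have hcz : Nat.card (zpowers D.a) = 3 := by
    have hf3 : Fact (Nat.Prime 3) := ⟨by norm_num⟩
    rw [Nat.card_zpowers]
    refine orderOf_eq_prime D.a3 ?_
    intro h
    have h1 := D.pa
    rw [h, D.cv.one] at h1
    have hm := D.hm
    revert h1; interval_cases m <;> decide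
  have hw_c : ∀ w ∈ zpowers D.a, ∀ k ∈ K D, Commute k w := fun w hw k hk => hy.zc hw hk
  have hbij : Nat.card (B D v × B D (D.z * v) × zpowers D.a) = Nat.card (K D) := by
    refine Nat.card_congr (Equiv.ofBijective (fun t : B D v × B D (D.z * v) × zpowers D.a =>
      (⟨(t.1 : G) * (t.2.1 : G) * (t.2.2 : G), mul_mem (mul_mem ((mem_B D).1 t.1.2).1
        ((mem_B D).1 t.2.1.2).1) (hy.zK t.2.2.2)⟩ : K D)) ⟨?_, ?_⟩)
    · rintro ⟨⟨b, hb⟩, ⟨b', hb'⟩, ⟨w, hw⟩⟩ ⟨⟨c, hc⟩, ⟨c', hc'⟩, ⟨x, hx⟩⟩ h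
      have e : b * b' * w = c * c' * x := congrArg Subtype.val h
      have hbK := ((mem_B D).1 hb).1
      have hbK' := ((mem_B D).1 hb').1
      have hcK := ((mem_B D).1 hc).1
      have hcK' := ((mem_B D).1 hc').1
      set β := c⁻¹ * b with hβ
      set β' := c' * b'⁻¹ with hβ'
      set t := x * w⁻¹ with ht
      have hβB : β ∈ B D v := mul_mem (inv_mem hc) hb
      have hβB' : β' ∈ B D (D.z * v) := mul_mem hc' (inv_mem hb')
      have htz : t ∈ zpowers D.a := mul_mem hx (inv_mem hw)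
      have e1 : β = β' * t := by
        calc β = c⁻¹ * (b * b' * w) * w⁻¹ * b'⁻¹ := by rw [hβ]; group
          _ = c' * (x * w⁻¹ * b'⁻¹) := by rw [e]; group
          _ = c' * (b'⁻¹ * (x * w⁻¹)) := by rw [(hw_c _ htz _ (inv_mem hbK')).symm.eq]
          _ = β' * t := by rw [hβ', ht]; group
      have e2 : β⁻¹ = β'⁻¹ * t := by
        calc β⁻¹ = D.z * β * D.z⁻¹ := (inv_B D vz vv va hβB).symm
          _ = (D.z * β' * D.z⁻¹) * (D.z * t * D.z⁻¹) := by rw [e1]; group
          _ = β'⁻¹ * t := by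
            have : D.z * t * D.z⁻¹ = t := by rw [D.z_inv]; exact hy.tz htz
            rw [inv_B' _ hβB', this]
      have ht1 : t = 1 := by
        refine Gen.eq_one_of_odd (odd_of_mem D (hy.zK htz)) ?_
        have c1 := hw_c _ htz _ (inv_mem ((mem_B D).1 hβB').1)
        calc t * t = β'⁻¹ * (β' * t) * t := by group
          _ = β'⁻¹ * β * t := by rw [← e1]
          _ = β'⁻¹ * β * (β' * (β'⁻¹ * t)) := by group
          _ = β'⁻¹ * β * (β' * β⁻¹) := by rw [← e2]
          _ = β'⁻¹ * (β' * t) * (β' * (β' * t)⁻¹) := by rw [← e1]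
          _ = t * (β' * (t⁻¹ * β'⁻¹)) := by group
          _ = t * (β' * (β'⁻¹ * t⁻¹)) := by rw [c1.inv_right.eq]
          _ = 1 := by group
      rw [ht1, mul_one] at e1
      have hβ1 : β = 1 := by
        refine Gen.eq_one_of_odd (odd_of_mem D ((mem_B D).1 hβB).1) ?_
        have c1 : Commute β (D.z * v) := by rw [e1]; exact ((mem_B D).1 hβB').2
        have c2 : Commute β D.z := by
          have h1 := c1.mul_right ((mem_B D).1 hβB).2.inv_right
          rwa [mul_inv_cancel_right] at h1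
        have h1 := inv_B D vz vv va hβB
        rw [c2.symm.eq, mul_inv_cancel_right] at h1
        calc β * β = β * β⁻¹ := by rw [← h1]
          _ = 1 := mul_inv_cancel β
      have f1 : b = c := (inv_mul_eq_one.1 hβ1).symm
      rw [hβ1] at e1
      have f2 : b' = c' := (mul_inv_eq_one.1 e1.symm).symm
      have f3 : w = x := (mul_inv_eq_one.1 ht1).symm
      subst f1 f2 f3
      rfl
    · rintro ⟨k, hk⟩
      obtain ⟨b, hb, hbv, b', hb', hbv', w, hw, e⟩ := hy.decomp hk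
      exact ⟨⟨⟨b, (mem_B D).2 ⟨hb, hbv.symm⟩⟩, ⟨b', (mem_B D).2 ⟨hb', hbv'.symm⟩⟩, ⟨w, hw⟩⟩,
        Subtype.ext e.symm⟩
  rw [← hbij, Nat.card_prod, Nat.card_prod, hcardB', hcz]
  ring

end v

end Cfsg.Agent.SporRec.TwoNine.KCard
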