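import Cfsg.Agent.SporRec.TwoNine.KCard
import Cfsg.Agent.S0023

/-!
# The order of the odd core of the centraliser of a 3-cycle, continued
-/

set_option autoImplicit false

namespace Cfsg.Agent.SporRec.TwoNine.KCard2

open Equiv Equiv.Perm Subgroup Cfsg
open Cfsg.Agent.Lib
open Cfsg.Agent.SporRec.TwoNine.Cv Cfsg.Agent.SporRec.TwoNine.Perms
  Cfsg.Agent.SporRec.TwoNine.PermFacts Cfsg.Agent.SporRec.TwoNine.PermFacts2
  Cfsg.Agent.SporRec.TwoNine.PermFacts3 Cfsg.Agent.SporRec.TwoNine.Basic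
  Cfsg.Agent.SporRec.TwoNine.Lifts Cfsg.Agent.SporRec.TwoNine.Lifts.Data
  Cfsg.Agent.SporRec.TwoNine.Fuse Cfsg.Agent.SporRec.TwoNine.KCore
  Cfsg.Agent.SporRec.TwoNine.KCard

variable {G : Type*} [Group G] {m : ℕ} (D : Data G m)

/-- the order of `B` divides `n!` -/
theorem card_B_dvd [Finite G] {v : G} (hv : ∃ y, y * D.z * y⁻¹ = v) :
    Nat.card (B D v) ∣ (m + 9).factorial := by
  obtain ⟨y, hy⟩ := hv
  rw [← card_centralizer_z D, ← CaseTwo.card_centralizer_conj (w := D.z) (y := y), hy]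
  exact card_dvd_of_le inf_le_right

/-- the order of `B`: the prime parts -/
theorem parts [Finite G] {v q₁ q₂ : G} (hv : ∃ y, y * D.z * y⁻¹ = v) (vz : Commute v D.z)
    (vv : v * v = 1) (va : v * D.a * v⁻¹ = D.a⁻¹) (q₁a : Commute q₁ D.a)
    (q₁v : Commute q₁ v) (hq₁ : q₁ * q₁ = D.z) (q₂a : Commute q₂ D.a)
    (q₂v : Commute q₂ v) (hq : q₁ * q₂ = q₂ * q₁ * D.z) :
    ((Nat.card (B D v)).factorization 3 = 0 ∨ (Nat.card (B D v)).factorization 3 = 2) ∧
      ∀ p, p.Prime → Odd p → (Nat.card (B D v)).factorization p ≠ 1 := by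
  have hinv : ∀ x ∈ B D v, D.z * x * D.z⁻¹ = x⁻¹ := fun x hx => inv_B D vz vv va hx
  have hcomm : ∀ x ∈ B D v, ∀ y ∈ B D v, Commute x y := fun x hx y hy => comm_B D vz vv va hx hy
  have hn : ∀ q : G, Commute q D.a → Commute q v → ∀ x ∈ B D v, q * x * q⁻¹ ∈ B D v := by
    intro q qa qv x hx
    obtain ⟨h1, h2⟩ := (mem_B D).1 hx
    exact (mem_B D).2 ⟨K_conj' D qa h1, (qv.mul_left h2).mul_left qv.inv_left⟩
  have hodd : ∀ x ∈ B D v, Odd (orderOf x) := fun x hx => odd_of_mem D ((mem_B D).1 hx).1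
  constructor
  · have hf3 : Fact (Nat.Prime 3) := ⟨by norm_num⟩
    obtain ⟨P, hPB, hP, hPn⟩ := Count.exists_pPart (B D v) hcomm 3
    set f := (Nat.card (B D v)).factorization 3 with hf
    -- the order is one modulo four
    have h4 : 4 ∣ Nat.card {x : G | x ∈ P ∧ x ≠ 1} := by
      refine Count.four_dvd _ q₁ D.z hq₁ D.zz ?_ ?_ ?_
      · rintro x ⟨hx, hx1⟩
        refine ⟨hPn q₁ (hn q₁ q₁a q₁v) x hx, ?_⟩
        intro h
        apply hx1
        calc x = q₁⁻¹ * (q₁ * x * q₁⁻¹) * q₁ := by group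
          _ = 1 := by rw [h]; group
      · rintro x ⟨hx, -⟩
        exact hinv x (hPB hx)
      · rintro x ⟨hx, hx1⟩ h
        apply hx1
        refine Gen.eq_one_of_odd (hodd x (hPB hx)) ?_
        nth_rewrite 1 [← h]
        exact inv_mul_cancel x
    have hcard : Nat.card {x : G | x ∈ P ∧ x ≠ 1} + 1 = Nat.card P := by
      have h1 : {x : G | x ∈ P ∧ x ≠ 1} = (P : Set G) \ {1} := by ext x; simp
      rw [h1]
      have h2 := Set.ncard_sdiff_singleton_add_one (a := (1 : G)) (s := (P : Set G)) (one_mem P)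
        (Set.toFinite _)
      rw [Set.ncard, Set.ncard] at h2
      exact h2
    rw [hP] at hcard
    have hf4 : f ≤ 4 := by
      have h1 := card_B_dvd D hv
      by_contra hlt
      push Not at hlt
      have h2 : 3 ^ 5 ∣ Nat.card (B D v) :=
        (Nat.Prime.pow_dvd_iff_le_factorization (by norm_num) Nat.card_pos.ne').2 hlt
      have h3 := h2.trans h1
      have key : ∀ m : ℕ, m < 2 → ¬ 3 ^ 5 ∣ (m + 9).factorial := by
        intro m hm
        interval_cases m <;> decide
      exact key m D.hm h3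
    have hf81 : f ≠ 4 := by
      intro h
      obtain ⟨y, hy⟩ := hv
      have hconj : ∀ x ∈ P, Commute (y⁻¹ * x * y) D.z := by
        intro x hx
        have h1 : Commute x v := ((mem_B D).1 (hPB hx)).2
        have h2 : Commute (y⁻¹ * x * (y⁻¹)⁻¹) (y⁻¹ * v * (y⁻¹)⁻¹) := SemiconjBy.conj_iff.2 h1
        have h3 : y⁻¹ * v * (y⁻¹)⁻¹ = D.z := by rw [← hy]; group
        rwa [h3, inv_inv] at h2
      let S : Subgroup G := P.map (MulAut.conj y⁻¹).toMonoidHom
      have memS : ∀ {s : G}, s ∈ S → ∃ x ∈ P, s = y⁻¹ * x * y := by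
        rintro s ⟨x, hx, rfl⟩
        exact ⟨x, hx, by simp⟩
      refine not_abelian_81 D (S := S) ?_ ?_ ?_
      · intro s hs
        obtain ⟨x, hx, rfl⟩ := memS hs
        exact mem_centralizer_singleton_iff.2 (hconj x hx)
      · intro s hs t ht
        obtain ⟨x, hx, rfl⟩ := memS hs
        obtain ⟨x', hx', rfl⟩ := memS ht
        have h1 := hcomm x (hPB hx) x' (hPB hx')
        have h2 : Commute (y⁻¹ * x * (y⁻¹)⁻¹) (y⁻¹ * x' * (y⁻¹)⁻¹) := SemiconjBy.conj_iff.2 h1
        rwa [inv_inv] at h2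
      · have h1 : Nat.card S = Nat.card P := (Nat.card_congr (P.equivMapOfInjective
          (MulAut.conj y⁻¹).toMonoidHom (MulAut.conj y⁻¹).injective).toEquiv).symm
        rw [h1, hP, h]; rfl
    have h5 : ∀ f : ℕ, f ≤ 4 → f ≠ 4 → 4 ∣ 3 ^ f - 1 → f = 0 ∨ f = 2 := by decide
    refine h5 f hf4 hf81 ?_
    have : 3 ^ f - 1 = Nat.card {x : G | x ∈ P ∧ x ≠ 1} := by omega
    rw [this]; exact h4
  · intro p hp hpo h1
    have hfp : Fact p.Prime := ⟨hp⟩
    obtain ⟨P, hPB, hP, hPn⟩ := Count.exists_pPart (B D v) hcomm p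
    rw [h1, pow_one] at hP
    exact Count.card_ne_prime hp hpo (hPn q₁ (hn q₁ q₁a q₁v)) (hPn q₂ (hn q₂ q₂a q₂v)) hq
      (fun x hx => hinv x (hPB hx)) hP

theorem odd_B [Finite G] (v : G) : Odd (Nat.card (B D v)) :=
  Odd.of_dvd_nat (odd_K D) (card_dvd_of_le inf_le_left)

theorem not_dvd_of_factorization {n p : ℕ} (hn : n ≠ 0) (hp : p.Prime) (h1 : n.factorization p ≠ 1)
    (h2 : ¬ p ^ 2 ∣ n) : ¬ p ∣ n := by
  intro h
  have h3 : 1 ≤ n.factorization p := (Nat.Prime.dvd_iff_one_le_factorization hp hn).1 h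
  have h4 : ¬ 2 ≤ n.factorization p := by
    rw [← Nat.Prime.pow_dvd_iff_le_factorization hp hn]; exact h2
  omega

theorem exists_v_conj {v : G} (vz : Commute v D.z) (vv : v * v = 1) (v1 : v ≠ 1) (v2 : v ≠ D.z)
    (hu : ∃ y, y * D.z * y⁻¹ = D.u) : ∃ y, y * D.z * y⁻¹ = v := by
  obtain ⟨g, -, hg⟩ := exists_conj_u D.hm D.cv D.uz D.pu vz vv v1 v2
  obtain ⟨y, hy⟩ := hu
  refine ⟨g⁻¹ * y, ?_⟩
  calc g⁻¹ * y * D.z * (g⁻¹ * y)⁻¹ = g⁻¹ * (y * D.z * y⁻¹) * g := by group
    _ = v := by rw [hy, ← hg]; group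

/-- degree nine -/
theorem nine [Finite G] (D : Data G 0) (hu : ∃ y, y * D.z * y⁻¹ = D.u) :
    (∀ y, Commute y D.a → Commute y D.z) ∨ Nat.card (K D) = 243 := by
  obtain ⟨v, l, q₁, q₂, vz, vv, v1, v2, va, lz, la, lv, q₁z, q₁a, q₁v, hq₁, q₂z, q₂a, q₂v, hq⟩ :=
    exists_aux D
  have hv := exists_v_conj D vz vv v1 v2 hu
  obtain ⟨h3, hp⟩ := parts D hv vz vv va q₁a q₁v hq₁ q₂a q₂v hq
  have hB := card_B_dvd D hv
  have hBo := odd_B D v
  have hB0 : Nat.card (B D v) ≠ 0 := Nat.card_pos.ne'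
  set b := Nat.card (B D v) with hb
  have h9 : (0 + 9).factorial = 3 ^ 4 * 4480 := by decide
  have h5 : ¬ 5 ∣ b := not_dvd_of_factorization hB0 (by norm_num)
    (hp 5 (by norm_num) (by decide)) (fun h => by
      have := h.trans hB
      revert this; decide)
  have h7 : ¬ 7 ∣ b := not_dvd_of_factorization hB0 (by norm_num)
    (hp 7 (by norm_num) (by decide)) (fun h => by
      have := h.trans hB
      revert this; decide)
  have hc : Nat.Coprime b 4480 := by
    have e : (4480 : ℕ) = 2 ^ 7 * 5 * 7 := by norm_num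
    rw [e]
    refine Nat.Coprime.mul_right (Nat.Coprime.mul_right (Nat.Coprime.pow_right _ ?_) ?_) ?_
    · exact Nat.coprime_two_right.2 hBo
    · exact ((Nat.Prime.coprime_iff_not_dvd (by norm_num)).2 h5).symm
    · exact ((Nat.Prime.coprime_iff_not_dvd (by norm_num)).2 h7).symm
  rw [h9] at hB
  obtain ⟨i, hi, hbi⟩ := (Nat.dvd_prime_pow (by norm_num)).1 (hc.dvd_of_dvd_mul_right hB)
  have hfi : b.factorization 3 = i := by
    rw [hbi, Nat.Prime.factorization_pow (by norm_num)]; simp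
  have hK := card_K D vz vv va lz la lv
  rw [← hb] at hK
  rw [hfi] at h3
  rcases h3 with h | h
  · left
    rw [hbi, h] at hK
    apply H1_of D
    intro x hx
    have h1 : zpowers D.a = K D := by
      refine Subgroup.eq_of_le_of_card_ge (zpowers_le.2 (a_mem D)) ?_
      have hf3 : Fact (Nat.Prime 3) := ⟨by norm_num⟩
      rw [hK, Nat.card_zpowers, orderOf_eq_prime D.a3 (by
        intro h
        have h1 := D.pa
        rw [h, D.cv.one] at h1
        revert h1; decide)]
      norm_num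
    rw [← h1] at hx
    obtain ⟨k, rfl⟩ := hx
    exact D.az.zpow_left k
  · right
    rw [hK, hbi, h]; norm_num

/-- an element of order seven acting on a small 3- or 5-group -/
theorem fixed_seven [Finite G] {P : Subgroup G} {p e : ℕ} (hp : p = 3 ∨ p = 5) (he : e ≤ 5)
    (hP : Nat.card P = p ^ e) {s : G} (hs : s ^ 7 = 1) (hn : ∀ x ∈ P, s * x * s⁻¹ ∈ P) :
    ∀ x ∈ P, Commute s x := by
  have hf7 : Fact (Nat.Prime 7) := ⟨by norm_num⟩
  have hpp : p.Prime := by rcases hp with rfl | rfl <;> norm_num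
  have hpow : ∀ (k : ℕ), ∀ x ∈ P, s ^ k * x * (s ^ k)⁻¹ ∈ P := by
    intro k
    induction k with
    | zero => intro x hx; simpa using hx
    | succ k ih =>
      intro x hx
      have h1 := ih _ (hn x hx)
      have h2 : s ^ k * (s * x * s⁻¹) * (s ^ k)⁻¹ = s ^ (k + 1) * x * (s ^ (k + 1))⁻¹ := by
        rw [pow_succ]; group
      rwa [h2] at h1
  have hzp : ∀ g ∈ zpowers s, ∃ k : ℕ, g = s ^ k := by
    intro g hg
    obtain ⟨k, hk⟩ := mem_powers_iff_mem_zpowers.2 hg
    exact ⟨k, hk.symm⟩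
  let act : MulAction (zpowers s) P :=
    { smul := fun g x => ⟨(g : G) * (x : G) * (g : G)⁻¹, by
        obtain ⟨k, hk⟩ := hzp g g.2
        rw [hk]; exact hpow k x x.2⟩
      one_smul := fun x => Subtype.ext (by
        change (1 : G) * (x : G) * (1 : G)⁻¹ = x
        simp)
      mul_smul := fun g h x => Subtype.ext (by
        change ((g : G) * (h : G)) * (x : G) * ((g : G) * (h : G))⁻¹ =
          (g : G) * ((h : G) * (x : G) * (h : G)⁻¹) * (g : G)⁻¹
        group) }
  have h7 : IsPGroup 7 (zpowers s) := by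
    rintro ⟨g, k, rfl⟩
    refine ⟨1, Subtype.ext ?_⟩
    change (s ^ k) ^ 7 ^ 1 = 1
    rw [pow_one, ← zpow_natCast, ← zpow_mul, mul_comm, zpow_mul, zpow_natCast, hs, one_zpow]
  have hmod := h7.card_modEq_card_fixedPoints (α := P)
  have hfix : Nat.card (MulAction.fixedPoints (zpowers s) P) =
      Nat.card (P ⊓ centralizer {s} : Subgroup G) := by
    refine Nat.card_congr ⟨fun x => ⟨((x : P) : G), ?_⟩, fun x => ⟨⟨x, (mem_inf.1 x.2).1⟩, ?_⟩,
      ?_, ?_⟩
    · refine mem_inf.2 ⟨(x : P).2, mem_centralizer_singleton_iff.2 ?_⟩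
      have h1 := x.2 ⟨s, mem_zpowers s⟩
      have h2 : s * ((x : P) : G) * s⁻¹ = ((x : P) : G) := congrArg Subtype.val h1
      exact (mul_inv_eq_iff_eq_mul.1 h2).symm
    · rintro ⟨g, hg⟩
      obtain ⟨k, hk⟩ := hzp g hg
      refine Subtype.ext ?_
      change g * (x : G) * g⁻¹ = x
      have h1 : Commute (x : G) s := mem_centralizer_singleton_iff.1 (mem_inf.1 x.2).2
      rw [hk, (h1.symm.pow_left k).eq, mul_inv_cancel_right]
    · intro x; rfl
    · intro x; rfl
  obtain ⟨f, hfe, hf⟩ := (Nat.dvd_prime_pow hpp).1 (hP ▸ card_dvd_of_le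
    (inf_le_left : P ⊓ centralizer {s} ≤ P))
  rw [hP, hfix, hf] at hmod
  have hfe' : f = e := by
    have key3 : ∀ e ≤ 5, ∀ f ≤ e, 3 ^ e % 7 = 3 ^ f % 7 → f = e := by decide
    have key5 : ∀ e ≤ 5, ∀ f ≤ e, 5 ^ e % 7 = 5 ^ f % 7 → f = e := by decide
    rcases hp with rfl | rfl
    · exact key3 e he f hfe hmod
    · exact key5 e he f hfe hmod
  have heq : P ⊓ centralizer {s} = P :=
    Subgroup.eq_of_le_of_card_ge inf_le_left (by rw [hf, hP, hfe'])
  intro x hx
  rw [← heq] at hx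
  exact (show Commute x s from mem_centralizer_singleton_iff.1 (mem_inf.1 hx).2).symm

set_option maxRecDepth 20000 in
/-- degree ten -/
theorem ten [Finite G] (D : Data G 1) (hu : ∃ y, y * D.z * y⁻¹ = D.u) :
    ∀ y, Commute y D.a → Commute y D.z := by
  obtain ⟨v, l, q₁, q₂, vz, vv, v1, v2, va, lz, la, lv, q₁z, q₁a, q₁v, hq₁, q₂z, q₂a, q₂v, hq⟩ :=
    exists_aux D
  have hv := exists_v_conj D vz vv v1 v2 hu
  obtain ⟨h3, hp⟩ := parts D hv vz vv va q₁a q₁v hq₁ q₂a q₂v hq
  have hB := card_B_dvd D hv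
  have hBo := odd_B D v
  have hB0 : Nat.card (B D v) ≠ 0 := Nat.card_pos.ne'
  have hK := card_K D vz vv va lz la lv
  set b := Nat.card (B D v) with hb
  have h7 : ¬ 7 ∣ b := not_dvd_of_factorization hB0 (by norm_num)
    (hp 7 (by norm_num) (by decide)) (fun h => by
      have := h.trans hB
      revert this; decide)
  have hc : Nat.Coprime b 1792 := by
    have e : (1792 : ℕ) = 2 ^ 8 * 7 := by norm_num
    rw [e]
    refine Nat.Coprime.mul_right (Nat.Coprime.pow_right _ ?_) ?_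
    · exact Nat.coprime_two_right.2 hBo
    · exact ((Nat.Prime.coprime_iff_not_dvd (by norm_num)).2 h7).symm
  have h10 : (1 + 9).factorial = 3 ^ 4 * 5 ^ 2 * 1792 := by decide
  rw [h10] at hB
  obtain ⟨b3, b5, hb3, hb5, hbb⟩ : ∃ b3 b5, b3 ∣ 3 ^ 4 ∧ b5 ∣ 5 ^ 2 ∧ b3 * b5 = b := by
    obtain ⟨b3, b5, h1, h2, h3⟩ := (Nat.dvd_mul).1 (hc.dvd_of_dvd_mul_right hB)
    exact ⟨b3, b5, h1, h2, h3⟩
  obtain ⟨i, hi, rfl⟩ := (Nat.dvd_prime_pow (by norm_num)).1 hb3
  obtain ⟨j, hj, rfl⟩ := (Nat.dvd_prime_pow (by norm_num)).1 hb5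
  have hi2 : i = 0 ∨ i = 2 := by
    have hfi : b.factorization 3 = i := by
      rw [← hbb, Nat.factorization_mul (by positivity) (by positivity),
        Nat.Prime.factorization_pow (by norm_num), Nat.Prime.factorization_pow (by norm_num)]
      simp
    rw [← hfi]; exact h3
  have hK' : Nat.card (K D) = 3 ^ (2 * i + 1) * 5 ^ (2 * j) := by
    rw [hK, ← hbb, mul_pow, ← pow_mul, ← pow_mul]; ring
  -- an element of order seven
  obtain ⟨s, sz, ps⟩ := D.cv.surj (σ := (swap 3 4 * swap 4 5 * swap 5 6 * swap 6 7 * swap 7 8 *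
    swap 8 9 : Perm (Fin (1 + 9)))) (by decide)
  obtain ⟨s, sz, ps, s7⟩ : ∃ s, Commute s D.z ∧ D.p s = (swap 3 4 * swap 4 5 * swap 5 6 *
      swap 6 7 * swap 7 8 * swap 8 9 : Perm (Fin (1 + 9))) ∧ s ^ 7 = 1 := by
    have h1 : D.p (s ^ 7) = 1 := by rw [D.cv.pow sz, ps]; decide
    rcases D.cv.ker (sz.pow_left 7) h1 with h2 | h2
    · exact ⟨s, sz, ps, h2⟩
    · refine ⟨s * D.z, sz.mul_left (Commute.refl _), by rw [D.cv.mul_z sz, ps], ?_⟩
      rw [sz.mul_pow, h2]
      calc D.z * D.z ^ 7 = (D.z * D.z) * (D.z * D.z) * (D.z * D.z) * (D.z * D.z) := by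
            simp only [pow_succ, pow_zero, one_mul, mul_assoc]
        _ = 1 := by rw [D.zz]; group
  have sa' : Commute s D.a := D.cv.comm_cube sz D.az D.a3 (by rw [ps, D.pa]; decide)
  -- it centralises `K`
  have hsK : K D ≤ centralizer {s} := by
    have hn : zpowers s ≤ normalizer (K D : Set G) := by
      rw [zpowers_le]
      exact Gen.mem_normalizer_of_conj (fun x hx => K_conj' D sa' hx)
    have hcop : (Nat.card (zpowers s)).Coprime (Nat.card (K D)) := by
      have h1 : Nat.card (zpowers s) ∣ 7 := by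
        rw [Nat.card_zpowers]; exact orderOf_dvd_of_pow_eq_one s7
      refine Nat.Coprime.coprime_dvd_left h1 ?_
      rw [hK']
      exact Nat.Coprime.mul_right (Nat.Coprime.pow_right _ (by decide))
        (Nat.Coprime.pow_right _ (by decide))
    have hcomm : IsMulCommutative (zpowers s) := inferInstance
    have hsol : Group.IsSolvable (zpowers s) := by
      have := hcomm
      infer_instance
    have htop : (centralizer {s}).subgroupOf (K D) = ⊤ := by
      apply Cores.eq_top_of_sylow_le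
      intro p hpf
      obtain ⟨P, hP⟩ := Cfsg.Agent.S0023.result (zpowers s) (K D) hn hcop (Or.inl hsol) p
      refine ⟨P, ?_⟩
      have hcardP : Nat.card ((P : Subgroup (K D)).map (K D).subtype) =
          p ^ (Nat.card (K D)).factorization p := by
        rw [← P.card_eq_multiplicity]
        exact (Nat.card_congr ((P : Subgroup (K D)).equivMapOfInjective (K D).subtype
          (K D).subtype_injective).toEquiv).symm
      have hfac : (Nat.card (K D)).factorization p = 0 ∨ (p = 3 ∨ p = 5) ∧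
          (Nat.card (K D)).factorization p ≤ 5 := by
        rw [hK', Nat.factorization_mul (by positivity) (by positivity),
          Nat.Prime.factorization_pow (by norm_num), Nat.Prime.factorization_pow (by norm_num)]
        by_cases h3 : p = 3
        · right
          subst h3
          refine ⟨Or.inl rfl, ?_⟩
          simp; omega
        · by_cases h5 : p = 5
          · right
            subst h5
            refine ⟨Or.inr rfl, ?_⟩
            simp; omega
          · left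
            simp [Ne.symm h3, Ne.symm h5]
      have hall : ∀ x ∈ (P : Subgroup (K D)).map (K D).subtype, Commute s x := by
        rcases hfac with h | ⟨hp35, h5⟩
        · rw [h, pow_zero] at hcardP
          have h1 := Subgroup.eq_bot_of_card_eq _ hcardP
          intro x hx
          rw [h1, mem_bot] at hx
          rw [hx]; exact Commute.one_right _
        · refine fixed_seven hp35 h5 hcardP s7 ?_
          intro x hx
          exact (mem_normalizer_iff.1 (hP (mem_zpowers s)) x).1 hx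
      intro x hx
      rw [mem_subgroupOf, mem_centralizer_singleton_iff]
      exact (hall x (mem_map_of_mem _ hx)).symm
    intro x hx
    have h1 : (⟨x, hx⟩ : K D) ∈ (centralizer {s}).subgroupOf (K D) := by rw [htop]; trivial
    exact mem_subgroupOf.1 h1
  refine H1_of_commute D sz sa' (fun x hx => ?_) ?_
  · exact (show Commute x s from mem_centralizer_singleton_iff.1 (hsK hx)).symm
  · intro i hi'
    rw [ps, ← Data.pow_mod (PermFacts3.sa_cube D.hm)] at hi'
    have hi3 : i % 3 < 3 := Nat.mod_lt _ (by omega)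
    interval_cases (i % 3) <;> revert hi' <;> decide

end Cfsg.Agent.SporRec.TwoNine.KCard2
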