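import Cfsg.Agent.SporRec.TwoNine.QS
import Cfsg.Agent.SporRec.TwoNine.Fuse
import Cfsg.Agent.SporRec.TwoNine.Count
import Cfsg.Agent.SporadicB.J1Local.Kstr

/-!
# The odd core of the centraliser of a 3-cycle
-/

set_option autoImplicit false

namespace Cfsg.Agent.SporRec.TwoNine.KCore

open Equiv Equiv.Perm Subgroup Cfsg
open Cfsg.Agent.Lib
open Cfsg.Agent.SporRec.TwoNine.Cv Cfsg.Agent.SporRec.TwoNine.Perms
  Cfsg.Agent.SporRec.TwoNine.PermFacts Cfsg.Agent.SporRec.TwoNine.PermFacts2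
  Cfsg.Agent.SporRec.TwoNine.PermFacts3 Cfsg.Agent.SporRec.TwoNine.Basic
  Cfsg.Agent.SporRec.TwoNine.Lifts Cfsg.Agent.SporRec.TwoNine.Lifts.Data
  Cfsg.Agent.SporRec.TwoNine.Fuse
open Cfsg.Agent.SporadicB.J1Local

variable {G : Type*} [Group G] {m : ℕ} (D : Data G m)

/-- an involution of `C(z)` commuting with `a` is `z` -/
theorem eq_z_of_commute_a {t : G} (tz : Commute t D.z) (ta : Commute t D.a) (htt : t * t = 1)
    (ht1 : t ≠ 1) : t = D.z := by
  by_contra hne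
  have h1 := cycleType_of_involution D.hm D.cv tz htt ht1 hne
  refine not_commute_sa D.hm h1 ?_
  rw [← D.pa]
  exact p_comm D tz D.az ta

/-- the centraliser of `a` -/
def Ca : Subgroup G := centralizer {D.a}

theorem mem_Ca {x : G} : x ∈ Ca D ↔ Commute x D.a := mem_centralizer_singleton_iff

/-- its odd core -/
def K : Subgroup G := Gen.oc (Ca D)

theorem comm_a {x : G} (hx : x ∈ K D) : Commute x D.a := (mem_Ca D).1 (Gen.oc_le _ hx)

theorem K_conj [Finite G] {g : G} (hg : g * D.a * g⁻¹ = D.a ∨ g * D.a * g⁻¹ = D.a⁻¹) {x : G} (hx : x ∈ K D) :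
    g * x * g⁻¹ ∈ K D := by
  refine Gen.oc_conj (Gen.mem_normalizer_of_conj ?_) hx
  intro y hy
  rw [mem_Ca] at hy ⊢
  have h1 : Commute (g * y * g⁻¹) (g * D.a * g⁻¹) := SemiconjBy.conj_iff.2 hy
  rcases hg with h | h
  · rwa [h] at h1
  · rw [h] at h1; exact Commute.inv_right_iff.1 h1

theorem K_conj' [Finite G] {g : G} (hg : Commute g D.a) {x : G} (hx : x ∈ K D) : g * x * g⁻¹ ∈ K D :=
  K_conj D (Or.inl (by rw [hg.eq, mul_inv_cancel_right])) hx

theorem odd_K [Finite G] : Odd (Nat.card (K D)) := Gen.odd_card_oc _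

theorem odd_of_mem [Finite G] {x : G} (hx : x ∈ K D) : Odd (orderOf x) :=
  Gen.orderOf_odd_of_mem (odd_K D) hx

theorem a_mem [Finite G] : D.a ∈ K D := by
  have h1 : zpowers D.a ≤ K D := by
    refine Gen.le_oc ?_ ?_ ?_
    · rw [zpowers_le, mem_Ca]
    · rintro g hg _ ⟨k, rfl⟩
      have h2 : Commute g (D.a ^ k) := ((mem_Ca D).1 hg).zpow_right k
      change g * D.a ^ k * g⁻¹ ∈ _
      rw [h2.eq, mul_inv_cancel_right]
      exact ⟨k, rfl⟩
    · rw [Nat.card_zpowers]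
      refine Odd.of_dvd_nat (n := 3) (by decide) (orderOf_dvd_of_pow_eq_one D.a3)
  exact h1 (mem_zpowers _)

theorem z_not_mem [Finite G] : D.z ∉ K D := fun h =>
  D.z_ne_one (Gen.eq_one_of_odd (odd_of_mem D h) D.zz)

theorem eq_pow_of_odd {x : G} (hxz : Commute x D.z) (ho : Odd (orderOf x)) {i : ℕ}
    (h : D.p x = sa m ^ i) : x = D.a ^ i := by
  have h1 : D.p x = D.p (D.a ^ i) := by rw [h, D.cv.pow D.az, D.pa]
  rcases D.cv.eq_or hxz (D.az.pow_left i) h1 with h2 | h2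
  · exact h2
  · exfalso
    have h3 : x ^ 3 = D.z := by
      rw [h2, D.cv.mul_z_cube (D.az.pow_left i), ← pow_mul, mul_comm, pow_mul, D.a3, one_pow,
        one_mul]
    have h4 : Odd (orderOf (x ^ 3)) := ho.of_dvd_nat (orderOf_pow_dvd 3)
    rw [h3] at h4
    exact D.z_ne_one (Gen.eq_one_of_odd h4 D.zz)

/-- the elements of `K` commuting with `z` -/
theorem cent_z [Finite G] {x : G} (hx : x ∈ K D) (hxz : Commute x D.z) :
    ∃ i < 3, x = D.a ^ i := by
  obtain ⟨i, hi, h⟩ := QS.qs D.hm D.cv D.az D.a3 D.pa (K D ⊓ centralizer {D.z})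
    (fun x hx => mem_centralizer_singleton_iff.1 (mem_inf.1 hx).2)
    (fun x hx => comm_a D (mem_inf.1 hx).1) (by
      intro g gz ga y hy
      obtain ⟨hy1, hy2⟩ := mem_inf.1 hy
      refine mem_inf.2 ⟨K_conj' D ga hy1, ?_⟩
      rw [mem_centralizer_singleton_iff] at hy2 ⊢
      exact (gz.mul_left hy2).mul_left gz.inv_left) (fun h => z_not_mem D (mem_inf.1 h).1) x
      (mem_inf.2 ⟨hx, mem_centralizer_singleton_iff.2 hxz⟩)
  exact ⟨i, hi, eq_pow_of_odd D hxz (odd_of_mem D hx) h⟩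

/-- `z` is central modulo `K` -/
theorem comm_mem [Finite G] {g : G} (hg : Commute g D.a) : D.z * g * D.z⁻¹ * g⁻¹ ∈ K D :=
  (Gen.unique_involution_sub (N := Ca D) (z := D.z) ((mem_Ca D).2 D.az.symm) D.zz D.z_ne_one
    (fun _ ht htt ht1 htz => eq_z_of_commute_a D htz ((mem_Ca D).1 ht) htt ht1)).2 g
      ((mem_Ca D).2 hg)

/-- if `z` centralises `K` then `C(a) ≤ C(z)` -/
theorem H1_of [Finite G] (h : ∀ x ∈ K D, Commute x D.z) : ∀ y, Commute y D.a → Commute y D.z := by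
  intro y hy
  have h1 := comm_mem D hy
  set k := D.z * y * D.z⁻¹ * y⁻¹ with hk
  have h2 : D.z * k * D.z⁻¹ = k := by rw [(h k h1).symm.eq, mul_inv_cancel_right]
  have h3 : D.z * k * D.z⁻¹ = k⁻¹ := by
    rw [hk, D.z_inv]
    calc D.z * (D.z * y * D.z * y⁻¹) * D.z = (D.z * D.z) * y * D.z * y⁻¹ * D.z := by group
      _ = y * D.z * y⁻¹ * D.z := by rw [D.zz, one_mul]
      _ = (D.z⁻¹ * y * D.z⁻¹ * y⁻¹)⁻¹ := by group
      _ = (D.z * y * D.z * y⁻¹)⁻¹ := by rw [D.z_inv]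
  have h4 : k = 1 := by
    refine Gen.eq_one_of_odd (odd_of_mem D h1) ?_
    have h5 : k = k⁻¹ := h2.symm.trans h3
    calc k * k = k * k⁻¹ := by rw [← h5]
      _ = 1 := mul_inv_cancel k
  have h5 : D.z * y * D.z⁻¹ = y := mul_inv_eq_one.1 h4
  exact (mul_inv_eq_iff_eq_mul.1 h5).symm

/-- if some element of `C(z)` not over `⟨sa⟩` centralises `K` then `C(a) ≤ C(z)` -/
theorem H1_of_commute [Finite G] {y : G} (yz : Commute y D.z) (ya : Commute y D.a)
    (hy : ∀ x ∈ K D, Commute y x) (hp : ∀ i : ℕ, D.p y ≠ sa m ^ i) :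
    ∀ x, Commute x D.a → Commute x D.z := by
  set M : Subgroup G := centralizer (K D : Set G) ⊓ centralizer {D.z} ⊓ centralizer {D.a} with hM
  have memM : ∀ {x : G}, x ∈ M ↔ (∀ k ∈ K D, Commute x k) ∧ Commute x D.z ∧ Commute x D.a := by
    intro x
    rw [hM, mem_inf, mem_inf, mem_centralizer_singleton_iff, mem_centralizer_singleton_iff,
      mem_centralizer_iff]
    constructor
    · rintro ⟨⟨h1, h2⟩, h3⟩
      exact ⟨fun k hk => (h1 k hk).symm, h2, h3⟩
    · rintro ⟨h1, h2, h3⟩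
      exact ⟨⟨fun k hk => (h1 k hk).eq.symm, h2⟩, h3⟩
  by_cases hz : D.z ∈ M
  · exact H1_of D (fun x hx => ((memM.1 hz).1 x hx).symm)
  · exfalso
    obtain ⟨i, -, hi⟩ := QS.qs D.hm D.cv D.az D.a3 D.pa M (fun x hx => (memM.1 hx).2.1)
      (fun x hx => (memM.1 hx).2.2) (by
        intro g gz ga x hx
        obtain ⟨h1, h2, h3⟩ := memM.1 hx
        refine memM.2 ⟨?_, (gz.mul_left h2).mul_left gz.inv_left,
          (ga.mul_left h3).mul_left ga.inv_left⟩
        intro k hk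
        have h4 : g⁻¹ * k * g ∈ K D := by
          have := K_conj' D ga.inv_left hk
          rwa [inv_inv] at this
        have h5 : Commute (g * x * g⁻¹) (g * (g⁻¹ * k * g) * g⁻¹) :=
          SemiconjBy.conj_iff.2 (h1 _ h4)
        have h6 : g * (g⁻¹ * k * g) * g⁻¹ = k := by group
        rwa [h6] at h5) hz y (memM.2 ⟨hy, yz, ya⟩)
    exact hp i hi

/-- the auxiliary elements -/
theorem exists_aux : ∃ v l q₁ q₂ : G, Commute v D.z ∧ v * v = 1 ∧ v ≠ 1 ∧ v ≠ D.z ∧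
    v * D.a * v⁻¹ = D.a⁻¹ ∧
    Commute l D.z ∧ Commute l D.a ∧ l * v * l⁻¹ = D.z * v ∧ Commute q₁ D.z ∧ Commute q₁ D.a ∧ Commute q₁ v ∧
    q₁ * q₁ = D.z ∧ Commute q₂ D.z ∧ Commute q₂ D.a ∧ Commute q₂ v ∧ q₁ * q₂ = q₂ * q₁ * D.z := by
  have h := D.cv
  have hm := D.hm
  obtain ⟨v, vz, pv⟩ := h.surj (σ := sv m) (by interval_cases m <;> decide)
  obtain ⟨l, lz, pl⟩ := h.surj (σ := sl m) (by interval_cases m <;> decide)
  obtain ⟨q₁, q₁z, pq₁⟩ := h.surj (σ := sq1 m) (by interval_cases m <;> decide)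
  obtain ⟨q₂, q₂z, pq₂⟩ := h.surj (σ := sq2 m) (by interval_cases m <;> decide)
  have vv : v * v = 1 := quad h (a := 0) (b := 1) (c := 3) (d := 4) (e := 5) (f := 6) (k := 7)
    (l := 8) vz (by interval_cases m <;> decide) pv
  have v1 : v ≠ 1 := by
    rintro rfl
    rw [h.one] at pv
    revert pv; interval_cases m <;> decide
  have vz' : v ≠ D.z := by
    rintro rfl
    rw [h.pz] at pv
    revert pv; interval_cases m <;> decide
  have va : v * D.a * v⁻¹ = D.a⁻¹ := h.inv_cube vz D.az D.a3 (by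
    rw [pv, D.pa]; interval_cases m <;> decide)
  have la : Commute l D.a := h.comm_cube lz D.az D.a3 (by
    rw [pl, D.pa]; interval_cases m <;> decide)
  have q₁a : Commute q₁ D.a := h.comm_cube q₁z D.az D.a3 (by
    rw [pq₁, D.pa]; interval_cases m <;> decide)
  have q₂a : Commute q₂ D.a := h.comm_cube q₂z D.az D.a3 (by
    rw [pq₂, D.pa]; interval_cases m <;> decide)
  have ll : l * l = D.z := h.two (a := 3) (b := 5) (c := 4) (d := 6) lz
    (by interval_cases m <;> decide) pl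
  have q₁q₁ : q₁ * q₁ = D.z := h.two (a := 3) (b := 4) (c := 5) (d := 6) q₁z
    (by interval_cases m <;> decide) pq₁
  have q₂q₂ : q₂ * q₂ = D.z := h.two (a := 3) (b := 4) (c := 7) (d := 8) q₂z
    (by interval_cases m <;> decide) pq₂
  have lv : l * v * (l * v) = 1 := by
    refine quad h (a := 0) (b := 1) (c := 3) (d := 6) (e := 4) (f := 5) (k := 7) (l := 8)
      (lz.mul_left vz) (by interval_cases m <;> decide) ?_
    rw [h.mul lz vz, pl, pv]; interval_cases m <;> decide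
  have q₁v : q₁ * v * (q₁ * v) = D.z := by
    refine h.two (a := 0) (b := 1) (c := 7) (d := 8) (q₁z.mul_left vz)
      (by interval_cases m <;> decide) ?_
    rw [h.mul q₁z vz, pq₁, pv]; interval_cases m <;> decide
  have q₂v : q₂ * v * (q₂ * v) = D.z := by
    refine h.two (a := 0) (b := 1) (c := 5) (d := 6) (q₂z.mul_left vz)
      (by interval_cases m <;> decide) ?_
    rw [h.mul q₂z vz, pq₂, pv]; interval_cases m <;> decide
  have q₁q₂ : q₁ * q₂ * (q₁ * q₂) = D.z := by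
    refine h.two (a := 5) (b := 6) (c := 7) (d := 8) (q₁z.mul_left q₂z)
      (by interval_cases m <;> decide) ?_
    rw [h.mul q₁z q₂z, pq₁, pq₂]; interval_cases m <;> decide
  refine ⟨v, l, q₁, q₂, vz, vv, v1, vz', va, lz, la, ?_, q₁z, q₁a, ?_, q₁q₁, q₂z, q₂a, ?_, ?_⟩
  · have := conj_eq_of_sq (r := D.z) (s := 1) (t := 1) lz.symm vz.symm D.zz (Commute.one_left _)
      (Commute.one_left _) (one_mul 1) ll vv lv
    rw [this, one_mul, mul_one]
  · have := conj_eq_of_sq (r := D.z) (s := 1) (t := D.z) q₁z.symm vz.symm D.zz (Commute.one_left _)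
      (Commute.one_left _) (one_mul 1) q₁q₁ vv q₁v
    rw [D.zz, one_mul, one_mul] at this
    exact mul_inv_eq_iff_eq_mul.1 this
  · have := conj_eq_of_sq (r := D.z) (s := 1) (t := D.z) q₂z.symm vz.symm D.zz (Commute.one_left _)
      (Commute.one_left _) (one_mul 1) q₂q₂ vv q₂v
    rw [D.zz, one_mul, one_mul] at this
    exact mul_inv_eq_iff_eq_mul.1 this
  · have := conj_eq_of_sq (r := D.z) (s := D.z) (t := D.z) q₁z.symm q₂z.symm D.zz q₁z.symm
      q₂z.symm D.zz q₁q₁ q₂q₂ q₁q₂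
    rw [D.zz, one_mul] at this
    rw [mul_inv_eq_iff_eq_mul.1 this, ← q₂z.eq, mul_assoc, ← q₁z.eq, ← mul_assoc]

end Cfsg.Agent.SporRec.TwoNine.KCore
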