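import Cfsg.Agent.SporRec.TwoNine.PermFacts2

/-!
# Centralisers of some explicit permutations: planes in the group generated by three 3-cycles
-/

set_option autoImplicit false

namespace Cfsg.Agent.SporRec.TwoNine.PermFacts3

open Equiv Equiv.Perm
open Cfsg.Agent.SporRec.TwoNine.Perms Cfsg.Agent.SporRec.TwoNine.PermFacts
  Cfsg.Agent.SporRec.TwoNine.PermFacts2

variable {m : ℕ}

theorem comm_ab (hm : m < 2) : Commute (sa m) (sb m) := by
  change sa m * sb m = sb m * sa m
  interval_cases m <;> decide

theorem comm_ac (hm : m < 2) : Commute (sa m) (sc m) := by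
  change sa m * sc m = sc m * sa m
  interval_cases m <;> decide

theorem comm_bc (hm : m < 2) : Commute (sb m) (sc m) := by
  change sb m * sc m = sc m * sb m
  interval_cases m <;> decide

theorem sa_cube (hm : m < 2) : sa m ^ 3 = 1 := by
  rw [sa]; exact cube_of_cycle (by interval_cases m <;> decide) (by interval_cases m <;> decide)
    (by interval_cases m <;> decide)

theorem sb_cube (hm : m < 2) : sb m ^ 3 = 1 := by
  rw [sb]; exact cube_of_cycle (by interval_cases m <;> decide) (by interval_cases m <;> decide)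
    (by interval_cases m <;> decide)

theorem sc_cube (hm : m < 2) : sc m ^ 3 = 1 := by
  rw [sc]; exact cube_of_cycle (by interval_cases m <;> decide) (by interval_cases m <;> decide)
    (by interval_cases m <;> decide)

/-- a permutation commuting with two elements `sa * sb`, `sa * sc ^ e` is a product of the
three 3-cycles -/
theorem commute_plane (hm : m < 2) {e : ℕ} (he : e = 1 ∨ e = 2) {σ : Perm (Fin (m + 9))}
    (h1 : Commute σ (sa m * sb m)) (h2 : Commute σ (sa m * sc m ^ e)) :
    ∃ i < 3, ∃ j < 3, ∃ k < 3, σ = sa m ^ i * sb m ^ j * sc m ^ k := by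
  have hfixmv : ∀ (x : Fin (m + 9)) (s : Perm (Fin (m + 9))), Commute σ s → s x ≠ x →
      s (σ x) ≠ σ x := by
    intro x s hs hx h3
    rw [← comm_apply hs] at h3
    exact hx (σ.injective h3)
  have hfix : ∀ (x : Fin (m + 9)) (s : Perm (Fin (m + 9))), Commute σ s → s x = x →
      s (σ x) = σ x := by
    intro x s hs hx
    rw [← comm_apply hs, hx]
  have h3 : Commute σ (sa m * sb m * (sa m * sc m ^ e)⁻¹) := h1.mul_right h2.inv_right
  obtain ⟨i, hi⟩ : ∃ i : Fin 3, (sa m ^ (i : ℕ)) 0 = σ 0 := by
    have e1 := hfixmv 0 _ h1 (by interval_cases m <;> decide)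
    have e2 := hfix 0 _ h3 (by rcases he with rfl | rfl <;> interval_cases m <;> decide)
    generalize σ 0 = x at e1 e2
    rcases he with rfl | rfl <;> revert x <;> interval_cases m <;> decide
  obtain ⟨j, hj⟩ : ∃ j : Fin 3, (sb m ^ (j : ℕ)) 3 = σ 3 := by
    have e1 := hfixmv 3 _ h1 (by interval_cases m <;> decide)
    have e2 := hfix 3 _ h2 (by rcases he with rfl | rfl <;> interval_cases m <;> decide)
    generalize σ 3 = x at e1 e2
    rcases he with rfl | rfl <;> revert x <;> interval_cases m <;> decide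
  obtain ⟨k, hk⟩ : ∃ k : Fin 3, (sc m ^ (k : ℕ)) 6 = σ 6 := by
    have e1 := hfixmv 6 _ h2 (by rcases he with rfl | rfl <;> interval_cases m <;> decide)
    have e2 := hfix 6 _ h1 (by interval_cases m <;> decide)
    generalize σ 6 = x at e1 e2
    rcases he with rfl | rfl <;> revert x <;> interval_cases m <;> decide
  refine ⟨i, i.2, j, j.2, k, k.2, ?_⟩
  set t := sa m ^ (i : ℕ) * sb m ^ (j : ℕ) * sc m ^ (k : ℕ) with ht
  have hall : ∀ s : Perm (Fin (m + 9)), Commute (sa m) s → Commute (sb m) s →
      Commute (sc m) s → Commute t s := fun s a1 a2 a3 =>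
    ((a1.pow_left _).mul_left (a2.pow_left _)).mul_left (a3.pow_left _)
  have t1 : Commute t (sa m * sb m) := hall _ ((Commute.refl _).mul_right (comm_ab hm))
    ((comm_ab hm).symm.mul_right (Commute.refl _)) ((comm_ac hm).symm.mul_right (comm_bc hm).symm)
  have t2 : Commute t (sa m * sc m ^ e) := hall _ ((Commute.refl _).mul_right
    ((comm_ac hm).pow_right _)) ((comm_ab hm).symm.mul_right ((comm_bc hm).pow_right _))
    ((comm_ac hm).symm.mul_right ((Commute.refl _).pow_right _))
  have hv : (sa m ^ (i : ℕ)) 0 = t 0 ∧ (sb m ^ (j : ℕ)) 3 = t 3 ∧ (sc m ^ (k : ℕ)) 6 = t 6 := by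
    rw [ht]
    clear hi hj hk ht t1 t2 hall
    revert i j k; interval_cases m <;> decide
  have g0 : σ 0 = t 0 := by rw [← hi]; exact hv.1
  have g3 : σ 3 = t 3 := by rw [← hj]; exact hv.2.1
  have g6 : σ 6 = t 6 := by rw [← hk]; exact hv.2.2
  clear_value t
  have g1 : σ 1 = t 1 := by
    have := agree h1 t1 g0
    have e : (sa m * sb m) 0 = 1 := by interval_cases m <;> decide
    rw [e] at this; exact this
  have g2 : σ 2 = t 2 := by
    have := agree h1 t1 g1
    have e : (sa m * sb m) 1 = 2 := by interval_cases m <;> decide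
    rw [e] at this; exact this
  have g4 : σ 4 = t 4 := by
    have := agree h1 t1 g3
    have e : (sa m * sb m) 3 = 4 := by interval_cases m <;> decide
    rw [e] at this; exact this
  have g5 : σ 5 = t 5 := by
    have := agree h1 t1 g4
    have e : (sa m * sb m) 4 = 5 := by interval_cases m <;> decide
    rw [e] at this; exact this
  have g78 : σ 7 = t 7 ∧ σ 8 = t 8 := by
    have c1 := agree h2 t2 g6
    have c2 := agree h2 t2 c1
    rcases he with rfl | rfl
    · have e1 : (sa m * sc m ^ 1) 6 = 7 := by interval_cases m <;> decide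
      have e2 : (sa m * sc m ^ 1) 7 = 8 := by interval_cases m <;> decide
      rw [e1, e2] at c2
      rw [e1] at c1
      exact ⟨c1, c2⟩
    · have e1 : (sa m * sc m ^ 2) 6 = 8 := by interval_cases m <;> decide
      have e2 : (sa m * sc m ^ 2) 8 = 7 := by interval_cases m <;> decide
      rw [e1, e2] at c2
      rw [e1] at c1
      exact ⟨c2, c1⟩
  obtain ⟨g7, g8⟩ := g78
  have g9 : σ (Fin.last _) = t (Fin.last _) := by
    by_cases hl : (Fin.last (m + 8)) = 8
    · rw [hl]; exact g8
    · have key : ∀ τ : Perm (Fin (m + 9)), Commute τ (sa m * sb m) → Commute τ (sa m * sc m ^ e) →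
          τ (Fin.last _) = Fin.last _ := by
        intro τ c1 c2
        have f1 : (sa m * sb m) (τ (Fin.last _)) = τ (Fin.last _) := by
          rw [← comm_apply c1]; congr 1
        have f2 : (sa m * sc m ^ e) (τ (Fin.last _)) = τ (Fin.last _) := by
          rw [← comm_apply c2]; congr 1
          rcases he with rfl | rfl <;> revert hl <;> interval_cases m <;> decide
        generalize τ (Fin.last _) = x at f1 f2
        rcases he with rfl | rfl <;> revert x hl <;> interval_cases m <;> decide
      rw [key σ h1 h2, key t t1 t2]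
  refine Equiv.ext fun y => ?_
  rcases cases_pt hm y with rfl | rfl | rfl | rfl | rfl | rfl | rfl | rfl | rfl | rfl
  · exact g0
  · exact g1
  · exact g2
  · exact g3
  · exact g4
  · exact g5
  · exact g6
  · exact g7
  · exact g8
  · exact g9

/-- a permutation inverting two elements `sa * sb`, `sa * sc ^ e` is odd -/
theorem sign_of_inverts (hm : m < 2) {e : ℕ} (he : e = 1 ∨ e = 2) {σ : Perm (Fin (m + 9))}
    (h1 : σ * (sa m * sb m) * σ⁻¹ = (sa m * sb m)⁻¹)
    (h2 : σ * (sa m * sc m ^ e) * σ⁻¹ = (sa m * sc m ^ e)⁻¹) : sign σ ≠ 1 := by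
  set t : Perm (Fin (m + 9)) := swap 0 1 * swap 3 4 * swap 6 7 with ht
  have t1 : t * (sa m * sb m)⁻¹ * t⁻¹ = sa m * sb m := by
    rw [ht]; interval_cases m <;> decide
  have t2 : t * (sa m * sc m ^ e)⁻¹ * t⁻¹ = sa m * sc m ^ e := by
    rw [ht]; rcases he with rfl | rfl <;> interval_cases m <;> decide
  have c1 : Commute (t * σ) (sa m * sb m) := by
    refine mul_inv_eq_iff_eq_mul.1 ?_
    rw [mul_inv_rev]
    calc t * σ * (sa m * sb m) * (σ⁻¹ * t⁻¹) = t * (σ * (sa m * sb m) * σ⁻¹) * t⁻¹ := by group
      _ = sa m * sb m := by rw [h1, t1]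
  have c2 : Commute (t * σ) (sa m * sc m ^ e) := by
    refine mul_inv_eq_iff_eq_mul.1 ?_
    rw [mul_inv_rev]
    calc t * σ * (sa m * sc m ^ e) * (σ⁻¹ * t⁻¹)
        = t * (σ * (sa m * sc m ^ e) * σ⁻¹) * t⁻¹ := by group
      _ = sa m * sc m ^ e := by rw [h2, t2]
  obtain ⟨i, -, j, -, k, -, hijk⟩ := commute_plane hm he c1 c2
  have s1 : sign (t * σ) = 1 := by
    have ea : sign (sa m) = 1 := by interval_cases m <;> decide
    have eb : sign (sb m) = 1 := by interval_cases m <;> decide
    have ec : sign (sc m) = 1 := by interval_cases m <;> decide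
    rw [hijk, map_mul, map_mul, map_pow, map_pow, map_pow, ea, eb, ec, one_pow, one_pow,
      one_pow, one_mul, one_mul]
  have st : sign t = -1 := by rw [ht]; interval_cases m <;> decide
  intro hs
  rw [map_mul, st, hs, mul_one] at s1
  exact absurd s1 (by decide)

/-- elements of the group generated by the three 3-cycles which commute with `su` -/
theorem commute_su_of (hm : m < 2) (i j k : Fin 3)
    (h : Commute (sa m ^ (i : ℕ) * sb m ^ (j : ℕ) * sc m ^ (k : ℕ)) (su m)) : i = j ∧ k = 0 := by
  have h0 := comm_apply h 0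
  have h6 := comm_apply h 6
  clear h
  revert i j k
  interval_cases m <;> decide

end Cfsg.Agent.SporRec.TwoNine.PermFacts3
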