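import Cfsg.Agent.SporRec.TwoNine.Basic
import Cfsg.Agent.SporRec.TwoNine.PermFacts3

/-!
# The lifts of the basic permutations
-/

set_option autoImplicit false

namespace Cfsg.Agent.SporRec.TwoNine.Lifts

open Equiv Equiv.Perm
open Cfsg.Agent.SporRec.TwoNine.Cv Cfsg.Agent.SporRec.TwoNine.Perms
  Cfsg.Agent.SporRec.TwoNine.PermFacts Cfsg.Agent.SporRec.TwoNine.PermFacts2
  Cfsg.Agent.SporRec.TwoNine.PermFacts3 Cfsg.Agent.SporRec.TwoNine.Basic

/-- the cover with the chosen lifts -/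
structure Data (G : Type*) [Group G] (m : ℕ) where
  z : G
  p : G → Perm (Fin (m + 9))
  hm : m < 2
  cv : Cv (m + 9) z p
  a : G
  b : G
  c : G
  u : G
  g : G
  d : G
  az : Commute a z
  bz : Commute b z
  cz : Commute c z
  uz : Commute u z
  gz : Commute g z
  dz : Commute d z
  a3 : a ^ 3 = 1
  b3 : b ^ 3 = 1
  c3 : c ^ 3 = 1
  d3 : d ^ 3 = 1
  pa : p a = sa m
  pb : p b = sb m
  pc : p c = sc m
  pu : p u = su m
  pg : p g = sg m
  pd : p d = sd m

variable {G : Type*} [Group G] {m : ℕ}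

theorem exists_data (hm : m < 2) {z : G} {p : G → Perm (Fin (m + 9))} (h : Cv (m + 9) z p) :
    ∃ D : Data G m, D.z = z ∧ D.p = p := by
  obtain ⟨a, az, a3, pa⟩ := h.exists_cube (sa_cube hm)
  obtain ⟨b, bz, b3, pb⟩ := h.exists_cube (sb_cube hm)
  obtain ⟨c, cz, c3, pc⟩ := h.exists_cube (sc_cube hm)
  obtain ⟨d, dz, d3, pd⟩ := h.exists_cube (σ := sd m) (by interval_cases m <;> decide)
  obtain ⟨u, uz, pu⟩ := h.surj (σ := su m) (by interval_cases m <;> decide)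
  obtain ⟨g, gz, pg⟩ := h.surj (σ := sg m) (by interval_cases m <;> decide)
  exact ⟨⟨z, p, hm, h, a, b, c, u, g, d, az, bz, cz, uz, gz, dz, a3, b3, c3, d3, pa, pb, pc, pu,
    pg, pd⟩, rfl, rfl⟩

namespace Data

/-- transport along a conjugation -/
def conj (D : Data G m) (x : G) : Data G m where
  z := x * D.z * x⁻¹
  p := fun y => D.p (x⁻¹ * y * x)
  hm := D.hm
  cv := D.cv.transport x
  a := x * D.a * x⁻¹
  b := x * D.b * x⁻¹
  c := x * D.c * x⁻¹
  u := x * D.u * x⁻¹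
  g := x * D.g * x⁻¹
  d := x * D.d * x⁻¹
  az := SemiconjBy.conj_iff.2 D.az
  bz := SemiconjBy.conj_iff.2 D.bz
  cz := SemiconjBy.conj_iff.2 D.cz
  uz := SemiconjBy.conj_iff.2 D.uz
  gz := SemiconjBy.conj_iff.2 D.gz
  dz := SemiconjBy.conj_iff.2 D.dz
  a3 := by rw [conj_pow, D.a3]; group
  b3 := by rw [conj_pow, D.b3]; group
  c3 := by rw [conj_pow, D.c3]; group
  d3 := by rw [conj_pow, D.d3]; group
  pa := by rw [← D.pa]; congr 1; group
  pb := by rw [← D.pb]; congr 1; group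
  pc := by rw [← D.pc]; congr 1; group
  pu := by rw [← D.pu]; congr 1; group
  pg := by rw [← D.pg]; congr 1; group
  pd := by rw [← D.pd]; congr 1; group

variable (D : Data G m)

theorem z_inv : D.z⁻¹ = D.z := D.cv.z_inv

theorem zz : D.z * D.z = 1 := D.cv.z_sq

theorem comm_ab : Commute D.a D.b := D.cv.comm_cube D.az D.bz D.b3 (by
  rw [D.pa, D.pb]; exact (PermFacts3.comm_ab D.hm).eq)

theorem comm_ac : Commute D.a D.c := D.cv.comm_cube D.az D.cz D.c3 (by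
  rw [D.pa, D.pc]; exact (PermFacts3.comm_ac D.hm).eq)

theorem comm_bc : Commute D.b D.c := D.cv.comm_cube D.bz D.cz D.c3 (by
  rw [D.pb, D.pc]; exact (PermFacts3.comm_bc D.hm).eq)

theorem u_a : D.u * D.a * D.u⁻¹ = D.b := D.cv.conj_cube D.uz D.az D.bz D.a3 D.b3 (by
  rw [D.pu, D.pa, D.pb]; have := D.hm; interval_cases m <;> decide)

theorem u_b : D.u * D.b * D.u⁻¹ = D.a := D.cv.conj_cube D.uz D.bz D.az D.b3 D.a3 (by
  rw [D.pu, D.pa, D.pb]; have := D.hm; interval_cases m <;> decide)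

theorem u_c : D.u * D.c * D.u⁻¹ = D.c⁻¹ := D.cv.inv_cube D.uz D.cz D.c3 (by
  rw [D.pu, D.pc]; have := D.hm; interval_cases m <;> decide)

theorem g_a : D.g * D.a * D.g⁻¹ = D.a⁻¹ := D.cv.inv_cube D.gz D.az D.a3 (by
  rw [D.pg, D.pa]; have := D.hm; interval_cases m <;> decide)

theorem g_b : D.g * D.b * D.g⁻¹ = D.b⁻¹ := D.cv.inv_cube D.gz D.bz D.b3 (by
  rw [D.pg, D.pb]; have := D.hm; interval_cases m <;> decide)

theorem g_c : Commute D.g D.c := D.cv.comm_cube D.gz D.cz D.c3 (by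
  rw [D.pg, D.pc]; have := D.hm; interval_cases m <;> decide)

theorem d_a : D.d * D.a * D.d⁻¹ = D.b := D.cv.conj_cube D.dz D.az D.bz D.a3 D.b3 (by
  rw [D.pd, D.pa, D.pb]; have := D.hm; interval_cases m <;> decide)

theorem d_b : D.d * D.b * D.d⁻¹ = D.c := D.cv.conj_cube D.dz D.bz D.cz D.b3 D.c3 (by
  rw [D.pd, D.pb, D.pc]; have := D.hm; interval_cases m <;> decide)

theorem d_c : D.d * D.c * D.d⁻¹ = D.a := D.cv.conj_cube D.dz D.cz D.az D.c3 D.a3 (by
  rw [D.pd, D.pc, D.pa]; have := D.hm; interval_cases m <;> decide)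

theorem g_u : D.g * D.u * D.g⁻¹ = D.u * D.z := conj_su D.hm D.cv D.uz D.gz D.pu D.pg

theorem gg : D.g * D.g = D.z := D.cv.two (a := 0) (b := 1) (c := 3) (d := 4) D.gz
    (by have := D.hm; interval_cases m <;> decide) D.pg

theorem uu : D.u * D.u = 1 := quad D.cv (a := 0) (b := 3) (c := 1) (d := 4) (e := 2) (f := 5)
    (k := 6) (l := 7) D.uz (by have := D.hm; interval_cases m <;> decide) D.pu

theorem u_inv : D.u⁻¹ = D.u := inv_eq_of_mul_eq_one_left D.uu

theorem u_ne_one : D.u ≠ 1 := by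
  intro h
  have h1 := D.pu
  rw [h, D.cv.one] at h1
  have := D.hm
  revert h1; interval_cases m <;> decide

theorem u_ne_z : D.u ≠ D.z := by
  intro h
  have h1 := D.pu
  rw [h, D.cv.pz] at h1
  have := D.hm
  revert h1; interval_cases m <;> decide

theorem z_ne_one : D.z ≠ 1 := D.cv.z_ne

/-- the product of the first two 3-cycles -/
def r : G := D.a * D.b

theorem rz : Commute D.r D.z := D.az.mul_left D.bz

theorem ra : Commute D.r D.a := (Commute.refl _).mul_left D.comm_ab.symm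

theorem rb : Commute D.r D.b := D.comm_ab.mul_left (Commute.refl _)

theorem rc : Commute D.r D.c := D.comm_ac.mul_left D.comm_bc

theorem r3 : D.r ^ 3 = 1 := by rw [r, D.comm_ab.mul_pow, D.a3, D.b3, one_mul]

theorem ru : Commute D.r D.u := by
  have h1 : D.u * D.r * D.u⁻¹ = D.r := by
    calc D.u * (D.a * D.b) * D.u⁻¹ = (D.u * D.a * D.u⁻¹) * (D.u * D.b * D.u⁻¹) := by group
      _ = D.r := by rw [D.u_a, D.u_b, ← D.comm_ab.eq]; rfl
  exact (mul_inv_eq_iff_eq_mul.1 h1).symm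

theorem g_r : D.g * D.r * D.g⁻¹ = D.r⁻¹ := by
  calc D.g * (D.a * D.b) * D.g⁻¹ = (D.g * D.a * D.g⁻¹) * (D.g * D.b * D.g⁻¹) := by group
    _ = D.r⁻¹ := by rw [D.g_a, D.g_b, D.comm_ab.inv_inv.eq, ← mul_inv_rev]; rfl

theorem pr : D.p D.r = sa m * sb m := by rw [r, D.cv.mul D.az D.bz, D.pa, D.pb]

theorem r_ne_one : D.r ≠ 1 := by
  intro h
  have h1 := D.pr
  rw [h, D.cv.one] at h1
  have := D.hm
  revert h1; interval_cases m <;> decide

/-- the group generated by the three 3-cycles -/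
def A : Subgroup G := Subgroup.closure {D.a, D.b, D.c}

theorem aA : D.a ∈ D.A := Subgroup.subset_closure (by simp)

theorem bA : D.b ∈ D.A := Subgroup.subset_closure (by simp)

theorem cA : D.c ∈ D.A := Subgroup.subset_closure (by simp)

theorem rA : D.r ∈ D.A := D.A.mul_mem D.aA D.bA

theorem pow_mod {x : G} (hx : x ^ 3 = 1) (i : ℕ) : x ^ (i % 3) = x ^ i := by
  conv_rhs => rw [← Nat.mod_add_div i 3, pow_add, pow_mul, hx, one_pow, mul_one]

/-- elements of `A` -/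
theorem mem_A {x : G} : x ∈ D.A ↔ ∃ i j k : Fin 3, x = D.a ^ (i : ℕ) * D.b ^ (j : ℕ) * D.c ^ (k : ℕ) := by
  constructor
  · intro hx
    have key : ∃ i j k : ℕ, x = D.a ^ i * D.b ^ j * D.c ^ k := by
      induction hx using Subgroup.closure_induction with
      | mem y hy =>
        rcases hy with rfl | rfl | rfl
        · exact ⟨1, 0, 0, by simp⟩
        · exact ⟨0, 1, 0, by simp⟩
        · exact ⟨0, 0, 1, by simp⟩
      | one => exact ⟨0, 0, 0, by simp⟩
      | mul y w _ _ hy hw =>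
        obtain ⟨i, j, k, rfl⟩ := hy
        obtain ⟨i', j', k', rfl⟩ := hw
        refine ⟨i + i', j + j', k + k', ?_⟩
        rw [pow_add, pow_add, pow_add]
        have c1 := (D.comm_ac.pow_pow i' k).eq
        have c2 := (D.comm_ab.pow_pow i' j).eq
        have c3 := (D.comm_bc.pow_pow j' k).eq
        calc D.a ^ i * D.b ^ j * D.c ^ k * (D.a ^ i' * D.b ^ j' * D.c ^ k')
            = D.a ^ i * D.b ^ j * (D.c ^ k * D.a ^ i') * D.b ^ j' * D.c ^ k' := by group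
          _ = D.a ^ i * (D.b ^ j * D.a ^ i') * (D.c ^ k * D.b ^ j') * D.c ^ k' := by
            rw [← c1]; group
          _ = D.a ^ i * D.a ^ i' * (D.b ^ j * D.b ^ j') * (D.c ^ k * D.c ^ k') := by
            rw [← c2, ← c3]; group
      | inv y _ hy =>
        obtain ⟨i, j, k, rfl⟩ := hy
        refine ⟨2 * i, 2 * j, 2 * k, ?_⟩
        have e : ∀ {w : G} (_ : w ^ 3 = 1) (i : ℕ), (w ^ i)⁻¹ = w ^ (2 * i) := by
          intro w hw i
          rw [inv_eq_iff_mul_eq_one, ← pow_add]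
          have : i + 2 * i = 3 * i := by ring
          rw [this, pow_mul, hw, one_pow]
        rw [mul_inv_rev, mul_inv_rev, e D.a3, e D.b3, e D.c3]
        have c1 := (D.comm_ac.pow_pow (2 * i) (2 * k)).eq
        have c2 := (D.comm_ab.pow_pow (2 * i) (2 * j)).eq
        have c3 := (D.comm_bc.pow_pow (2 * j) (2 * k)).eq
        rw [← c2, ← mul_assoc, ← c1, mul_assoc, ← c3, ← mul_assoc]
    obtain ⟨i, j, k, rfl⟩ := key
    refine ⟨⟨i % 3, Nat.mod_lt _ (by omega)⟩, ⟨j % 3, Nat.mod_lt _ (by omega)⟩,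
      ⟨k % 3, Nat.mod_lt _ (by omega)⟩, ?_⟩
    simp only [pow_mod D.a3, pow_mod D.b3, pow_mod D.c3]
  · rintro ⟨i, j, k, rfl⟩
    exact D.A.mul_mem (D.A.mul_mem (D.A.pow_mem D.aA _) (D.A.pow_mem D.bA _))
      (D.A.pow_mem D.cA _)

theorem commute_z_of_mem_A {x : G} (hx : x ∈ D.A) : Commute x D.z := by
  obtain ⟨i, j, k, rfl⟩ := D.mem_A.1 hx
  exact ((D.az.pow_left _).mul_left (D.bz.pow_left _)).mul_left (D.cz.pow_left _)

theorem commute_of_mem_A {x y : G} (hx : x ∈ D.A) (ha : Commute y D.a) (hb : Commute y D.b)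
    (hc : Commute y D.c) : Commute y x := by
  obtain ⟨i, j, k, rfl⟩ := D.mem_A.1 hx
  exact ((ha.pow_right _).mul_right (hb.pow_right _)).mul_right (hc.pow_right _)

theorem A_comm {x y : G} (hx : x ∈ D.A) (hy : y ∈ D.A) : Commute x y := by
  refine D.commute_of_mem_A hy ?_ ?_ ?_
  · exact (D.commute_of_mem_A hx (Commute.refl _) D.comm_ab D.comm_ac).symm
  · exact (D.commute_of_mem_A hx D.comm_ab.symm (Commute.refl _) D.comm_bc).symm
  · exact (D.commute_of_mem_A hx D.comm_ac.symm D.comm_bc.symm (Commute.refl _)).symm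

theorem p_word (i j k : ℕ) : D.p (D.a ^ i * D.b ^ j * D.c ^ k) = sa m ^ i * sb m ^ j * sc m ^ k := by
  have h := D.cv
  rw [h.mul ((D.az.pow_left _).mul_left (D.bz.pow_left _)) (D.cz.pow_left _),
    h.mul (D.az.pow_left _) (D.bz.pow_left _), h.pow D.az, h.pow D.bz, h.pow D.cz, D.pa, D.pb,
    D.pc]

theorem A_cube {x : G} (hx : x ∈ D.A) : x ^ 3 = 1 := by
  obtain ⟨i, j, k, rfl⟩ := D.mem_A.1 hx
  rw [(((D.comm_ac.pow_pow i k)).mul_left (D.comm_bc.pow_pow j k)).mul_pow,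
    (D.comm_ab.pow_pow i j).mul_pow, ← pow_mul, ← pow_mul, ← pow_mul, mul_comm (i : ℕ) 3,
    mul_comm (j : ℕ) 3, mul_comm (k : ℕ) 3, pow_mul, pow_mul, pow_mul, D.a3, D.b3, D.c3, one_pow,
    one_pow, one_pow, one_mul, one_mul]

theorem word_injective : Function.Injective (fun w : Fin 3 × Fin 3 × Fin 3 =>
    D.a ^ (w.1 : ℕ) * D.b ^ (w.2.1 : ℕ) * D.c ^ (w.2.2 : ℕ)) := by
  intro w w' h
  have h1 := congrArg D.p h
  simp only [D.p_word] at h1
  have key : ∀ i j k : Fin 3, (sa m ^ (i : ℕ) * sb m ^ (j : ℕ) * sc m ^ (k : ℕ)) 0 =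
      Fin.ofNat (m + 9) (i : ℕ) ∧ (sa m ^ (i : ℕ) * sb m ^ (j : ℕ) * sc m ^ (k : ℕ)) 3 =
      Fin.ofNat (m + 9) ((j : ℕ) + 3) ∧
      (sa m ^ (i : ℕ) * sb m ^ (j : ℕ) * sc m ^ (k : ℕ)) 6 = Fin.ofNat (m + 9) ((k : ℕ) + 6) := by
    have := D.hm
    interval_cases m <;> decide
  obtain ⟨i, j, k⟩ := w
  obtain ⟨i', j', k'⟩ := w'
  obtain ⟨a1, a2, a3⟩ := key i j k
  obtain ⟨b1, b2, b3⟩ := key i' j' k'
  simp only at h1
  rw [h1] at a1 a2 a3
  have e1 := a1.symm.trans b1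
  have e2 := a2.symm.trans b2
  have e3 := a3.symm.trans b3
  clear a1 a2 a3 b1 b2 b3 h1 h key
  have hm := D.hm
  have cast_inj : ∀ s t : ℕ, s < 9 → t < 9 → Fin.ofNat (m + 9) s = Fin.ofNat (m + 9) t →
      s = t := by
    intro s t hs ht hst
    have := congrArg Fin.val hst
    simp only [Fin.val_ofNat] at this
    rw [Nat.mod_eq_of_lt (by omega), Nat.mod_eq_of_lt (by omega)] at this
    exact this
  have f1 := cast_inj _ _ (by omega) (by omega) e1
  have f2 := cast_inj _ _ (by omega) (by omega) e2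
  have f3 := cast_inj _ _ (by omega) (by omega) e3
  have g1 : i = i' := Fin.ext f1
  have g2 : j = j' := Fin.ext (by omega)
  have g3 : k = k' := Fin.ext (by omega)
  rw [g1, g2, g3]

theorem card_A : Nat.card D.A = 27 := by
  have h1 : Nat.card D.A = Nat.card (Fin 3 × Fin 3 × Fin 3) := by
    refine (Nat.card_congr (Equiv.ofBijective
      (fun w : Fin 3 × Fin 3 × Fin 3 => (⟨D.a ^ (w.1 : ℕ) * D.b ^ (w.2.1 : ℕ) *
        D.c ^ (w.2.2 : ℕ), D.mem_A.2 ⟨_, _, _, rfl⟩⟩ : D.A)) ⟨?_, ?_⟩)).symm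
    · intro w w' h
      exact D.word_injective (congrArg Subtype.val h)
    · rintro ⟨x, hx⟩
      obtain ⟨i, j, k, rfl⟩ := D.mem_A.1 hx
      exact ⟨(i, j, k), rfl⟩
  rw [h1]
  simp

/-- elements of the centraliser of `z` over the group generated by the three 3-cycles -/
theorem mem_A_or_of_p {x : G} (hx : Commute x D.z) {i j k : ℕ}
    (h : D.p x = sa m ^ i * sb m ^ j * sc m ^ k) : x ∈ D.A ∨ x * D.z ∈ D.A := by
  have h0 : D.a ^ i * D.b ^ j * D.c ^ k ∈ D.A :=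
    D.A.mul_mem (D.A.mul_mem (D.A.pow_mem D.aA _) (D.A.pow_mem D.bA _)) (D.A.pow_mem D.cA _)
  rcases D.cv.eq_or hx (D.commute_z_of_mem_A h0) (by rw [h, D.p_word]) with h1 | h1
  · left; rw [h1]; exact h0
  · right
    rw [h1, mul_assoc, D.zz, mul_one]; exact h0

/-- elements of order dividing `3` of `A` commuting with `u` are powers of `r` -/
theorem eq_pow_r_of_mem_A {x : G} (hx : x ∈ D.A) (hu : Commute x D.u) : ∃ i : Fin 3, x = D.r ^ (i : ℕ) := by
  obtain ⟨i, j, k, rfl⟩ := D.mem_A.1 hx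
  have h1 : Commute (D.p (D.a ^ (i : ℕ) * D.b ^ (j : ℕ) * D.c ^ (k : ℕ))) (D.p D.u) := by
    change _ * _ = _ * _
    rw [← D.cv.mul (D.commute_z_of_mem_A hx) D.uz, hu.eq, D.cv.mul D.uz (D.commute_z_of_mem_A hx)]
  rw [D.p_word, D.pu] at h1
  obtain ⟨h2, h3⟩ := commute_su_of D.hm i j k h1
  refine ⟨i, ?_⟩
  rw [← h2, h3, r, D.comm_ab.mul_pow]
  simp

end Data

end Cfsg.Agent.SporRec.TwoNine.Lifts
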