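import Cfsg.Agent.SporRec.TwoNine.PermFacts3

/-!
# Centralisers in the symmetric group of degree nine
-/

set_option autoImplicit false

namespace Cfsg.Agent.SporRec.TwoNine.PermFacts4

open Equiv Equiv.Perm
open Cfsg.Agent.SporRec.TwoNine.Perms Cfsg.Agent.SporRec.TwoNine.PermFacts
  Cfsg.Agent.SporRec.TwoNine.PermFacts2 Cfsg.Agent.SporRec.TwoNine.PermFacts3

theorem ext9 {σ τ : Perm (Fin 9)} (h0 : σ 0 = τ 0) (h1 : σ 1 = τ 1) (h2 : σ 2 = τ 2)
    (h3 : σ 3 = τ 3) (h4 : σ 4 = τ 4) (h5 : σ 5 = τ 5) (h6 : σ 6 = τ 6) (h7 : σ 7 = τ 7)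
    (h8 : σ 8 = τ 8) : σ = τ := by
  refine Equiv.ext fun x => ?_
  have : x = 0 ∨ x = 1 ∨ x = 2 ∨ x = 3 ∨ x = 4 ∨ x = 5 ∨ x = 6 ∨ x = 7 ∨ x = 8 := by
    revert x; decide
  rcases this with rfl | rfl | rfl | rfl | rfl | rfl | rfl | rfl | rfl <;> assumption

theorem pt (x : Fin 9) : x = 0 ∨ x = 1 ∨ x = 2 ∨ x = 3 ∨ x = 4 ∨ x = 5 ∨ x = 6 ∨ x = 7 ∨ x = 8 := by
  revert x; decide

/-- an even permutation fixing `0, …, 5` is a power of `sc` -/
theorem eq_sc {σ : Perm (Fin 9)} (hs : sign σ = 1) (h0 : σ 0 = 0) (h1 : σ 1 = 1) (h2 : σ 2 = 2)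
    (h3 : σ 3 = 3) (h4 : σ 4 = 4) (h5 : σ 5 = 5) : ∃ k < 3, σ = sc 0 ^ k := by
  have hne : ∀ x y : Fin 9, x ≠ y → σ x ≠ σ y := fun x y h h' => h (σ.injective h')
  have h6 : σ 6 = 6 ∨ σ 6 = 7 ∨ σ 6 = 8 := by
    have e0 := hne 6 0 (by decide)
    have e1 := hne 6 1 (by decide)
    have e2 := hne 6 2 (by decide)
    have e3 := hne 6 3 (by decide)
    have e4 := hne 6 4 (by decide)
    have e5 := hne 6 5 (by decide)
    rw [h0] at e0; rw [h1] at e1; rw [h2] at e2; rw [h3] at e3; rw [h4] at e4; rw [h5] at e5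
    rcases pt (σ 6) with h | h | h | h | h | h | h | h | h <;>
      first
      | exact absurd h e0
      | exact absurd h e1
      | exact absurd h e2
      | exact absurd h e3
      | exact absurd h e4
      | exact absurd h e5
      | exact Or.inl h
      | exact Or.inr (Or.inl h)
      | exact Or.inr (Or.inr h)
  have h7 : σ 7 = 6 ∨ σ 7 = 7 ∨ σ 7 = 8 := by
    have e0 := hne 7 0 (by decide)
    have e1 := hne 7 1 (by decide)
    have e2 := hne 7 2 (by decide)
    have e3 := hne 7 3 (by decide)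
    have e4 := hne 7 4 (by decide)
    have e5 := hne 7 5 (by decide)
    rw [h0] at e0; rw [h1] at e1; rw [h2] at e2; rw [h3] at e3; rw [h4] at e4; rw [h5] at e5
    rcases pt (σ 7) with h | h | h | h | h | h | h | h | h <;>
      first
      | exact absurd h e0
      | exact absurd h e1
      | exact absurd h e2
      | exact absurd h e3
      | exact absurd h e4
      | exact absurd h e5
      | exact Or.inl h
      | exact Or.inr (Or.inl h)
      | exact Or.inr (Or.inr h)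
  have h8 : σ 8 = 6 ∨ σ 8 = 7 ∨ σ 8 = 8 := by
    have e0 := hne 8 0 (by decide)
    have e1 := hne 8 1 (by decide)
    have e2 := hne 8 2 (by decide)
    have e3 := hne 8 3 (by decide)
    have e4 := hne 8 4 (by decide)
    have e5 := hne 8 5 (by decide)
    rw [h0] at e0; rw [h1] at e1; rw [h2] at e2; rw [h3] at e3; rw [h4] at e4; rw [h5] at e5
    rcases pt (σ 8) with h | h | h | h | h | h | h | h | h <;>
      first
      | exact absurd h e0
      | exact absurd h e1
      | exact absurd h e2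
      | exact absurd h e3
      | exact absurd h e4
      | exact absurd h e5
      | exact Or.inl h
      | exact Or.inr (Or.inl h)
      | exact Or.inr (Or.inr h)
  have n67 := hne 6 7 (by decide)
  have n68 := hne 6 8 (by decide)
  have n78 := hne 7 8 (by decide)
  rcases h6 with h6 | h6 | h6 <;> rcases h7 with h7 | h7 | h7 <;> rcases h8 with h8 | h8 | h8 <;>
    rw [h6, h7] at n67 <;> rw [h6, h8] at n68 <;> rw [h7, h8] at n78 <;>
    first
    | exact absurd rfl n67
    | exact absurd rfl n68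
    | exact absurd rfl n78
    | skip
  · -- 6 7 8
    refine ⟨0, by omega, ?_⟩
    refine ext9 ?_ ?_ ?_ ?_ ?_ ?_ ?_ ?_ ?_ <;> simp only [h0, h1, h2, h3, h4, h5, h6, h7, h8] <;>
      decide
  · -- 6 8 7
    exfalso
    have e : σ = swap 7 8 := by
      refine ext9 ?_ ?_ ?_ ?_ ?_ ?_ ?_ ?_ ?_ <;> simp only [h0, h1, h2, h3, h4, h5, h6, h7, h8] <;>
        decide
    rw [e] at hs
    revert hs; decide
  · -- 7 6 8
    exfalso
    have e : σ = swap 6 7 := by
      refine ext9 ?_ ?_ ?_ ?_ ?_ ?_ ?_ ?_ ?_ <;> simp only [h0, h1, h2, h3, h4, h5, h6, h7, h8] <;>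
        decide
    rw [e] at hs
    revert hs; decide
  · -- 7 8 6
    refine ⟨1, by omega, ?_⟩
    refine ext9 ?_ ?_ ?_ ?_ ?_ ?_ ?_ ?_ ?_ <;> simp only [h0, h1, h2, h3, h4, h5, h6, h7, h8] <;>
      decide
  · -- 8 6 7
    refine ⟨2, by omega, ?_⟩
    refine ext9 ?_ ?_ ?_ ?_ ?_ ?_ ?_ ?_ ?_ <;> simp only [h0, h1, h2, h3, h4, h5, h6, h7, h8] <;>
      decide
  · -- 8 7 6
    exfalso
    have e : σ = swap 6 8 := by
      refine ext9 ?_ ?_ ?_ ?_ ?_ ?_ ?_ ?_ ?_ <;> simp only [h0, h1, h2, h3, h4, h5, h6, h7, h8] <;>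
        decide
    rw [e] at hs
    revert hs; decide

/-- `σ` commuting with `sb` acts on the second block as a power of `sb` -/
theorem exists_sb {σ : Perm (Fin 9)} (hc : Commute σ (sb 0)) :
    ∃ i : Fin 3, (sb 0 ^ (i : ℕ)) 3 = σ 3 := by
  have e0 : σ 4 = sb 0 (σ 3) := by
    rw [← comm_apply hc]; congr 1
  have hmv : sb 0 (σ 3) ≠ σ 3 := by
    rw [← e0]; intro h3
    have := σ.injective h3
    revert this; decide
  generalize σ 3 = x at hmv
  revert x; decide

theorem exists_sa' {σ : Perm (Fin 9)} (hc : Commute σ (sa 0)) :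
    ∃ i : Fin 3, (sa 0 ^ (i : ℕ)) 0 = σ 0 := by
  have e0 : σ 1 = sa 0 (σ 0) := by
    rw [← comm_apply hc]; congr 1
  have hmv : sa 0 (σ 0) ≠ σ 0 := by
    rw [← e0]; intro h3
    have := σ.injective h3
    revert this; decide
  generalize σ 0 = x at hmv
  revert x; decide

theorem c_ab : Commute (sa 0) (sb 0) := comm_ab (by omega)
theorem c_ac : Commute (sa 0) (sc 0) := comm_ac (by omega)
theorem c_bc : Commute (sb 0) (sc 0) := comm_bc (by omega)

/-- an even permutation commuting with `sa` and `sb` -/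
theorem commute_sa_sb {σ : Perm (Fin 9)} (hs : sign σ = 1) (h1 : Commute σ (sa 0))
    (h2 : Commute σ (sb 0)) : ∃ i j k : ℕ, σ = sa 0 ^ i * sb 0 ^ j * sc 0 ^ k := by
  obtain ⟨i, hi⟩ := exists_sa' h1
  obtain ⟨j, hj⟩ := exists_sb h2
  set t := sa 0 ^ (i : ℕ) * sb 0 ^ (j : ℕ) with ht
  have ta : Commute t (sa 0) := ((Commute.refl _).pow_left _).mul_left (c_ab.symm.pow_left _)
  have tb : Commute t (sb 0) := (c_ab.pow_left _).mul_left ((Commute.refl _).pow_left _)
  have hv : t 0 = (sa 0 ^ (i : ℕ)) 0 ∧ t 3 = (sb 0 ^ (j : ℕ)) 3 := by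
    rw [ht]; clear hi hj ht ta tb
    revert i j; decide
  have hts : sign t = 1 := by
    rw [ht]; clear hi hj ht ta tb hv
    revert i j; decide
  set σ' := t⁻¹ * σ with hσ'
  have s0 : σ' 0 = 0 := by
    rw [hσ', Perm.mul_apply, ← hi, ← hv.1, ← Perm.mul_apply, inv_mul_cancel]; rfl
  have s3 : σ' 3 = 3 := by
    rw [hσ', Perm.mul_apply, ← hj, ← hv.2, ← Perm.mul_apply, inv_mul_cancel]; rfl
  have ca : Commute σ' (sa 0) := ta.inv_left.mul_left h1
  have cb : Commute σ' (sb 0) := tb.inv_left.mul_left h2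
  have one_comm : ∀ s : Perm (Fin 9), Commute 1 s := fun s => Commute.one_left s
  have s1 : σ' 1 = 1 := agree ca (one_comm _) (x := 0) s0
  have s2 : σ' 2 = 2 := agree ca (one_comm _) (x := 1) s1
  have s4 : σ' 4 = 4 := agree cb (one_comm _) (x := 3) s3
  have s5 : σ' 5 = 5 := agree cb (one_comm _) (x := 4) s4
  have hs' : sign σ' = 1 := by rw [hσ', map_mul, map_inv, hts, hs, inv_one, one_mul]
  obtain ⟨k, -, hk⟩ := eq_sc hs' s0 s1 s2 s3 s4 s5
  refine ⟨i, j, k, ?_⟩
  rw [← ht, ← hk, hσ', mul_inv_cancel_left]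

/-- a permutation commuting with `sb * sc`, fixing the first block and leaving invariant the second -/
theorem eq_of_bc {σ : Perm (Fin 9)} (h : Commute σ (sb 0 * sc 0)) (h0 : σ 0 = 0) (h1 : σ 1 = 1)
    (h2 : σ 2 = 2) (h3 : σ 3 = 3 ∨ σ 3 = 4 ∨ σ 3 = 5) :
    ∃ j k : Fin 3, σ = sb 0 ^ (j : ℕ) * sc 0 ^ (k : ℕ) := by
  obtain ⟨j, hj⟩ : ∃ j : Fin 3, (sb 0 ^ (j : ℕ)) 3 = σ 3 := by
    generalize σ 3 = x at h3
    revert x; decide
  have e4 : σ 4 = (sb 0 * sc 0) (σ 3) := by
    rw [← comm_apply h]; congr 1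
  have e5 : σ 5 = (sb 0 * sc 0) (σ 4) := by
    rw [← comm_apply h]; congr 1
  have hne : ∀ x y : Fin 9, x ≠ y → σ x ≠ σ y := fun x y h h' => h (σ.injective h')
  obtain ⟨k, hk⟩ : ∃ k : Fin 3, (sc 0 ^ (k : ℕ)) 6 = σ 6 := by
    have n0 := hne 6 0 (by decide)
    have n1 := hne 6 1 (by decide)
    have n2 := hne 6 2 (by decide)
    have n3 := hne 6 3 (by decide)
    have n4 := hne 6 4 (by decide)
    have n5 := hne 6 5 (by decide)
    rw [h0] at n0; rw [h1] at n1; rw [h2] at n2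
    rw [e5, e4] at n5; rw [e4] at n4
    generalize σ 3 = y at h3 n3 n4 n5
    generalize σ 6 = x at n0 n1 n2 n3 n4 n5
    revert x y; decide
  refine ⟨j, k, ?_⟩
  set t := sb 0 ^ (j : ℕ) * sc 0 ^ (k : ℕ) with ht
  have hv : t 0 = 0 ∧ t 1 = 1 ∧ t 2 = 2 ∧ t 3 = (sb 0 ^ (j : ℕ)) 3 ∧ t 6 = (sc 0 ^ (k : ℕ)) 6 := by
    rw [ht]; clear hj hk ht
    revert j k; decide
  have tc : Commute t (sb 0 * sc 0) :=
    (((Commute.refl _).pow_left _).mul_left (c_bc.symm.pow_left _)).mul_right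
      ((c_bc.pow_left _).mul_left ((Commute.refl _).pow_left _))
  obtain ⟨v0, v1, v2, v3, v6⟩ := hv
  have g3 : σ 3 = t 3 := by rw [v3, hj]
  have g6 : σ 6 = t 6 := by rw [v6, hk]
  have g4 : σ 4 = t 4 := agree h tc (x := 3) g3
  have g5 : σ 5 = t 5 := agree h tc (x := 4) g4
  have g7 : σ 7 = t 7 := agree h tc (x := 6) g6
  have g8 : σ 8 = t 8 := agree h tc (x := 7) g7
  exact ext9 (by rw [h0, v0]) (by rw [h1, v1]) (by rw [h2, v2]) g3 g4 g5 g6 g7 g8

/-- an even permutation commuting with `sa` and `sb * sc` -/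
theorem commute_sa_sbc {σ : Perm (Fin 9)} (hs : sign σ = 1) (h1 : Commute σ (sa 0))
    (h2 : Commute σ (sb 0 * sc 0)) : ∃ i j k : ℕ, σ = sa 0 ^ i * sb 0 ^ j * sc 0 ^ k := by
  obtain ⟨i, hi⟩ := exists_sa' h1
  set t := sa 0 ^ (i : ℕ) with ht
  have ta : Commute t (sa 0) := (Commute.refl _).pow_left _
  have tbc : Commute t (sb 0 * sc 0) := (c_ab.mul_right c_ac).pow_left _
  have hts : sign t = 1 := by
    rw [ht]; clear hi ht ta tbc
    revert i; decide
  set σ' := t⁻¹ * σ with hσ'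
  have s0 : σ' 0 = 0 := by
    rw [hσ', Perm.mul_apply, ← hi, ← Perm.mul_apply, inv_mul_cancel]; rfl
  have ca : Commute σ' (sa 0) := ta.inv_left.mul_left h1
  have cbc : Commute σ' (sb 0 * sc 0) := tbc.inv_left.mul_left h2
  have one_comm : ∀ s : Perm (Fin 9), Commute 1 s := fun s => Commute.one_left s
  have s1 : σ' 1 = 1 := agree ca (one_comm _) (x := 0) s0
  have s2 : σ' 2 = 2 := agree ca (one_comm _) (x := 1) s1
  have hs' : sign σ' = 1 := by rw [hσ', map_mul, map_inv, hts, hs, inv_one, one_mul]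
  have hσ : σ = t * σ' := by rw [hσ', mul_inv_cancel_left]
  by_cases h3 : σ' 3 = 3 ∨ σ' 3 = 4 ∨ σ' 3 = 5
  · obtain ⟨j, k, hjk⟩ := eq_of_bc cbc s0 s1 s2 h3
    exact ⟨i, j, k, by rw [hσ, hjk, ht, mul_assoc]⟩
  · exfalso
    set w : Perm (Fin 9) := swap 3 6 * swap 4 7 * swap 5 8 with hw
    have hne : ∀ x y : Fin 9, x ≠ y → σ' x ≠ σ' y := fun x y h h' => h (σ'.injective h')
    have n0 := hne 3 0 (by decide)
    have n1 := hne 3 1 (by decide)
    have n2 := hne 3 2 (by decide)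
    rw [s0] at n0; rw [s1] at n1; rw [s2] at n2
    have h3' : (w * σ') 3 = 3 ∨ (w * σ') 3 = 4 ∨ (w * σ') 3 = 5 := by
      rw [Perm.mul_apply]
      generalize σ' 3 = x at n0 n1 n2 h3
      rw [hw]
      clear_value w
      revert x; decide
    have wbc : Commute w (sb 0 * sc 0) := by
      change w * (sb 0 * sc 0) = sb 0 * sc 0 * w
      rw [hw]; decide
    obtain ⟨j, k, hjk⟩ := eq_of_bc (σ := w * σ') (wbc.mul_left cbc)
      (by rw [Perm.mul_apply, s0, hw]; decide) (by rw [Perm.mul_apply, s1, hw]; decide)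
      (by rw [Perm.mul_apply, s2, hw]; decide) h3'
    have h4 := congrArg sign hjk
    rw [map_mul, hs'] at h4
    have h5 : sign w = -1 := by rw [hw]; decide
    have h6 : sign (sb 0 ^ (j : ℕ) * sc 0 ^ (k : ℕ)) = 1 := by
      clear hjk h4
      revert j k; decide
    rw [h5, h6] at h4
    exact absurd h4 (by decide)

/-- the square of a permutation commuting with `sa * sb` commutes with `sa` and `sb` -/
theorem sq_commute {σ : Perm (Fin 9)} (h : Commute σ (sa 0 * sb 0)) :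
    Commute (σ ^ 2) (sa 0) ∧ Commute (σ ^ 2) (sb 0) := by
  set s := sa 0 * sb 0 with hs
  have hne : ∀ x y : Fin 9, x ≠ y → σ x ≠ σ y := fun x y h h' => h (σ.injective h')
  have e1 : σ 1 = s (σ 0) := by rw [← comm_apply h]; congr 1
  have e2 : σ 2 = s (σ 1) := by rw [← comm_apply h]; congr 1
  have e4 : σ 4 = s (σ 3) := by rw [← comm_apply h]; congr 1
  have e5 : σ 5 = s (σ 4) := by rw [← comm_apply h]; congr 1
  have m0 : s (σ 0) ≠ σ 0 := by rw [← e1]; exact hne _ _ (by decide)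
  have m3 : s (σ 3) ≠ σ 3 := by rw [← e4]; exact hne _ _ (by decide)
  have n30 := hne 3 0 (by decide)
  have n31 := hne 3 1 (by decide)
  have n32 := hne 3 2 (by decide)
  have f6 : s (σ 6) = σ 6 := by rw [← comm_apply h]; congr 1
  have f7 : s (σ 7) = σ 7 := by rw [← comm_apply h]; congr 1
  have f8 : s (σ 8) = σ 8 := by rw [← comm_apply h]; congr 1
  rw [e1] at n31
  rw [e2, e1] at n32
  -- either `σ` commutes with `sa` and `sb` or interchanges them
  have key : (σ * sa 0 = sa 0 * σ ∧ σ * sb 0 = sb 0 * σ) ∨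
      (σ * sa 0 = sb 0 * σ ∧ σ * sb 0 = sa 0 * σ) := by
    have h03 : ((σ 0 = 0 ∨ σ 0 = 1 ∨ σ 0 = 2) ∧ (σ 3 = 3 ∨ σ 3 = 4 ∨ σ 3 = 5)) ∨
        ((σ 0 = 3 ∨ σ 0 = 4 ∨ σ 0 = 5) ∧ (σ 3 = 0 ∨ σ 3 = 1 ∨ σ 3 = 2)) := by
      generalize σ 0 = x at m0 n30 n31 n32
      generalize σ 3 = y at m3 n30 n31 n32
      rw [hs] at m0 m3 n31 n32
      clear_value s
      revert x y; decide
    have g6 : sa 0 (σ 6) = σ 6 ∧ sb 0 (σ 6) = σ 6 := by
      generalize σ 6 = x at f6
      rw [hs] at f6; revert x; decide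
    have g7 : sa 0 (σ 7) = σ 7 ∧ sb 0 (σ 7) = σ 7 := by
      generalize σ 7 = x at f7
      rw [hs] at f7; revert x; decide
    have g8 : sa 0 (σ 8) = σ 8 ∧ sb 0 (σ 8) = σ 8 := by
      generalize σ 8 = x at f8
      rw [hs] at f8; revert x; decide
    rw [e4] at e5
    rw [e1] at e2
    rcases h03 with ⟨a0, a3⟩ | ⟨a0, a3⟩
    · left
      constructor
      · refine ext9 ?_ ?_ ?_ ?_ ?_ ?_ ?_ ?_ ?_
        · change σ 1 = sa 0 (σ 0)
          rw [e1]; generalize σ 0 = x at a0; rw [hs]; revert x; decide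
        · change σ 2 = sa 0 (σ 1)
          rw [e2, e1]; generalize σ 0 = x at a0; rw [hs]; revert x; decide
        · change σ 0 = sa 0 (σ 2)
          rw [e2]; generalize σ 0 = x at a0; rw [hs]; revert x; decide
        · change σ 3 = sa 0 (σ 3)
          generalize σ 3 = x at a3; revert x; decide
        · change σ 4 = sa 0 (σ 4)
          rw [e4]; generalize σ 3 = x at a3; rw [hs]; revert x; decide
        · change σ 5 = sa 0 (σ 5)
          rw [e5]; generalize σ 3 = x at a3; rw [hs]; revert x; decide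
        · change σ 6 = sa 0 (σ 6)
          exact g6.1.symm
        · change σ 7 = sa 0 (σ 7)
          exact g7.1.symm
        · change σ 8 = sa 0 (σ 8)
          exact g8.1.symm
      · refine ext9 ?_ ?_ ?_ ?_ ?_ ?_ ?_ ?_ ?_
        · change σ 0 = sb 0 (σ 0)
          generalize σ 0 = x at a0; revert x; decide
        · change σ 1 = sb 0 (σ 1)
          rw [e1]; generalize σ 0 = x at a0; rw [hs]; revert x; decide
        · change σ 2 = sb 0 (σ 2)
          rw [e2]; generalize σ 0 = x at a0; rw [hs]; revert x; decide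
        · change σ 4 = sb 0 (σ 3)
          rw [e4]; generalize σ 3 = x at a3; rw [hs]; revert x; decide
        · change σ 5 = sb 0 (σ 4)
          rw [e5, e4]; generalize σ 3 = x at a3; rw [hs]; revert x; decide
        · change σ 3 = sb 0 (σ 5)
          rw [e5]; generalize σ 3 = x at a3; rw [hs]; revert x; decide
        · change σ 6 = sb 0 (σ 6)
          exact g6.2.symm
        · change σ 7 = sb 0 (σ 7)
          exact g7.2.symm
        · change σ 8 = sb 0 (σ 8)
          exact g8.2.symm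
    · right
      constructor
      · refine ext9 ?_ ?_ ?_ ?_ ?_ ?_ ?_ ?_ ?_
        · change σ 1 = sb 0 (σ 0)
          rw [e1]; generalize σ 0 = x at a0; rw [hs]; revert x; decide
        · change σ 2 = sb 0 (σ 1)
          rw [e2, e1]; generalize σ 0 = x at a0; rw [hs]; revert x; decide
        · change σ 0 = sb 0 (σ 2)
          rw [e2]; generalize σ 0 = x at a0; rw [hs]; revert x; decide
        · change σ 3 = sb 0 (σ 3)
          generalize σ 3 = x at a3; revert x; decide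
        · change σ 4 = sb 0 (σ 4)
          rw [e4]; generalize σ 3 = x at a3; rw [hs]; revert x; decide
        · change σ 5 = sb 0 (σ 5)
          rw [e5]; generalize σ 3 = x at a3; rw [hs]; revert x; decide
        · change σ 6 = sb 0 (σ 6)
          exact g6.2.symm
        · change σ 7 = sb 0 (σ 7)
          exact g7.2.symm
        · change σ 8 = sb 0 (σ 8)
          exact g8.2.symm
      · refine ext9 ?_ ?_ ?_ ?_ ?_ ?_ ?_ ?_ ?_
        · change σ 0 = sa 0 (σ 0)
          generalize σ 0 = x at a0; revert x; decide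
        · change σ 1 = sa 0 (σ 1)
          rw [e1]; generalize σ 0 = x at a0; rw [hs]; revert x; decide
        · change σ 2 = sa 0 (σ 2)
          rw [e2]; generalize σ 0 = x at a0; rw [hs]; revert x; decide
        · change σ 4 = sa 0 (σ 3)
          rw [e4]; generalize σ 3 = x at a3; rw [hs]; revert x; decide
        · change σ 5 = sa 0 (σ 4)
          rw [e5, e4]; generalize σ 3 = x at a3; rw [hs]; revert x; decide
        · change σ 3 = sa 0 (σ 5)
          rw [e5]; generalize σ 3 = x at a3; rw [hs]; revert x; decide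
        · change σ 6 = sa 0 (σ 6)
          exact g6.1.symm
        · change σ 7 = sa 0 (σ 7)
          exact g7.1.symm
        · change σ 8 = sa 0 (σ 8)
          exact g8.1.symm
  rcases key with ⟨ka, kb⟩ | ⟨ka, kb⟩
  · exact ⟨Commute.pow_left ka 2, Commute.pow_left kb 2⟩
  · constructor
    · change σ ^ 2 * sa 0 = sa 0 * σ ^ 2
      rw [pow_two, mul_assoc, ka, ← mul_assoc, kb, mul_assoc]
    · change σ ^ 2 * sb 0 = sb 0 * σ ^ 2
      rw [pow_two, mul_assoc, kb, ← mul_assoc, ka, mul_assoc]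

/-- the square of an even permutation commuting with `sa * sb` -/
theorem sq_of_commute {σ : Perm (Fin 9)} (hs : sign σ = 1) (h : Commute σ (sa 0 * sb 0)) :
    ∃ i j k : ℕ, σ ^ 2 = sa 0 ^ i * sb 0 ^ j * sc 0 ^ k := by
  obtain ⟨h1, h2⟩ := sq_commute h
  exact commute_sa_sb (by rw [map_pow, hs, one_pow]) h1 h2

end Cfsg.Agent.SporRec.TwoNine.PermFacts4
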