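import Cfsg.Agent.SporRec.TwoNine.KCard2
import Cfsg.Agent.SporRec.TwoNine.Count2
import Cfsg.Agent.SporRec.TwoNine.PermFacts4

/-!
# Degree nine, the core of order 243: the centralisers of `⟨a, b⟩` and `⟨a, b c⟩`
-/

set_option autoImplicit false

namespace Cfsg.Agent.SporRec.TwoNine.NineF

open Equiv Equiv.Perm Subgroup Cfsg
open Cfsg.Agent.Lib
open Cfsg.Agent.SporRec.TwoNine.Cv Cfsg.Agent.SporRec.TwoNine.Perms
  Cfsg.Agent.SporRec.TwoNine.PermFacts Cfsg.Agent.SporRec.TwoNine.PermFacts2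
  Cfsg.Agent.SporRec.TwoNine.PermFacts3 Cfsg.Agent.SporRec.TwoNine.Basic
  Cfsg.Agent.SporRec.TwoNine.Lifts Cfsg.Agent.SporRec.TwoNine.Lifts.Data
  Cfsg.Agent.SporRec.TwoNine.Fuse Cfsg.Agent.SporRec.TwoNine.KCore

variable {G : Type*} [Group G]

section gen

variable {m : ℕ} (D : Data G m)

theorem a_ne_one : D.a ≠ 1 := by
  intro h
  have h1 := D.pa
  rw [h, D.cv.one] at h1
  have hm := D.hm
  revert h1; interval_cases m <;> decide

theorem card_zpowers_a : Nat.card (zpowers D.a) = 3 := by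
  have hf3 : Fact (Nat.Prime 3) := ⟨by norm_num⟩
  rw [Nat.card_zpowers]
  exact orderOf_eq_prime D.a3 (a_ne_one D)

/-- the lift inverting the last two blocks -/
theorem exists_h : ∃ h : G, Commute h D.z ∧ Commute h D.a ∧ h * D.b * h⁻¹ = D.b⁻¹ ∧
    h * D.c * h⁻¹ = D.c⁻¹ ∧ h * h = D.z := by
  refine ⟨D.d * D.g * D.d⁻¹, (D.dz.mul_left D.gz).mul_left D.dz.inv_left, ?_, ?_, ?_, ?_⟩
  · have h1 : Commute (D.d * D.g * D.d⁻¹) (D.d * D.c * D.d⁻¹) := SemiconjBy.conj_iff.2 D.g_c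
    rwa [D.d_c] at h1
  · calc D.d * D.g * D.d⁻¹ * D.b * (D.d * D.g * D.d⁻¹)⁻¹
        = D.d * (D.g * (D.d⁻¹ * D.b * (D.d⁻¹)⁻¹) * D.g⁻¹) * D.d⁻¹ := by group
      _ = D.b⁻¹ := by rw [CaseTwo.conj_b, D.g_a, ← D.d_a]; group
  · have e : D.d⁻¹ * D.c * (D.d⁻¹)⁻¹ = D.b := by rw [← D.d_b]; group
    calc D.d * D.g * D.d⁻¹ * D.c * (D.d * D.g * D.d⁻¹)⁻¹
        = D.d * (D.g * (D.d⁻¹ * D.c * (D.d⁻¹)⁻¹) * D.g⁻¹) * D.d⁻¹ := by group
      _ = D.c⁻¹ := by rw [e, D.g_b, ← D.d_b]; group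
  · calc D.d * D.g * D.d⁻¹ * (D.d * D.g * D.d⁻¹) = D.d * (D.g * D.g) * D.d⁻¹ := by group
      _ = D.z := by rw [D.gg, D.dz.eq, mul_inv_cancel_right]

theorem exists_hyp [Finite G] : ∃ v, Cfsg.Agent.SporadicB.J1Local.Kstr.Hyp (K D) D.z v D.a := by
  obtain ⟨v, l, q₁, q₂, vz, vv, v1, v2, va, -⟩ := exists_aux D
  exact ⟨v, KCard.hyp D vz vv va⟩

end gen

variable (D : Data G 0)

theorem not_H1 [Finite G] (hK : Nat.card (K D) = 243)
    (h : ∀ y, Commute y D.a → Commute y D.z) : False := by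
  have h1 : K D ≤ zpowers D.a := by
    intro x hx
    obtain ⟨i, -, rfl⟩ := cent_z D hx (h x (comm_a D hx))
    exact pow_mem (mem_zpowers _) i
  have h2 := card_le_of_le h1
  rw [hK, card_zpowers_a] at h2
  norm_num at h2

/-- the order of a subgroup of `K` in terms of the elements inverted by `z` -/
theorem card_L [Finite G] {L : Subgroup G} (hLK : L ≤ K D) (haL : D.a ∈ L)
    (hz : ∀ x ∈ L, D.z * x * D.z⁻¹ ∈ L) :
    Nat.card L = 3 * Nat.card {x : G | x ∈ L ∧ D.z * x * D.z⁻¹ = x⁻¹} := by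
  have h1 := Count2.card_inv L (Odd.of_dvd_nat (odd_K D) (card_dvd_of_le hLK)) D.zz hz
  have h2 : L ⊓ centralizer {D.z} = zpowers D.a := by
    apply le_antisymm
    · intro x hx
      obtain ⟨hx1, hx2⟩ := mem_inf.1 hx
      obtain ⟨i, -, rfl⟩ := cent_z D (hLK hx1) (mem_centralizer_singleton_iff.1 hx2)
      exact pow_mem (mem_zpowers _) i
    · rw [zpowers_le]
      exact mem_inf.2 ⟨haL, mem_centralizer_singleton_iff.2 D.az⟩
  rw [h1, h2, card_zpowers_a]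

theorem card_I [Finite G] (hK : Nat.card (K D) = 243) :
    Nat.card {x : G | x ∈ K D ∧ D.z * x * D.z⁻¹ = x⁻¹} = 81 := by
  have h1 := card_L D (le_refl _) (a_mem D) (fun x hx => K_conj' D D.az.symm hx)
  rw [hK] at h1
  omega

/-- centralisers in `K` of certain subgroups of `A` have order 27 -/
theorem card_centralizer [Finite G] (hK : Nat.card (K D) = 243) {h : G} (hz : Commute h D.z)
    (ha : Commute h D.a) (hh : h * h = D.z) {T : Subgroup G} (hTA : T ≤ D.A)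
    (hT : ∀ t ∈ T, h * t * h⁻¹ ∈ T) (hne : ∃ t ∈ T, ∀ i : ℕ, D.p t ≠ sa 0 ^ i) :
    Nat.card (K D ⊓ centralizer (T : Set G) : Subgroup G) = 27 := by
  set L : Subgroup G := K D ⊓ centralizer (T : Set G) with hL
  have memL : ∀ {x : G}, x ∈ L ↔ x ∈ K D ∧ ∀ t ∈ T, Commute x t := by
    intro x
    rw [hL, mem_inf, mem_centralizer_iff]
    constructor
    · rintro ⟨h1, h2⟩; exact ⟨h1, fun t ht => (h2 t ht).symm⟩
    · rintro ⟨h1, h2⟩; exact ⟨h1, fun t ht => (h2 t ht).eq.symm⟩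
  have hTz : ∀ t ∈ T, Commute t D.z := fun t ht => D.commute_z_of_mem_A (hTA ht)
  have hTa : ∀ t ∈ T, Commute t D.a := fun t ht => D.A_comm (hTA ht) D.aA
  have hLK : L ≤ K D := inf_le_left
  have haL : D.a ∈ L := memL.2 ⟨a_mem D, fun t ht => (hTa t ht).symm⟩
  have hLz : ∀ x ∈ L, D.z * x * D.z⁻¹ ∈ L := by
    intro x hx
    obtain ⟨h1, h2⟩ := memL.1 hx
    exact memL.2 ⟨K_conj' D D.az.symm h1, fun t ht =>
      ((hTz t ht).symm.mul_left (h2 t ht)).mul_left (hTz t ht).symm.inv_left⟩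
  have hLh : ∀ x ∈ L, h * x * h⁻¹ ∈ L := by
    intro x hx
    obtain ⟨h1, h2⟩ := memL.1 hx
    refine memL.2 ⟨K_conj' D ha h1, fun t ht => ?_⟩
    -- `h⁻¹ t h ∈ T`
    have hn : h ∈ normalizer (T : Set G) := Gen.mem_normalizer_of_conj hT
    have h3 : h⁻¹ * t * h ∈ T := by
      have := (mem_normalizer_iff''.1 hn t).1 ht
      exact this
    have h4 : Commute (h * x * h⁻¹) (h * (h⁻¹ * t * h) * h⁻¹) := SemiconjBy.conj_iff.2 (h2 _ h3)
    have h5 : h * (h⁻¹ * t * h) * h⁻¹ = t := by group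
    rwa [h5] at h4
  have h1 := card_L D hLK haL hLz
  set n := Nat.card {x : G | x ∈ L ∧ D.z * x * D.z⁻¹ = x⁻¹} with hn
  -- modulo four
  have h4 : 4 ∣ Nat.card {x : G | (x ∈ L ∧ D.z * x * D.z⁻¹ = x⁻¹) ∧ x ≠ 1} := by
    refine Count.four_dvd _ h D.z hh D.zz ?_ ?_ ?_
    · rintro x ⟨⟨hx, hxz⟩, hx1⟩
      refine ⟨⟨hLh x hx, ?_⟩, ?_⟩
      · calc D.z * (h * x * h⁻¹) * D.z⁻¹ = (D.z * h) * x * (D.z * h)⁻¹ := by group
          _ = (h * D.z) * x * (h * D.z)⁻¹ := by rw [hz.eq]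
          _ = h * (D.z * x * D.z⁻¹) * h⁻¹ := by group
          _ = (h * x * h⁻¹)⁻¹ := by rw [hxz]; group
      · intro h2
        apply hx1
        calc x = h⁻¹ * (h * x * h⁻¹) * h := by group
          _ = 1 := by rw [h2]; group
    · rintro x ⟨⟨hx, hxz⟩, hx1⟩
      exact hxz
    · rintro x ⟨⟨hx, hxz⟩, hx1⟩ h2
      apply hx1
      refine Gen.eq_one_of_odd (odd_of_mem D (hLK hx)) ?_
      nth_rewrite 1 [← h2]
      exact inv_mul_cancel x
  have h5 : Nat.card {x : G | (x ∈ L ∧ D.z * x * D.z⁻¹ = x⁻¹) ∧ x ≠ 1} + 1 = n := by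
    have e1 : {x : G | (x ∈ L ∧ D.z * x * D.z⁻¹ = x⁻¹) ∧ x ≠ 1} =
        {x : G | x ∈ L ∧ D.z * x * D.z⁻¹ = x⁻¹} \ {1} := by ext x; simp
    rw [e1]
    have h2 := Set.ncard_sdiff_singleton_add_one (a := (1 : G))
      (s := {x : G | x ∈ L ∧ D.z * x * D.z⁻¹ = x⁻¹}) ⟨one_mem _, by group⟩ (Set.toFinite _)
    rw [Set.ncard, Set.ncard] at h2
    exact h2
  -- modulo three
  have hTp : IsPGroup 3 T := by
    rintro ⟨t, ht⟩
    exact ⟨1, Subtype.ext (by simpa using D.A_cube (hTA ht))⟩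
  have h6 := Count2.card_modEq hTp {x : G | x ∈ K D ∧ D.z * x * D.z⁻¹ = x⁻¹} (by
    rintro t ht x ⟨hx, hxz⟩
    refine ⟨K_conj' D (hTa t ht) hx, ?_⟩
    calc D.z * (t * x * t⁻¹) * D.z⁻¹ = (D.z * t) * x * (D.z * t)⁻¹ := by group
      _ = (t * D.z) * x * (t * D.z)⁻¹ := by rw [(hTz t ht).eq]
      _ = t * (D.z * x * D.z⁻¹) * t⁻¹ := by group
      _ = (t * x * t⁻¹)⁻¹ := by rw [hxz]; group)
  have e2 : {x : G | x ∈ {x : G | x ∈ K D ∧ D.z * x * D.z⁻¹ = x⁻¹} ∧ ∀ t ∈ T, Commute t x} =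
      {x : G | x ∈ L ∧ D.z * x * D.z⁻¹ = x⁻¹} := by
    ext x
    constructor
    · rintro ⟨⟨hx1, hx2⟩, hx3⟩
      exact ⟨memL.2 ⟨hx1, fun t ht => (hx3 t ht).symm⟩, hx2⟩
    · rintro ⟨hx1, hx2⟩
      obtain ⟨hx3, hx4⟩ := memL.1 hx1
      exact ⟨⟨hx3, hx2⟩, fun t ht => (hx4 t ht).symm⟩
  rw [e2, card_I D hK, ← hn] at h6
  -- a power of three
  have h7 : 3 * n ∣ 3 ^ 5 := by
    rw [← h1]
    have := card_dvd_of_le hLK
    rw [hK] at this
    exact this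
  obtain ⟨k, hk, hk'⟩ := (Nat.dvd_prime_pow (by norm_num)).1 h7
  have h8 : n ≠ 81 := by
    intro h81
    rw [h81] at h1
    have hLK' : L = K D := Subgroup.eq_of_le_of_card_ge hLK (by rw [h1, hK])
    obtain ⟨t, ht, htp⟩ := hne
    refine not_H1 D hK (H1_of_commute D (hTz t ht) (hTa t ht) (fun x hx => ?_) htp)
    rw [← hLK'] at hx
    exact ((memL.1 hx).2 t ht).symm
  have h9 : n = 9 := by
    have h10 : n % 3 = 0 := by
      have : 81 % 3 = n % 3 := h6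
      omega
    have h11 : n % 4 = 1 := by omega
    interval_cases k <;> omega
  rw [h1, h9]

/-- the elements of `K` commuting with `b` and `c` -/
def F : Subgroup G := K D ⊓ centralizer {D.b, D.c}

theorem mem_F {x : G} : x ∈ F D ↔ x ∈ K D ∧ Commute x D.b ∧ Commute x D.c := by
  rw [F, mem_inf, mem_centralizer_iff]
  constructor
  · rintro ⟨h1, h2⟩
    exact ⟨h1, (h2 D.b (by simp)).symm, (h2 D.c (by simp)).symm⟩
  · rintro ⟨h1, h2, h3⟩
    refine ⟨h1, ?_⟩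
    rintro t (rfl | rfl)
    · exact h2.eq.symm
    · exact h3.eq.symm

theorem F_facts [Finite G] (hK : Nat.card (K D) = 243) : Nat.card (F D) = 27 ∧
    (∀ x ∈ K D, Commute x D.b → x ∈ F D) ∧ (∀ x ∈ K D, Commute x (D.b * D.c) → x ∈ F D) := by
  obtain ⟨h, hz, ha, hb, hc, hh⟩ := exists_h D
  -- the three groups
  have c1 : Nat.card (K D ⊓ centralizer (zpowers D.b : Set G) : Subgroup G) = 27 := by
    refine card_centralizer D hK hz ha hh (zpowers_le.2 D.bA) ?_ ⟨D.b, mem_zpowers _, ?_⟩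
    · rintro _ ⟨k, rfl⟩
      change h * D.b ^ k * h⁻¹ ∈ _
      rw [← conj_zpow, hb]
      exact zpow_mem (inv_mem (mem_zpowers _)) k
    · intro i hi
      rw [D.pb, ← pow_mod (PermFacts3.sa_cube D.hm)] at hi
      have hi3 : i % 3 < 3 := Nat.mod_lt _ (by omega)
      interval_cases (i % 3) <;> revert hi <;> decide
  have c2 : Nat.card (K D ⊓ centralizer (zpowers (D.b * D.c) : Set G) : Subgroup G) = 27 := by
    refine card_centralizer D hK hz ha hh (zpowers_le.2 (mul_mem D.bA D.cA)) ?_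
      ⟨D.b * D.c, mem_zpowers _, ?_⟩
    · rintro _ ⟨k, rfl⟩
      change h * (D.b * D.c) ^ k * h⁻¹ ∈ _
      have e : h * (D.b * D.c) * h⁻¹ = (D.b * D.c)⁻¹ := by
        calc h * (D.b * D.c) * h⁻¹ = (h * D.b * h⁻¹) * (h * D.c * h⁻¹) := by group
          _ = (D.b * D.c)⁻¹ := by rw [hb, hc, D.comm_bc.inv_inv.eq, mul_inv_rev]
      rw [← conj_zpow, e]
      exact zpow_mem (inv_mem (mem_zpowers _)) k
    · intro i hi
      rw [D.cv.mul D.bz D.cz, D.pb, D.pc, ← pow_mod (PermFacts3.sa_cube D.hm)] at hi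
      have hi3 : i % 3 < 3 := Nat.mod_lt _ (by omega)
      interval_cases (i % 3) <;> revert hi <;> decide
  set T3 := FuseX.gen2 D.b D.c D.b3 D.c3 D.comm_bc with hT3
  have memT3 : ∀ {x : G}, x ∈ T3 ↔ ∃ i j : Fin 3, x = D.b ^ (i : ℕ) * D.c ^ (j : ℕ) := Iff.rfl
  have hbT : D.b ∈ T3 := memT3.2 ⟨1, 0, by simp⟩
  have hcT : D.c ∈ T3 := memT3.2 ⟨0, 1, by simp⟩
  have c3 : Nat.card (K D ⊓ centralizer (T3 : Set G) : Subgroup G) = 27 := by
    refine card_centralizer D hK hz ha hh ?_ ?_ ⟨D.b, hbT, ?_⟩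
    · rintro x hx
      obtain ⟨i, j, rfl⟩ := memT3.1 hx
      exact mul_mem (pow_mem D.bA _) (pow_mem D.cA _)
    · rintro x hx
      obtain ⟨i, j, rfl⟩ := memT3.1 hx
      have e : h * (D.b ^ (i : ℕ) * D.c ^ (j : ℕ)) * h⁻¹ = (D.b⁻¹) ^ (i : ℕ) * (D.c⁻¹) ^ (j : ℕ) := by
        rw [← hb, ← hc, conj_pow, conj_pow]; group
      rw [e]
      exact mul_mem (pow_mem (inv_mem hbT) _) (pow_mem (inv_mem hcT) _)
    · intro i hi
      rw [D.pb, ← pow_mod (PermFacts3.sa_cube D.hm)] at hi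
      have hi3 : i % 3 < 3 := Nat.mod_lt _ (by omega)
      interval_cases (i % 3) <;> revert hi <;> decide
  have hF3 : K D ⊓ centralizer (T3 : Set G) = F D := by
    ext x
    rw [mem_F, mem_inf, mem_centralizer_iff]
    constructor
    · rintro ⟨h1, h2⟩
      exact ⟨h1, (h2 D.b hbT).symm, (h2 D.c hcT).symm⟩
    · rintro ⟨h1, h2, h3⟩
      refine ⟨h1, ?_⟩
      intro t ht
      obtain ⟨i, j, rfl⟩ := memT3.1 ht
      exact ((h2.pow_right _).mul_right (h3.pow_right _)).eq.symm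
  rw [hF3] at c3
  have memz : ∀ (t x : G), x ∈ K D ⊓ centralizer (zpowers t : Set G) ↔ x ∈ K D ∧ Commute x t := by
    intro t x
    rw [mem_inf, mem_centralizer_iff]
    constructor
    · rintro ⟨h1, h2⟩
      exact ⟨h1, (h2 t (mem_zpowers _)).symm⟩
    · rintro ⟨h1, h2⟩
      refine ⟨h1, ?_⟩
      rintro _ ⟨k, rfl⟩
      exact (h2.zpow_right k).eq.symm
  refine ⟨c3, ?_, ?_⟩
  · have h1 : F D = K D ⊓ centralizer (zpowers D.b : Set G) := by
      refine Subgroup.eq_of_le_of_card_ge ?_ (by rw [c1, c3])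
      intro x hx
      obtain ⟨h1, h2, h3⟩ := (mem_F D).1 hx
      exact (memz _ _).2 ⟨h1, h2⟩
    intro x hx hxb
    rw [h1]
    exact (memz _ _).2 ⟨hx, hxb⟩
  · have h1 : F D = K D ⊓ centralizer (zpowers (D.b * D.c) : Set G) := by
      refine Subgroup.eq_of_le_of_card_ge ?_ (by rw [c2, c3])
      intro x hx
      obtain ⟨h1, h2, h3⟩ := (mem_F D).1 hx
      exact (memz _ _).2 ⟨h1, h2.mul_right h3⟩
    intro x hx hxb
    rw [h1]
    exact (memz _ _).2 ⟨hx, hxb⟩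

theorem odd_F [Finite G] : Odd (Nat.card (F D)) :=
  Odd.of_dvd_nat (odd_K D) (card_dvd_of_le inf_le_left)

/-- the centraliser of `⟨a, b⟩` -/
theorem cent_ab [Finite G] (hK : Nat.card (K D) = 243) {g : G} (ha : Commute g D.a)
    (hb : Commute g D.b) : ∃ f ∈ F D, f * g ∈ D.A ∨ f * g * D.z ∈ D.A := by
  obtain ⟨-, hF, -⟩ := F_facts D hK
  have h1 : D.z * g * D.z⁻¹ * g⁻¹ ∈ F D := by
    refine hF _ (comm_mem D ha) ?_
    exact ((D.bz.symm.mul_left hb).mul_left D.bz.symm.inv_left).mul_left hb.inv_left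
  obtain ⟨f, hf, hfz⟩ := Gen.exists_fixed (odd_F D) D.zz h1
  obtain ⟨hfK, hfb, hfc⟩ := (mem_F D).1 hf
  refine ⟨f, hf, ?_⟩
  have ha' : Commute (f * g) D.a := (comm_a D hfK).mul_left ha
  have hb' : Commute (f * g) D.b := hfb.mul_left hb
  obtain ⟨i, j, k, hijk⟩ := PermFacts4.commute_sa_sb (D.cv.sgn hfz)
    (by rw [← D.pa]; exact p_comm D hfz D.az ha') (by rw [← D.pb]; exact p_comm D hfz D.bz hb')
  exact D.mem_A_or_of_p hfz hijk

/-- the centraliser of `⟨a, b c⟩` -/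
theorem cent_abc [Finite G] (hK : Nat.card (K D) = 243) {g : G} (ha : Commute g D.a)
    (hbc : Commute g (D.b * D.c)) : ∃ f ∈ F D, f * g ∈ D.A ∨ f * g * D.z ∈ D.A := by
  obtain ⟨-, -, hF⟩ := F_facts D hK
  have hbcz : Commute (D.b * D.c) D.z := D.bz.mul_left D.cz
  have h1 : D.z * g * D.z⁻¹ * g⁻¹ ∈ F D := by
    refine hF _ (comm_mem D ha) ?_
    exact ((hbcz.symm.mul_left hbc).mul_left hbcz.symm.inv_left).mul_left hbc.inv_left
  obtain ⟨f, hf, hfz⟩ := Gen.exists_fixed (odd_F D) D.zz h1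
  obtain ⟨hfK, hfb, hfc⟩ := (mem_F D).1 hf
  refine ⟨f, hf, ?_⟩
  have ha' : Commute (f * g) D.a := (comm_a D hfK).mul_left ha
  have hbc' : Commute (f * g) (D.b * D.c) := (hfb.mul_right hfc).mul_left hbc
  obtain ⟨i, j, k, hijk⟩ := PermFacts4.commute_sa_sbc (D.cv.sgn hfz)
    (by rw [← D.pa]; exact p_comm D hfz D.az ha') (by
      have := p_comm D hfz hbcz hbc'
      rw [D.cv.mul D.bz D.cz, D.pb, D.pc] at this
      exact this)
  exact D.mem_A_or_of_p hfz hijk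

end Cfsg.Agent.SporRec.TwoNine.NineF
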