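import Cfsg.Agent.SporRec.TwoNine.NineX

/-!
# Degree nine, the core of order 243: the conjugates of `A` and `X`
-/

set_option autoImplicit false

namespace Cfsg.Agent.SporRec.TwoNine.NineU

open Equiv Equiv.Perm Subgroup Cfsg
open Cfsg.Agent.Lib
open Cfsg.Agent.SporRec.TwoNine.Cv Cfsg.Agent.SporRec.TwoNine.Perms
  Cfsg.Agent.SporRec.TwoNine.PermFacts Cfsg.Agent.SporRec.TwoNine.PermFacts2
  Cfsg.Agent.SporRec.TwoNine.PermFacts3 Cfsg.Agent.SporRec.TwoNine.Basic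
  Cfsg.Agent.SporRec.TwoNine.Lifts Cfsg.Agent.SporRec.TwoNine.Lifts.Data
  Cfsg.Agent.SporRec.TwoNine.Fuse Cfsg.Agent.SporRec.TwoNine.KCore
  Cfsg.Agent.SporRec.TwoNine.NineF Cfsg.Agent.SporRec.TwoNine.NineX

variable {G : Type*} [Group G]

/-- the conjugate subgroup -/
def cj (H : Subgroup G) (y : G) : Subgroup G := H.map (MulAut.conj y).toMonoidHom

theorem mem_cj {H : Subgroup G} {y w : G} : w ∈ cj H y ↔ y⁻¹ * w * y ∈ H := by
  rw [cj, mem_map]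
  constructor
  · rintro ⟨v, hv, rfl⟩
    have : y⁻¹ * ((MulAut.conj y).toMonoidHom v) * y = v := by
      change y⁻¹ * (y * v * y⁻¹) * y = v
      group
    rw [this]; exact hv
  · intro h
    refine ⟨_, h, ?_⟩
    change y * (y⁻¹ * w * y) * y⁻¹ = w
    group

theorem card_cj (H : Subgroup G) (y : G) : Nat.card (cj H y) = Nat.card H :=
  (Nat.card_congr (H.equivMapOfInjective (MulAut.conj y).toMonoidHom
    (MulAut.conj y).injective).toEquiv).symm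

/-- a way to compare cardinalities -/
theorem card_eq_of_conj {H L : Subgroup G} (y : G) (h1 : ∀ w ∈ H, y * w * y⁻¹ ∈ L)
    (h2 : ∀ w ∈ L, y⁻¹ * w * y ∈ H) : Nat.card H = Nat.card L := by
  refine Nat.card_congr ⟨fun w => ⟨_, h1 w w.2⟩, fun w => ⟨_, h2 w w.2⟩, ?_, ?_⟩
  · rintro ⟨w, hw⟩
    exact Subtype.ext (by change y⁻¹ * (y * w * y⁻¹) * y = w; group)
  · rintro ⟨w, hw⟩
    exact Subtype.ext (by change y * (y⁻¹ * w * y) * y⁻¹ = w; group)

theorem conj_comm {y w t : G} (h : Commute w t) : Commute (y⁻¹ * w * y) (y⁻¹ * t * y) := by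
  have h1 : Commute (y⁻¹ * w * (y⁻¹)⁻¹) (y⁻¹ * t * (y⁻¹)⁻¹) := SemiconjBy.conj_iff.2 h
  rwa [inv_inv] at h1

theorem orderOf_conj' (y w : G) : orderOf (y⁻¹ * w * y) = orderOf w := by
  have h : SemiconjBy y (y⁻¹ * w * y) w := by
    change y * (y⁻¹ * w * y) = w * y
    group
  exact h.orderOf_eq y

variable (D : Data G 0)

theorem card_zpowers_r : Nat.card (zpowers D.r) = 3 := by
  have hf3 : Fact (Nat.Prime 3) := ⟨by norm_num⟩
  rw [Nat.card_zpowers]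
  exact orderOf_eq_prime D.r3 D.r_ne_one

/-- the elements of `X` commuting with `u` -/
theorem card_X_u [Finite G] (hK : Nat.card (K D) = 243) :
    Nat.card (X D ⊓ centralizer {D.u} : Subgroup G) = 9 := by
  have hXc : ∀ x ∈ X D, ∀ y ∈ X D, Commute x y := fun x hx y hy => X_comm D hK hx hy
  have hXz' : ∀ x ∈ X D, D.z * x * D.z⁻¹ ∈ X D := fun x hx => X_conj D (norm_z D) hx
  have hXu' : ∀ x ∈ X D, D.u * x * D.u⁻¹ ∈ X D := fun x hx => X_conj D (norm_u D) hx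
  have hXg' : ∀ x ∈ X D, D.g * x * D.g⁻¹ ∈ X D := fun x hx => X_conj D (norm_g D) hx
  have conj_zu : ∀ x, D.z * (D.u * x * D.u⁻¹) * D.z⁻¹ = D.u * (D.z * x * D.z⁻¹) * D.u⁻¹ := by
    intro x
    calc D.z * (D.u * x * D.u⁻¹) * D.z⁻¹ = (D.z * D.u) * x * (D.z * D.u)⁻¹ := by group
      _ = (D.u * D.z) * x * (D.u * D.z)⁻¹ := by rw [D.uz.eq]
      _ = _ := by group
  have conj_zg : ∀ x, D.z * (D.g * x * D.g⁻¹) * D.z⁻¹ = D.g * (D.z * x * D.z⁻¹) * D.g⁻¹ := by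
    intro x
    calc D.z * (D.g * x * D.g⁻¹) * D.z⁻¹ = (D.z * D.g) * x * (D.z * D.g)⁻¹ := by group
      _ = (D.g * D.z) * x * (D.g * D.z)⁻¹ := by rw [D.gz.eq]
      _ = _ := by group
  -- the subgroup inverted by `z`
  let Y : Subgroup G :=
    { carrier := {x | x ∈ X D ∧ D.z * x * D.z⁻¹ = x⁻¹}
      one_mem' := ⟨one_mem _, by group⟩
      mul_mem' := by
        rintro x y ⟨hx, hx'⟩ ⟨hy, hy'⟩
        refine ⟨mul_mem hx hy, ?_⟩
        calc D.z * (x * y) * D.z⁻¹ = (D.z * x * D.z⁻¹) * (D.z * y * D.z⁻¹) := by group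
          _ = (x * y)⁻¹ := by rw [hx', hy', (hXc x hx y hy).inv_inv.eq, mul_inv_rev]
      inv_mem' := by
        rintro x ⟨hx, hx'⟩
        refine ⟨inv_mem hx, ?_⟩
        calc D.z * x⁻¹ * D.z⁻¹ = (D.z * x * D.z⁻¹)⁻¹ := by group
          _ = (x⁻¹)⁻¹ := by rw [hx'] }
  have memY : ∀ {x : G}, x ∈ Y ↔ x ∈ X D ∧ D.z * x * D.z⁻¹ = x⁻¹ := Iff.rfl
  have hYX : Y ≤ X D := fun x hx => (memY.1 hx).1
  have hYc : Nat.card Y = 9 := (card_X D hK).2
  have hYo : Odd (Nat.card Y) := by rw [hYc]; decide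
  have hYu : ∀ x ∈ Y, D.u * x * D.u⁻¹ ∈ Y := by
    intro x hx
    obtain ⟨h1, h2⟩ := memY.1 hx
    refine memY.2 ⟨hXu' x h1, ?_⟩
    rw [conj_zu, h2]; group
  have hYg : ∀ x ∈ Y, D.g * x * D.g⁻¹ ∈ Y := by
    intro x hx
    obtain ⟨h1, h2⟩ := memY.1 hx
    refine memY.2 ⟨hXg' x h1, ?_⟩
    rw [conj_zg, h2]; group
  have h1 := Count2.card_inv Y hYo D.uu hYu
  have h2 : Nat.card {x : G | x ∈ Y ∧ D.u * x * D.u⁻¹ = x⁻¹} =
      Nat.card (Y ⊓ centralizer {D.u} : Subgroup G) := by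
    -- conjugation by `g` interchanges
    have hgn : D.g ∈ normalizer (Y : Set G) := Gen.mem_normalizer_of_conj hYg
    have huz : ∀ x ∈ Y, (D.u * x * D.u⁻¹ = x⁻¹ ↔ Commute x (D.u * D.z)) := by
      intro x hx
      obtain ⟨h3, h4⟩ := memY.1 hx
      have h5 : D.u * D.z * x * (D.u * D.z)⁻¹ = D.u * x⁻¹ * D.u⁻¹ := by
        rw [← h4]; group
      constructor
      · intro h
        refine (mul_inv_eq_iff_eq_mul.1 ?_ : D.u * D.z * x = x * (D.u * D.z)).symm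
        rw [h5]
        calc D.u * x⁻¹ * D.u⁻¹ = (D.u * x * D.u⁻¹)⁻¹ := by group
          _ = x := by rw [h, inv_inv]
      · intro h
        have h6 : D.u * D.z * x * (D.u * D.z)⁻¹ = x := by
          rw [← h.eq, mul_inv_cancel_right]
        rw [h5] at h6
        calc D.u * x * D.u⁻¹ = (D.u * x⁻¹ * D.u⁻¹)⁻¹ := by group
          _ = x⁻¹ := by rw [h6]
    have hg1 : D.g * D.u * D.g⁻¹ = D.u * D.z := D.g_u
    have p1 : ∀ w ∈ (Y ⊓ centralizer {D.u} : Subgroup G), D.g * w * D.g⁻¹ ∈ Y ∧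
        D.u * (D.g * w * D.g⁻¹) * D.u⁻¹ = (D.g * w * D.g⁻¹)⁻¹ := by
      intro w hw
      obtain ⟨hw1, hw2⟩ := mem_inf.1 hw
      refine ⟨hYg w hw1, ?_⟩
      rw [huz _ (hYg w hw1), ← hg1]
      exact SemiconjBy.conj_iff.2 (mem_centralizer_singleton_iff.1 hw2)
    have p2 : ∀ w, w ∈ Y ∧ D.u * w * D.u⁻¹ = w⁻¹ →
        D.g⁻¹ * w * D.g ∈ (Y ⊓ centralizer {D.u} : Subgroup G) := by
      rintro w ⟨hw1, hw2⟩
      refine mem_inf.2 ⟨(mem_normalizer_iff''.1 hgn _).1 hw1, ?_⟩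
      rw [mem_centralizer_singleton_iff]
      have h3 := conj_comm (y := D.g) ((huz _ hw1).1 hw2)
      have h4 : D.g⁻¹ * (D.u * D.z) * D.g = D.u := by rw [← hg1]; group
      rwa [h4] at h3
    refine (Nat.card_congr ⟨fun w => ⟨_, p1 w w.2⟩, fun w => ⟨_, p2 w w.2⟩, ?_, ?_⟩).symm
    · rintro ⟨w, hw⟩
      exact Subtype.ext (by change D.g⁻¹ * (D.g * w * D.g⁻¹) * D.g = w; group)
    · rintro ⟨w, hw⟩
      exact Subtype.ext (by change D.g * (D.g⁻¹ * w * D.g) * D.g⁻¹ = w; group)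
  rw [h2, hYc] at h1
  have h3 : Nat.card (Y ⊓ centralizer {D.u} : Subgroup G) = 3 := by nlinarith
  -- the centraliser of `u` in `X`
  have hLX : X D ⊓ centralizer {D.u} ≤ X D := inf_le_left
  have h4 := Count2.card_inv (X D ⊓ centralizer {D.u})
    (Odd.of_dvd_nat (Gen.odd_card_oc (CA D)) (card_dvd_of_le hLX)) D.zz (by
      intro x hx
      obtain ⟨h5, h6⟩ := mem_inf.1 hx
      rw [mem_centralizer_singleton_iff] at h6
      exact mem_inf.2 ⟨hXz' x h5, mem_centralizer_singleton_iff.2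
        ((D.uz.symm.mul_left h6).mul_left D.uz.symm.inv_left)⟩)
  have h5 : X D ⊓ centralizer {D.u} ⊓ centralizer {D.z} = zpowers D.r := by
    apply le_antisymm
    · intro x hx
      obtain ⟨h6, h7⟩ := mem_inf.1 hx
      obtain ⟨h8, h9⟩ := mem_inf.1 h6
      rw [mem_centralizer_singleton_iff] at h7 h9
      obtain ⟨i, rfl⟩ := D.eq_pow_r_of_mem_A (X_cent_z D hK h8 h7) h9
      exact pow_mem (mem_zpowers _) _
    · rw [zpowers_le]
      exact mem_inf.2 ⟨mem_inf.2 ⟨A_le_X D D.rA, mem_centralizer_singleton_iff.2 D.ru⟩,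
        mem_centralizer_singleton_iff.2 D.rz⟩
  have h6 : Nat.card {x : G | x ∈ X D ⊓ centralizer {D.u} ∧ D.z * x * D.z⁻¹ = x⁻¹} = 3 := by
    rw [← h3]
    have e : {x : G | x ∈ X D ⊓ centralizer {D.u} ∧ D.z * x * D.z⁻¹ = x⁻¹} =
        ((Y ⊓ centralizer {D.u} : Subgroup G) : Set G) := by
      ext x
      constructor
      · rintro ⟨hx, hx'⟩
        obtain ⟨h7, h8⟩ := mem_inf.1 hx
        exact mem_inf.2 ⟨memY.2 ⟨h7, hx'⟩, h8⟩
      · intro hx
        obtain ⟨h7, h8⟩ := mem_inf.1 hx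
        obtain ⟨h9, h10⟩ := memY.1 h7
        exact ⟨mem_inf.2 ⟨h9, h8⟩, h10⟩
    rw [e]
    rfl
  rw [h4, h5, card_zpowers_r, h6]

/-- elements of odd order commuting with `z` and `r` -/
theorem mem_A_of_r {y : G} (hz : Commute y D.z) (hr : Commute y D.r) (ho : Odd (orderOf y)) :
    y ∈ D.A := by
  have h1 : Commute (D.p y) (sa 0 * sb 0) := by
    rw [← D.pr]; exact p_comm D hz D.rz hr
  obtain ⟨i, j, k, h2⟩ := PermFacts4.sq_of_commute (D.cv.sgn hz) h1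
  rw [← D.cv.pow hz] at h2
  have h3 := mem_A_of_odd D (D.mem_A_or_of_p (hz.pow_left 2) h2) (hz.pow_left 2)
    (ho.of_dvd_nat (orderOf_pow_dvd 2))
  obtain ⟨l, hl⟩ := Gen.exists_sqrt ho
  rw [← hl, ← (Commute.refl y).mul_pow, ← pow_two]
  exact pow_mem h3 l

/-- the elements commuting with `z`, `u` and `r` -/
def S : Subgroup G := centralizer {D.z, D.u, D.r}

theorem mem_S {y : G} : y ∈ S D ↔ Commute y D.z ∧ Commute y D.u ∧ Commute y D.r := by
  rw [S, mem_centralizer_iff]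
  constructor
  · intro h
    exact ⟨(h D.z (by simp)).symm, (h D.u (by simp)).symm, (h D.r (by simp)).symm⟩
  · rintro ⟨h1, h2, h3⟩ t (rfl | rfl | rfl)
    · exact h1.eq.symm
    · exact h2.eq.symm
    · exact h3.eq.symm

theorem zS : D.z ∈ S D := (mem_S D).2 ⟨Commute.refl _, D.uz.symm, D.rz.symm⟩

theorem uS : D.u ∈ S D := (mem_S D).2 ⟨D.uz, Commute.refl _, D.ru.symm⟩

theorem S_norm_A [Finite G] {n : G} (hn : n ∈ S D) : ∀ w ∈ D.A, n * w * n⁻¹ ∈ D.A := by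
  obtain ⟨h1, h2, h3⟩ := (mem_S D).1 hn
  obtain ⟨i, -, j, -, k, -, e⟩ := Vx.commute_zur D h1 h2 h3
  have hr : D.r ∈ normalizer (D.A : Set G) := le_normalizer D.rA
  have hu : D.u ∈ normalizer (D.A : Set G) := Gen.mem_normalizer_of_conj (norm_u D)
  have hz : D.z ∈ normalizer (D.A : Set G) := Gen.mem_normalizer_of_conj (norm_z D)
  have hn : n ∈ normalizer (D.A : Set G) := by
    rw [e]; exact mul_mem (mul_mem (pow_mem hr _) (pow_mem hu _)) (pow_mem hz _)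
  intro w hw
  exact (mem_normalizer_iff.1 hn w).1 hw

theorem S_norm_X [Finite G] {n : G} (hn : n ∈ S D) : ∀ w ∈ X D, n * w * n⁻¹ ∈ X D :=
  fun _ hw => X_conj D (S_norm_A D hn) hw

section x

variable {x : G} (x1 : x * D.z * x⁻¹ = D.u) (x2 : x * D.u * x⁻¹ = D.u * D.z)
  (xr : Commute x D.r)

include x1 in
theorem xi_u : x⁻¹ * D.u * x = D.z := by rw [← x1]; group

include x2 in
theorem xi_uz : x⁻¹ * (D.u * D.z) * x = D.u := by rw [← x2]; group

include x1 x2 in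
theorem xi_z : x⁻¹ * D.z * x = D.u * D.z := by
  have h := FuseX.x3' D x1 x2
  calc x⁻¹ * D.z * x = x⁻¹ * (x * (D.u * D.z) * x⁻¹) * x := by rw [h]
    _ = D.u * D.z := by group

end x

end Cfsg.Agent.SporRec.TwoNine.NineU
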