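import Cfsg.Agent.SporRec.TwoNine.NineU

/-!
# Degree nine, the core of order 243: the final contradiction
-/

set_option autoImplicit false
set_option linter.unusedSectionVars false

namespace Cfsg.Agent.SporRec.TwoNine.NineV

open Equiv Equiv.Perm Subgroup Cfsg
open Cfsg.Agent.Lib
open Cfsg.Agent.SporRec.TwoNine.Cv Cfsg.Agent.SporRec.TwoNine.Perms
  Cfsg.Agent.SporRec.TwoNine.Lifts Cfsg.Agent.SporRec.TwoNine.Lifts.Data
  Cfsg.Agent.SporRec.TwoNine.Fuse Cfsg.Agent.SporRec.TwoNine.KCore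
  Cfsg.Agent.SporRec.TwoNine.NineF Cfsg.Agent.SporRec.TwoNine.NineX
  Cfsg.Agent.SporRec.TwoNine.NineU

variable {G : Type*} [Group G]

theorem card_le_of_conj [Finite G] {H L : Subgroup G} (y : G) (h1 : ∀ w ∈ H, y * w * y⁻¹ ∈ L) :
    Nat.card H ≤ Nat.card L := by
  refine Nat.card_le_card_of_injective (fun w : H => (⟨_, h1 w w.2⟩ : L)) ?_
  rintro ⟨w, hw⟩ ⟨w', hw'⟩ h
  have h2 : y * w * y⁻¹ = y * w' * y⁻¹ := congrArg Subtype.val h
  exact Subtype.ext (mul_left_cancel (mul_right_cancel h2))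

variable (D : Data G 0)

theorem rS : D.r ∈ S D := (mem_S D).2 ⟨D.rz, D.ru, Commute.refl _⟩

section x

variable {x : G} (x1 : x * D.z * x⁻¹ = D.u) (x2 : x * D.u * x⁻¹ = D.u * D.z)
  (xr : Commute x D.r)

include xr in
theorem xi_r : x⁻¹ * D.r * x = D.r := by
  rw [mul_assoc, ← xr.eq, inv_mul_cancel_left]

include x1 x2 xr in
theorem S_conj {n : G} (hn : n ∈ S D) : x⁻¹ * n * x ∈ S D := by
  obtain ⟨h1, h2, h3⟩ := (mem_S D).1 hn
  refine (mem_S D).2 ⟨?_, ?_, ?_⟩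
  · have := conj_comm (y := x) h2
    rwa [xi_u D x1] at this
  · have := conj_comm (y := x) (h2.mul_right h1)
    rwa [xi_uz D x2] at this
  · have := conj_comm (y := x) h3
    rwa [xi_r D xr] at this

include x1 x2 xr in
theorem S_conj2 {n : G} (hn : n ∈ S D) : (x * x)⁻¹ * n * (x * x) ∈ S D := by
  have h := S_conj D x1 x2 xr (S_conj D x1 x2 xr hn)
  have e : (x * x)⁻¹ * n * (x * x) = x⁻¹ * (x⁻¹ * n * x) * x := by group
  rwa [e]

include x1 x2 xr in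
theorem cube_S : x * x * x ∈ S D := by
  have x3 := FuseX.x3' D x1 x2
  refine (mem_S D).2 ⟨?_, ?_, (xr.mul_left xr).mul_left xr⟩
  · refine mul_inv_eq_iff_eq_mul.1 ?_
    have e : x * x * x * D.z * (x * x * x)⁻¹ = x * (x * (x * D.z * x⁻¹) * x⁻¹) * x⁻¹ := by group
    rw [e, x1, x2, x3]
  · refine mul_inv_eq_iff_eq_mul.1 ?_
    have e : x * x * x * D.u * (x * x * x)⁻¹ = x * (x * (x * D.u * x⁻¹) * x⁻¹) * x⁻¹ := by group
    rw [e, x2, x3, x1]

include x1 x2 xr in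
theorem gx_S : D.g * x * D.g⁻¹ * x ∈ S D := by
  obtain ⟨i, -, j, -, k, -, e⟩ := Vx.g_x D x1 x2 xr
  rw [e, inv_mul_cancel_right]
  exact mul_mem (mul_mem (pow_mem (rS D) _) (pow_mem (uS D) _)) (pow_mem (zS D) _)

section H

variable {H : Subgroup G} (hS : ∀ n ∈ S D, ∀ w ∈ H, n * w * n⁻¹ ∈ H)
  (hg : ∀ w ∈ H, D.g * w * D.g⁻¹ ∈ H)

include x1 x2 xr hS in
/-- `S` normalises the conjugates -/
theorem S_cj {n : G} (hn : n ∈ S D) {w : G} (hw : w ∈ cj H x) : n * w * n⁻¹ ∈ cj H x := by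
  rw [mem_cj] at hw ⊢
  have e : x⁻¹ * (n * w * n⁻¹) * x = x⁻¹ * n * x * (x⁻¹ * w * x) * (x⁻¹ * n * x)⁻¹ := by group
  rw [e]
  exact hS _ (S_conj D x1 x2 xr hn) _ hw

include x1 x2 xr hS hg in
theorem g_cj {w : G} (hw : w ∈ cj H x) : D.g * w * D.g⁻¹ ∈ cj H (x * x) := by
  rw [mem_cj] at hw ⊢
  set s := ((x * x)⁻¹ * (D.g * x * D.g⁻¹ * x) * (x * x)) * (x * x * x)⁻¹ with hs
  have hsS : s ∈ S D := mul_mem (S_conj2 D x1 x2 xr (gx_S D x1 x2 xr))
    (inv_mem (cube_S D x1 x2 xr))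
  have e : (x * x)⁻¹ * (D.g * w * D.g⁻¹) * (x * x) = s * (D.g * (x⁻¹ * w * x) * D.g⁻¹) * s⁻¹ := by
    rw [hs]; simp only [mul_assoc, mul_inv_rev, inv_inv, inv_mul_cancel_left, mul_inv_cancel_left]
  rw [e]
  exact hS _ hsS _ (hg _ hw)

include x1 x2 xr hS hg in
theorem g_cj2 {w : G} (hw : w ∈ cj H (x * x)) : D.g * w * D.g⁻¹ ∈ cj H x := by
  rw [mem_cj] at hw ⊢
  set s := (x⁻¹ * (D.g * x * D.g⁻¹ * x) * x) * ((x * x)⁻¹ * (D.g * x * D.g⁻¹ * x) * (x * x)) *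
    (x * x * x)⁻¹ with hs
  have hsS : s ∈ S D := mul_mem (mul_mem (S_conj D x1 x2 xr (gx_S D x1 x2 xr))
    (S_conj2 D x1 x2 xr (gx_S D x1 x2 xr))) (inv_mem (cube_S D x1 x2 xr))
  have e : x⁻¹ * (D.g * w * D.g⁻¹) * x =
      s * (D.g * ((x * x)⁻¹ * w * (x * x)) * D.g⁻¹) * s⁻¹ := by
    rw [hs]; group
  rw [e]
  exact hS _ hsS _ (hg _ hw)

include x1 x2 xr hS in
/-- conjugation by `x` maps the third conjugate to the first -/
theorem x_cj2 {w : G} (hw : w ∈ cj H (x * x)) : x * w * x⁻¹ ∈ H := by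
  rw [mem_cj] at hw
  have e : x * w * x⁻¹ = (x * x * x) * ((x * x)⁻¹ * w * (x * x)) * (x * x * x)⁻¹ := by group
  rw [e]
  exact hS _ (cube_S D x1 x2 xr) _ hw

include x1 x2 xr hS in
theorem xi_cj {w : G} (hw : w ∈ H) : x⁻¹ * w * x ∈ cj H (x * x) := by
  rw [mem_cj]
  have e : (x * x)⁻¹ * (x⁻¹ * w * x) * (x * x) = (x * x * x)⁻¹ * w * ((x * x * x)⁻¹)⁻¹ := by
    simp only [mul_assoc, mul_inv_rev, inv_inv]
  rw [e]
  exact hS _ (inv_mem (cube_S D x1 x2 xr)) _ hw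

end H

variable [Finite G] (hK : Nat.card (K D) = 243)

include x1 in
theorem cjA_u {w : G} (hw : w ∈ cj D.A x) : Commute w D.u := by
  rw [mem_cj] at hw
  have h1 : Commute (x * (x⁻¹ * w * x) * x⁻¹) (x * D.z * x⁻¹) :=
    SemiconjBy.conj_iff.2 (D.commute_z_of_mem_A hw)
  have e : x * (x⁻¹ * w * x) * x⁻¹ = w := by group
  rwa [e, x1] at h1

include x1 x2 in
theorem cjA_uz {w : G} (hw : w ∈ cj D.A (x * x)) : Commute w (D.u * D.z) := by
  rw [mem_cj] at hw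
  have h1 : Commute ((x * x) * ((x * x)⁻¹ * w * (x * x)) * (x * x)⁻¹) ((x * x) * D.z * (x * x)⁻¹) :=
    SemiconjBy.conj_iff.2 (D.commute_z_of_mem_A hw)
  have e : (x * x) * ((x * x)⁻¹ * w * (x * x)) * (x * x)⁻¹ = w := by group
  have e2 : (x * x) * D.z * (x * x)⁻¹ = D.u * D.z := by
    calc (x * x) * D.z * (x * x)⁻¹ = x * (x * D.z * x⁻¹) * x⁻¹ := by group
      _ = D.u * D.z := by rw [x1, x2]
  rwa [e, e2] at h1

include x1 xr in
theorem mem_cjA_of {w : G} (hu : Commute w D.u) (hr : Commute w D.r) (ho : Odd (orderOf w)) :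
    w ∈ cj D.A x := by
  rw [mem_cj]
  refine mem_A_of_r D ?_ ?_ (by rw [orderOf_conj']; exact ho)
  · have := conj_comm (y := x) hu
    rwa [xi_u D x1] at this
  · have := conj_comm (y := x) hr
    rwa [xi_r D xr] at this

include x1 x2 xr in
theorem mem_cjA2_of {w : G} (hu : Commute w (D.u * D.z)) (hr : Commute w D.r)
    (ho : Odd (orderOf w)) : w ∈ cj D.A (x * x) := by
  rw [mem_cj]
  have e : (x * x)⁻¹ * w * (x * x) = x⁻¹ * (x⁻¹ * w * x) * x := by group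
  rw [e]
  refine mem_A_of_r D ?_ ?_ (by rw [orderOf_conj', orderOf_conj']; exact ho)
  · have := conj_comm (y := x) hu
    rw [xi_uz D x2] at this
    have := conj_comm (y := x) this
    rwa [xi_u D x1] at this
  · have := conj_comm (y := x) hr
    rw [xi_r D xr] at this
    have := conj_comm (y := x) this
    rwa [xi_r D xr] at this

theorem X_r {w : G} (hw : w ∈ X D) : Commute w D.r := commute_A D (X_le_CA D hw) D.rA

include x1 xr hK in
theorem card_XA2 : Nat.card (X D ⊓ cj D.A x : Subgroup G) = 9 := by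
  rw [← card_X_u D hK]
  congr 2
  apply le_antisymm
  · intro w hw
    obtain ⟨h1, h2⟩ := mem_inf.1 hw
    exact mem_inf.2 ⟨h1, mem_centralizer_singleton_iff.2 (cjA_u D x1 h2)⟩
  · intro w hw
    obtain ⟨h1, h2⟩ := mem_inf.1 hw
    exact mem_inf.2 ⟨h1, mem_cjA_of D x1 xr (mem_centralizer_singleton_iff.1 h2) (X_r D h1)
      (odd_X D h1)⟩

theorem gA : ∀ w ∈ D.A, D.g * w * D.g⁻¹ ∈ D.A := norm_g D

theorem gX : ∀ w ∈ X D, D.g * w * D.g⁻¹ ∈ X D := fun _ hw => X_conj D (norm_g D) hw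

theorem SA : ∀ n ∈ S D, ∀ w ∈ D.A, n * w * n⁻¹ ∈ D.A := fun _ hn => S_norm_A D hn

theorem SX : ∀ n ∈ S D, ∀ w ∈ X D, n * w * n⁻¹ ∈ X D := fun _ hn => S_norm_X D hn

include x1 x2 xr hK in
theorem card_XA3 : Nat.card (X D ⊓ cj D.A (x * x) : Subgroup G) = 9 := by
  apply le_antisymm
  · rw [← card_XA2 D x1 xr hK]
    refine card_le_of_conj D.g ?_
    intro w hw
    obtain ⟨h1, h2⟩ := mem_inf.1 hw
    exact mem_inf.2 ⟨gX D w h1, g_cj2 D x1 x2 xr (SA D) (gA D) h2⟩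
  · rw [← card_XA2 D x1 xr hK]
    refine card_le_of_conj D.g ?_
    intro w hw
    obtain ⟨h1, h2⟩ := mem_inf.1 hw
    exact mem_inf.2 ⟨gX D w h1, g_cj D x1 x2 xr (SA D) (gA D) h2⟩

include x1 x2 xr hK in
theorem card_P : Nat.card (D.A ⊓ cj (X D) x : Subgroup G) = 9 := by
  rw [← card_XA3 D x1 x2 xr hK]
  refine (card_eq_of_conj x ?_ ?_).symm
  · intro w hw
    obtain ⟨h1, h2⟩ := mem_inf.1 hw
    refine mem_inf.2 ⟨x_cj2 D x1 x2 xr (SA D) h2, mem_cj.2 ?_⟩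
    have e : x⁻¹ * (x * w * x⁻¹) * x = w := by group
    rw [e]; exact h1
  · intro w hw
    obtain ⟨h1, h2⟩ := mem_inf.1 hw
    exact mem_inf.2 ⟨mem_cj.1 h2, xi_cj D x1 x2 xr (SA D) h1⟩

theorem r_mem_P (xr : Commute x D.r) : D.r ∈ (D.A ⊓ cj (X D) x : Subgroup G) :=
  mem_inf.2 ⟨D.rA, mem_cj.2 (by rw [xi_r D xr]; exact A_le_X D D.rA)⟩

include hK in
theorem cjX_comm {w v : G} (hw : w ∈ cj (X D) x) (hv : v ∈ cj (X D) x) : Commute w v := by
  have h := X_comm D hK (mem_cj.1 hw) (mem_cj.1 hv)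
  have h1 : Commute (x * (x⁻¹ * w * x) * x⁻¹) (x * (x⁻¹ * v * x) * x⁻¹) := SemiconjBy.conj_iff.2 h
  have e : ∀ w : G, x * (x⁻¹ * w * x) * x⁻¹ = w := fun w => by group
  rwa [e, e] at h1

include x1 xr hK in
/-- the second conjugate of `X` does not centralise `A` -/
theorem not_le (h : ∀ w ∈ cj (X D) x, w ∈ CA D) : False := by
  have h1 : cj D.A x ≤ X D := by
    intro w hw
    have h2 : w ∈ cj (X D) x := mem_cj.2 (A_le_X D (mem_cj.1 hw))
    refine mem_X_of_odd D hK (h w h2) ?_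
    rw [← orderOf_conj' x w]
    exact odd_of_mem_A D (mem_cj.1 hw)
  have h2 := card_XA2 D x1 xr hK
  rw [inf_eq_right.2 h1, card_cj, D.card_A] at h2
  norm_num at h2

include x1 xr hK in
theorem c_not_mem : D.c ∉ (D.A ⊓ cj (X D) x : Subgroup G) := by
  intro h
  obtain ⟨-, h1⟩ := mem_inf.1 h
  refine not_le D x1 xr hK fun w hw => ?_
  exact mem_CA_of_cr D hK (cjX_comm D hK hw h1) (cjX_comm D hK hw (mem_inf.1 (r_mem_P D xr)).2)

include x1 xr hK in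
theorem a_not_mem : D.a ∉ (D.A ⊓ cj (X D) x : Subgroup G) := by
  intro h
  obtain ⟨-, h1⟩ := mem_inf.1 h
  refine not_le D x1 xr hK fun w hw => ?_
  have h2 := cjX_comm D hK hw h1
  have h3 := cjX_comm D hK hw (mem_inf.1 (r_mem_P D xr)).2
  refine mem_CA_of_ab D hK h2 ?_
  have h4 := h2.inv_right.mul_right h3
  have e : D.a⁻¹ * D.r = D.b := by rw [Data.r, inv_mul_cancel_left]
  rwa [e] at h4

include x1 x2 xr hK in
/-- the plane `P` -/
theorem exists_e : ∃ e, (e = 1 ∨ e = 2) ∧ D.a * D.c ^ e ∈ (D.A ⊓ cj (X D) x : Subgroup G) := by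
  set P : Subgroup G := D.A ⊓ cj (X D) x with hP
  have hr : D.r ∈ P := r_mem_P D xr
  have hcard : Nat.card P = 9 := card_P D x1 x2 xr hK
  obtain ⟨t, ht, htr⟩ : ∃ t ∈ P, t ∉ zpowers D.r := by
    by_contra hno
    push Not at hno
    have h1 := card_le_of_le (show P ≤ zpowers D.r from hno)
    rw [hcard, card_zpowers_r] at h1
    norm_num at h1
  obtain ⟨i, j, k, hijk⟩ := D.mem_A.1 (mem_inf.1 ht).1
  -- modify by a power of `r`
  have h1 : t * D.r ^ (2 * (j : ℕ)) = D.a ^ ((i : ℕ) + 2 * j) * D.c ^ (k : ℕ) := by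
    have e1 : D.b ^ (j : ℕ) * D.b ^ (2 * (j : ℕ)) = 1 := by
      rw [← pow_add]
      have : (j : ℕ) + 2 * j = 3 * j := by ring
      rw [this, pow_mul, D.b3, one_pow]
    have c1 := (D.comm_ac.pow_pow (2 * (j : ℕ)) (k : ℕ)).eq
    have c2 := (D.comm_bc.pow_pow (2 * (j : ℕ)) (k : ℕ)).eq
    have c3 := (D.comm_ab.pow_pow (2 * (j : ℕ)) (j : ℕ)).eq
    rw [hijk, Data.r, D.comm_ab.mul_pow, pow_add]
    calc D.a ^ (i : ℕ) * D.b ^ (j : ℕ) * D.c ^ (k : ℕ) * (D.a ^ (2 * (j : ℕ)) * D.b ^ (2 * (j : ℕ)))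
        = D.a ^ (i : ℕ) * D.b ^ (j : ℕ) * (D.c ^ (k : ℕ) * D.a ^ (2 * (j : ℕ))) *
            D.b ^ (2 * (j : ℕ)) := by group
      _ = D.a ^ (i : ℕ) * (D.b ^ (j : ℕ) * D.a ^ (2 * (j : ℕ))) *
            (D.c ^ (k : ℕ) * D.b ^ (2 * (j : ℕ))) := by rw [← c1]; group
      _ = D.a ^ (i : ℕ) * D.a ^ (2 * (j : ℕ)) * (D.b ^ (j : ℕ) * D.b ^ (2 * (j : ℕ))) *
            D.c ^ (k : ℕ) := by rw [← c2, ← c3]; group
      _ = _ := by rw [e1, mul_one]
  have h2 : D.a ^ ((i : ℕ) + 2 * j) * D.c ^ (k : ℕ) ∈ P := by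
    rw [← h1]; exact mul_mem ht (pow_mem hr _)
  rw [← pow_mod D.a3] at h2
  set s := ((i : ℕ) + 2 * j) % 3 with hs
  have hs3 : s < 3 := Nat.mod_lt _ (by omega)
  have hk3 := k.2
  -- exclusion of the degenerate cases
  have hs0 : s ≠ 0 := by
    intro h0
    rw [h0, pow_zero, one_mul] at h2
    have hk : (k : ℕ) ≠ 0 := by
      intro hk0
      apply htr
      have h3 : t * D.r ^ (2 * (j : ℕ)) = 1 := by
        rw [h1, hk0, ← pow_mod D.a3, ← hs, h0]; simp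
      rw [eq_inv_of_mul_eq_one_left h3]
      exact inv_mem (pow_mem (mem_zpowers _) _)
    apply c_not_mem D x1 xr hK
    have h3 : (k : ℕ) = 1 ∨ (k : ℕ) = 2 := by omega
    rcases h3 with h3 | h3
    · rw [h3, pow_one] at h2; exact h2
    · rw [h3] at h2
      have h4 := pow_mem h2 2
      rw [← pow_mul] at h4
      have h5 : D.c ^ (2 * 2) = D.c := by
        rw [pow_succ, D.c3, one_mul]
      rwa [h5] at h4
  have hk0 : (k : ℕ) ≠ 0 := by
    intro hk0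
    rw [hk0, pow_zero, mul_one] at h2
    apply a_not_mem D x1 xr hK
    have h3 : s = 1 ∨ s = 2 := by omega
    rcases h3 with h3 | h3
    · rw [h3, pow_one] at h2; exact h2
    · rw [h3] at h2
      have h4 := pow_mem h2 2
      rw [← pow_mul] at h4
      have h5 : D.a ^ (2 * 2) = D.a := by
        rw [pow_succ, D.a3, one_mul]
      rwa [h5] at h4
  have hs12 : s = 1 ∨ s = 2 := by omega
  have hk12 : (k : ℕ) = 1 ∨ (k : ℕ) = 2 := by omega
  have h3 := pow_mem h2 s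
  rw [(D.comm_ac.pow_pow _ _).mul_pow, ← pow_mul, ← pow_mul, ← pow_mod D.a3, ← pow_mod D.c3] at h3
  have h4 : s * s % 3 = 1 := by rcases hs12 with h | h <;> simp [h]
  rw [h4, pow_one] at h3
  refine ⟨(k : ℕ) * s % 3, ?_, h3⟩
  rcases hs12 with h | h <;> rcases hk12 with h' | h' <;> simp [h, h']

theorem c_mem_of {P : Subgroup G} {e : ℕ} (he : e = 1 ∨ e = 2) (h1 : D.a * D.c ^ e ∈ P)
    (h2 : D.a⁻¹ * D.c ^ e ∈ P) : D.c ∈ P := by
  have h3 := mul_mem h1 h2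
  have e1 : D.a * D.c ^ e * (D.a⁻¹ * D.c ^ e) = D.c ^ (e + e) := by
    have c1 := (D.comm_ac.inv_left.pow_right e).eq
    calc D.a * D.c ^ e * (D.a⁻¹ * D.c ^ e) = D.a * (D.c ^ e * D.a⁻¹) * D.c ^ e := by group
      _ = D.c ^ (e + e) := by rw [← c1, pow_add]; group
  rw [e1] at h3
  rcases he with rfl | rfl
  · have h4 := pow_mem h3 2
    rw [← pow_mul] at h4
    have h5 : D.c ^ ((1 + 1) * 2) = D.c := by
      have : (1 + 1) * 2 = 3 + 1 := rfl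
      rw [this, pow_succ, D.c3, one_mul]
    rwa [h5] at h4
  · have h5 : D.c ^ (2 + 2) = D.c := by
      have : 2 + 2 = 3 + 1 := rfl
      rw [this, pow_succ, D.c3, one_mul]
    rwa [h5] at h3

include x1 x2 xr hK in
theorem not_mem3 {e : ℕ} (he : e = 1 ∨ e = 2) (hP : D.a * D.c ^ e ∈ (D.A ⊓ cj (X D) x : Subgroup G)) :
    D.a * D.c ^ e ∉ cj (X D) (x * x) := by
  intro h
  apply c_not_mem D x1 xr hK
  refine c_mem_of D he hP ?_
  have h1 := g_cj2 D x1 x2 xr (SX D) (gX D) h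
  have e1 : D.g * (D.a * D.c ^ e) * D.g⁻¹ = D.a⁻¹ * D.c ^ e := by
    calc D.g * (D.a * D.c ^ e) * D.g⁻¹ = (D.g * D.a * D.g⁻¹) * (D.g * D.c ^ e * D.g⁻¹) := by group
      _ = D.a⁻¹ * D.c ^ e := by rw [D.g_a, (D.g_c.pow_right e).eq, mul_inv_cancel_right]
  rw [e1] at h1
  exact mem_inf.2 ⟨mul_mem (inv_mem D.aA) (pow_mem D.cA _), h1⟩

include x1 x2 xr hK in
/-- the intersection of three conjugates -/
theorem card_M : Nat.card (D.A ⊓ cj (X D) x ⊓ cj (X D) (x * x) : Subgroup G) ≤ 3 := by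
  obtain ⟨e, he, hP⟩ := exists_e D x1 x2 xr hK
  set P : Subgroup G := D.A ⊓ cj (X D) x with hPdef
  have hcard : Nat.card P = 9 := card_P D x1 x2 xr hK
  have hle : P ⊓ cj (X D) (x * x) ≤ P := inf_le_left
  have h1 := card_dvd_of_le hle
  rw [hcard] at h1
  have h2 : Nat.card (P ⊓ cj (X D) (x * x) : Subgroup G) ≠ 9 := by
    intro h9
    have h3 : P ⊓ cj (X D) (x * x) = P := Subgroup.eq_of_le_of_card_ge hle (by rw [h9, hcard])
    have h4 : D.a * D.c ^ e ∈ P ⊓ cj (X D) (x * x) := by rw [h3]; exact hP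
    exact not_mem3 D x1 x2 xr hK he hP (mem_inf.1 h4).2
  have h5 : (9 : ℕ) = 3 ^ 2 := by norm_num
  rw [h5] at h1
  obtain ⟨k, hk, hk'⟩ := (Nat.dvd_prime_pow (by norm_num)).1 h1
  interval_cases k <;> omega

end x

end Cfsg.Agent.SporRec.TwoNine.NineV
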