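import Cfsg.Agent.SporRec.TwoNine.NineF

/-!
# Degree nine, the core of order 243: the centraliser of `A`
-/

set_option autoImplicit false

namespace Cfsg.Agent.SporRec.TwoNine.NineX

open Equiv Equiv.Perm Subgroup Cfsg
open Cfsg.Agent.Lib
open Cfsg.Agent.SporRec.TwoNine.Cv Cfsg.Agent.SporRec.TwoNine.Perms
  Cfsg.Agent.SporRec.TwoNine.PermFacts Cfsg.Agent.SporRec.TwoNine.PermFacts2
  Cfsg.Agent.SporRec.TwoNine.PermFacts3 Cfsg.Agent.SporRec.TwoNine.Basic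
  Cfsg.Agent.SporRec.TwoNine.Lifts Cfsg.Agent.SporRec.TwoNine.Lifts.Data
  Cfsg.Agent.SporRec.TwoNine.Fuse Cfsg.Agent.SporRec.TwoNine.KCore
  Cfsg.Agent.SporRec.TwoNine.NineF

variable {G : Type*} [Group G] (D : Data G 0)

/-- the centraliser of `A` -/
def CA : Subgroup G := centralizer {D.a, D.b, D.c}

theorem mem_CA {x : G} : x ∈ CA D ↔ Commute x D.a ∧ Commute x D.b ∧ Commute x D.c := by
  rw [CA, mem_centralizer_iff]
  constructor
  · intro h
    exact ⟨(h D.a (by simp)).symm, (h D.b (by simp)).symm, (h D.c (by simp)).symm⟩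
  · rintro ⟨h1, h2, h3⟩ t (rfl | rfl | rfl)
    · exact h1.eq.symm
    · exact h2.eq.symm
    · exact h3.eq.symm

theorem commute_A {x w : G} (hx : x ∈ CA D) (hw : w ∈ D.A) : Commute x w := by
  obtain ⟨h1, h2, h3⟩ := (mem_CA D).1 hx
  exact D.commute_of_mem_A hw h1 h2 h3

theorem A_le_CA : D.A ≤ CA D := fun _ hx =>
  (mem_CA D).2 ⟨D.A_comm hx D.aA, D.A_comm hx D.bA, D.A_comm hx D.cA⟩

/-- its odd core -/
def X : Subgroup G := Gen.oc (CA D)

theorem X_le_CA : X D ≤ CA D := Gen.oc_le _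

theorem odd_of_mem_A {x : G} (hx : x ∈ D.A) : Odd (orderOf x) :=
  Odd.of_dvd_nat (n := 3) (by decide) (orderOf_dvd_of_pow_eq_one (D.A_cube hx))

theorem A_le_X [Finite G] : D.A ≤ X D := by
  refine Gen.le_oc (A_le_CA D) ?_ (by rw [D.card_A]; decide)
  intro g hg x hx
  rw [(commute_A D hg hx).eq, mul_inv_cancel_right]
  exact hx

theorem F_le_CA : F D ≤ CA D := by
  intro x hx
  obtain ⟨h1, h2, h3⟩ := (mem_F D).1 hx
  exact (mem_CA D).2 ⟨comm_a D h1, h2, h3⟩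

theorem F_le_X [Finite G] : F D ≤ X D := by
  refine Gen.le_oc (F_le_CA D) ?_ (odd_F D)
  intro g hg x hx
  obtain ⟨h1, h2, h3⟩ := (mem_F D).1 hx
  obtain ⟨ga, gb, gc⟩ := (mem_CA D).1 hg
  exact (mem_F D).2 ⟨K_conj' D ga h1, (gb.mul_left h2).mul_left gb.inv_left,
    (gc.mul_left h3).mul_left gc.inv_left⟩

theorem odd_X [Finite G] {x : G} (hx : x ∈ X D) : Odd (orderOf x) :=
  Gen.orderOf_odd_of_mem (Gen.odd_card_oc _) hx

theorem z_not_mem_X [Finite G] : D.z ∉ X D := fun h =>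
  D.z_ne_one (Gen.eq_one_of_odd (odd_X D h) D.zz)

theorem X_conj' [Finite G] {g : G} (hg : g ∈ CA D) {x : G} (hx : x ∈ X D) : g * x * g⁻¹ ∈ X D :=
  Gen.oc_conj (le_normalizer hg) hx

theorem z_mem_CA : D.z ∈ CA D := (mem_CA D).2 ⟨D.az.symm, D.bz.symm, D.cz.symm⟩

/-- elements normalising `A` normalise `X` -/
theorem X_conj [Finite G] {y : G} (hy : ∀ w ∈ D.A, y * w * y⁻¹ ∈ D.A) {x : G} (hx : x ∈ X D) :
    y * x * y⁻¹ ∈ X D := by
  refine Gen.oc_conj (Gen.mem_normalizer_of_conj ?_) hx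
  intro g hg
  have hn : y ∈ normalizer (D.A : Set G) := Gen.mem_normalizer_of_conj hy
  have key : ∀ w ∈ D.A, Commute (y * g * y⁻¹) w := by
    intro w hw
    have h1 : y⁻¹ * w * y ∈ D.A := (mem_normalizer_iff''.1 hn w).1 hw
    have h2 : Commute (y * g * y⁻¹) (y * (y⁻¹ * w * y) * y⁻¹) :=
      SemiconjBy.conj_iff.2 (commute_A D hg h1)
    have h3 : y * (y⁻¹ * w * y) * y⁻¹ = w := by group
    rwa [h3] at h2
  exact (mem_CA D).2 ⟨key _ D.aA, key _ D.bA, key _ D.cA⟩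

theorem word_conj (y : G) (i j k : ℕ) : y * (D.a ^ i * D.b ^ j * D.c ^ k) * y⁻¹ =
    (y * D.a * y⁻¹) ^ i * (y * D.b * y⁻¹) ^ j * (y * D.c * y⁻¹) ^ k := by
  rw [conj_pow, conj_pow, conj_pow]; group

theorem norm_A {y : G} (ha : y * D.a * y⁻¹ ∈ D.A) (hb : y * D.b * y⁻¹ ∈ D.A)
    (hc : y * D.c * y⁻¹ ∈ D.A) : ∀ w ∈ D.A, y * w * y⁻¹ ∈ D.A := by
  intro w hw
  obtain ⟨i, j, k, rfl⟩ := D.mem_A.1 hw
  rw [word_conj]
  exact mul_mem (mul_mem (pow_mem ha _) (pow_mem hb _)) (pow_mem hc _)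

theorem norm_u : ∀ w ∈ D.A, D.u * w * D.u⁻¹ ∈ D.A := norm_A D (by rw [D.u_a]; exact D.bA)
  (by rw [D.u_b]; exact D.aA) (by rw [D.u_c]; exact inv_mem D.cA)

theorem norm_g : ∀ w ∈ D.A, D.g * w * D.g⁻¹ ∈ D.A := norm_A D (by rw [D.g_a]; exact inv_mem D.aA)
  (by rw [D.g_b]; exact inv_mem D.bA) (by rw [D.g_c.eq, mul_inv_cancel_right]; exact D.cA)

theorem norm_d : ∀ w ∈ D.A, D.d * w * D.d⁻¹ ∈ D.A := norm_A D (by rw [D.d_a]; exact D.bA)
  (by rw [D.d_b]; exact D.cA) (by rw [D.d_c]; exact D.aA)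

theorem norm_z : ∀ w ∈ D.A, D.z * w * D.z⁻¹ ∈ D.A := by
  intro w hw
  rw [(D.commute_z_of_mem_A hw).symm.eq, mul_inv_cancel_right]; exact hw

/-- the elements of `X` -/
theorem X_decomp [Finite G] (hK : Nat.card (K D) = 243) {x : G} (hx : x ∈ X D) :
    ∃ f ∈ F D, ∃ w ∈ D.A, x = f * w := by
  obtain ⟨ha, hb, hc⟩ := (mem_CA D).1 (X_le_CA D hx)
  obtain ⟨f, hf, h | h⟩ := cent_ab D hK ha hb
  · exact ⟨f⁻¹, inv_mem hf, f * x, h, by group⟩
  · exfalso
    apply z_not_mem_X D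
    have h1 : D.z = (f * x)⁻¹ * (f * x * D.z) := by group
    rw [h1]
    exact mul_mem (inv_mem (mul_mem (F_le_X D hf) hx)) (A_le_X D h)

/-- elements of odd order of the centraliser of `A` lie in `X` -/
theorem mem_X_of_odd [Finite G] (hK : Nat.card (K D) = 243) {x : G} (hx : x ∈ CA D)
    (ho : Odd (orderOf x)) : x ∈ X D := by
  obtain ⟨ha, hb, hc⟩ := (mem_CA D).1 hx
  obtain ⟨f, hf, h | h⟩ := cent_ab D hK ha hb
  · have h1 : x = f⁻¹ * (f * x) := by group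
    rw [h1]
    exact mul_mem (inv_mem (F_le_X D hf)) (A_le_X D h)
  · set y := f⁻¹ * (f * x * D.z) with hy
    have hyX : y ∈ X D := mul_mem (inv_mem (F_le_X D hf)) (A_le_X D h)
    have h1 : x = y * D.z := by
      calc x = f⁻¹ * (f * x * D.z) * D.z⁻¹ := by group
        _ = y * D.z := by rw [D.z_inv]
    have h2 : x * x ∈ X D := by
      have e : x * x = y * (D.z * y * D.z⁻¹) := by
        rw [D.z_inv, h1]; group
      rw [e]
      exact mul_mem hyX (X_conj' D (z_mem_CA D) hyX)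
    obtain ⟨k, hk⟩ := Gen.exists_sqrt ho
    rw [← hk, ← (Commute.refl x).mul_pow]
    exact pow_mem h2 k

theorem mem_CA_of_ab [Finite G] (hK : Nat.card (K D) = 243) {g : G} (ha : Commute g D.a)
    (hb : Commute g D.b) : g ∈ CA D := by
  obtain ⟨f, hf, h | h⟩ := cent_ab D hK ha hb
  · have h1 : g = f⁻¹ * (f * g) := by group
    rw [h1]
    exact mul_mem (inv_mem (F_le_CA D hf)) (A_le_CA D h)
  · have h1 : g = f⁻¹ * (f * g * D.z) * D.z⁻¹ := by group
    rw [h1]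
    exact mul_mem (mul_mem (inv_mem (F_le_CA D hf)) (A_le_CA D h)) (inv_mem (z_mem_CA D))

theorem mem_CA_of_abc [Finite G] (hK : Nat.card (K D) = 243) {g : G} (ha : Commute g D.a)
    (hbc : Commute g (D.b * D.c)) : g ∈ CA D := by
  obtain ⟨f, hf, h | h⟩ := cent_abc D hK ha hbc
  · have h1 : g = f⁻¹ * (f * g) := by group
    rw [h1]
    exact mul_mem (inv_mem (F_le_CA D hf)) (A_le_CA D h)
  · have h1 : g = f⁻¹ * (f * g * D.z) * D.z⁻¹ := by group
    rw [h1]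
    exact mul_mem (mul_mem (inv_mem (F_le_CA D hf)) (A_le_CA D h)) (inv_mem (z_mem_CA D))

theorem mem_CA_of_cr [Finite G] (hK : Nat.card (K D) = 243) {g : G} (hc : Commute g D.c)
    (hr : Commute g D.r) : g ∈ CA D := by
  have h1 : Commute (D.d * g * D.d⁻¹) D.a := by
    have : Commute (D.d * g * D.d⁻¹) (D.d * D.c * D.d⁻¹) := SemiconjBy.conj_iff.2 hc
    rwa [D.d_c] at this
  have h2 : Commute (D.d * g * D.d⁻¹) (D.b * D.c) := by
    have : Commute (D.d * g * D.d⁻¹) (D.d * D.r * D.d⁻¹) := SemiconjBy.conj_iff.2 hr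
    have e : D.d * D.r * D.d⁻¹ = D.b * D.c := by
      calc D.d * (D.a * D.b) * D.d⁻¹ = (D.d * D.a * D.d⁻¹) * (D.d * D.b * D.d⁻¹) := by group
        _ = D.b * D.c := by rw [D.d_a, D.d_b]
    rwa [e] at this
  have h3 := mem_CA_of_abc D hK h1 h2
  have h4 : ∀ w ∈ D.A, Commute g w := by
    intro w hw
    have h5 : Commute (D.d * g * D.d⁻¹) (D.d * w * D.d⁻¹) := commute_A D h3 (norm_d D w hw)
    exact SemiconjBy.conj_iff.1 h5
  exact (mem_CA D).2 ⟨h4 _ D.aA, h4 _ D.bA, h4 _ D.cA⟩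

theorem exists_fin {x w : G} (hx : x ^ 3 = 1) (hw : w ∈ zpowers x) : ∃ i : Fin 3, w = x ^ (i : ℕ) := by
  have hfo : IsOfFinOrder x := isOfFinOrder_iff_pow_eq_one.2 ⟨3, by omega, hx⟩
  obtain ⟨k, hk⟩ := (hfo.mem_powers_iff_mem_zpowers).2 hw
  exact ⟨⟨k % 3, Nat.mod_lt _ (by omega)⟩, by simp only; rw [pow_mod hx]; exact hk.symm⟩

/-- `X` is abelian -/
theorem X_comm [Finite G] (hK : Nat.card (K D) = 243) {x y : G} (hx : x ∈ X D) (hy : y ∈ X D) :
    Commute x y := by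
  obtain ⟨v, hv⟩ := exists_hyp D
  have key : ∀ x ∈ X D, ∀ y ∈ X D, ∃ w ∈ zpowers D.a, x * y = y * x * w := by
    intro x hx y hy
    obtain ⟨f, hf, t, ht, rfl⟩ := X_decomp D hK hx
    obtain ⟨f', hf', t', ht', rfl⟩ := X_decomp D hK hy
    obtain ⟨w, hw, e⟩ := hv.ab ((mem_F D).1 hf).1 ((mem_F D).1 hf').1
    refine ⟨w, hw, ?_⟩
    have hwA : w ∈ D.A := (zpowers_le.2 D.aA) hw
    have c1 := commute_A D (F_le_CA D hf') ht
    have c2 := commute_A D (F_le_CA D hf) ht'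
    have c3 := D.A_comm hwA ht
    have c4 := D.A_comm hwA ht'
    have c5 := D.A_comm ht ht'
    calc f * t * (f' * t') = f * (t * f') * t' := by group
      _ = f * (f' * t) * t' := by rw [c1.eq]
      _ = f * f' * (t * t') := by group
      _ = f' * f * w * (t' * t) := by rw [e, c5.eq]
      _ = f' * f * (w * t') * t := by group
      _ = f' * f * (t' * w) * t := by rw [c4.eq]
      _ = f' * (f * t') * (w * t) := by group
      _ = f' * (t' * f) * (t * w) := by rw [c2.eq, c3.eq]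
      _ = f' * t' * (f * t) * w := by group
  obtain ⟨w, hw, e⟩ := key x hx y hy
  have hdi : ∀ w ∈ D.A, D.d⁻¹ * w * (D.d⁻¹)⁻¹ ∈ D.A := by
    intro w hw
    have hn : D.d ∈ normalizer (D.A : Set G) := Gen.mem_normalizer_of_conj (norm_d D)
    rw [inv_inv]
    exact (mem_normalizer_iff''.1 hn w).1 hw
  obtain ⟨w', hw', e'⟩ := key _ (X_conj D hdi hx) _ (X_conj D hdi hy)
  have e2 : x * y = y * x * (D.d * w' * D.d⁻¹) := by
    calc x * y = D.d * (D.d⁻¹ * x * (D.d⁻¹)⁻¹ * (D.d⁻¹ * y * (D.d⁻¹)⁻¹)) * D.d⁻¹ := by group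
      _ = D.d * (D.d⁻¹ * y * (D.d⁻¹)⁻¹ * (D.d⁻¹ * x * (D.d⁻¹)⁻¹) * w') * D.d⁻¹ := by rw [e']
      _ = y * x * (D.d * w' * D.d⁻¹) := by group
  have e3 : w = D.d * w' * D.d⁻¹ := by
    rw [e] at e2
    exact mul_left_cancel e2
  obtain ⟨i, hi⟩ := exists_fin D.a3 hw
  obtain ⟨j, hj⟩ := exists_fin D.a3 hw'
  have e4 : D.a ^ (i : ℕ) = D.b ^ (j : ℕ) := by
    rw [← hi, e3, hj, ← conj_pow, D.d_a]
  have e5 := D.word_injective (a₁ := (i, 0, 0)) (a₂ := (0, j, 0)) (by simpa using e4)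
  have e6 : i = 0 := congrArg Prod.fst e5
  have e7 : w = 1 := by rw [hi, e6]; simp
  rw [e7, mul_one] at e
  exact e

/-- the elements of `X` commuting with `z` -/
theorem X_cent_z [Finite G] (hK : Nat.card (K D) = 243) {x : G} (hx : x ∈ X D)
    (hz : Commute x D.z) : x ∈ D.A := by
  obtain ⟨f, hf, t, ht, rfl⟩ := X_decomp D hK hx
  have h1 : Commute f D.z := by
    have := hz.mul_left (D.commute_z_of_mem_A ht).inv_left
    rwa [mul_inv_cancel_right] at this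
  obtain ⟨i, -, rfl⟩ := cent_z D ((mem_F D).1 hf).1 h1
  exact mul_mem (pow_mem D.aA i) ht

theorem card_X [Finite G] (hK : Nat.card (K D) = 243) :
    Nat.card (X D) = 243 ∧ Nat.card {x : G | x ∈ X D ∧ D.z * x * D.z⁻¹ = x⁻¹} = 9 := by
  have h1 := Count2.card_inv (X D) (Gen.odd_card_oc _) D.zz
    (fun x hx => X_conj' D (z_mem_CA D) hx)
  have h2 : X D ⊓ centralizer {D.z} = D.A := by
    apply le_antisymm
    · intro x hx
      obtain ⟨hx1, hx2⟩ := mem_inf.1 hx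
      exact X_cent_z D hK hx1 (mem_centralizer_singleton_iff.1 hx2)
    · intro x hx
      exact mem_inf.2 ⟨A_le_X D hx, mem_centralizer_singleton_iff.2 (D.commute_z_of_mem_A hx)⟩
  have h3 : {x : G | x ∈ X D ∧ D.z * x * D.z⁻¹ = x⁻¹} = {x : G | x ∈ F D ∧ D.z * x * D.z⁻¹ = x⁻¹} := by
    ext x
    constructor
    · rintro ⟨hx, hxz⟩
      refine ⟨?_, hxz⟩
      obtain ⟨f, hf, t, ht, rfl⟩ := X_decomp D hK hx
      obtain ⟨v, hv⟩ := exists_hyp D
      obtain ⟨w, hw, e⟩ := hv.inv ((mem_F D).1 hf).1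
      have hwA : w ∈ D.A := (zpowers_le.2 D.aA) hw
      have e1 : w * t = t⁻¹ := by
        have c1 := commute_A D (F_le_CA D hf) ht
        have e2 : D.z * (f * t) * D.z⁻¹ = f⁻¹ * (w * t) := by
          calc D.z * (f * t) * D.z⁻¹ = (D.z * f * D.z) * (D.z⁻¹ * t * D.z⁻¹) := by group
            _ = (D.z * f * D.z) * (D.z * t * D.z⁻¹) := by rw [D.z_inv]
            _ = f⁻¹ * w * t := by
              rw [e, (D.commute_z_of_mem_A ht).symm.eq, mul_inv_cancel_right]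
            _ = f⁻¹ * (w * t) := by group
        rw [e2, mul_inv_rev, ← c1.inv_inv.eq] at hxz
        exact mul_left_cancel hxz
      have e2 : t * t = w⁻¹ := by
        calc t * t = w⁻¹ * (w * t) * t := by group
          _ = w⁻¹ := by rw [e1]; group
      have e3 : t ∈ zpowers D.a := by
        have h5 : t = (t * t) * (t * t) := by
          have := D.A_cube ht
          calc t = t ^ 3 * t := by rw [this, one_mul]
            _ = (t * t) * (t * t) := by simp only [pow_succ, pow_zero, one_mul, mul_assoc]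
        rw [h5, e2]
        exact mul_mem (inv_mem hw) (inv_mem hw)
      have haF : D.a ∈ F D := (mem_F D).2 ⟨a_mem D, D.comm_ab, D.comm_ac⟩
      exact mul_mem hf ((zpowers_le.2 haF) e3)
    · rintro ⟨hx, hxz⟩
      exact ⟨F_le_X D hx, hxz⟩
  have haF : D.a ∈ F D := (mem_F D).2 ⟨a_mem D, D.comm_ab, D.comm_ac⟩
  have h4 := card_L D (L := F D) inf_le_left haF (by
    intro x hx
    obtain ⟨h1, h2, h3⟩ := (mem_F D).1 hx
    exact (mem_F D).2 ⟨K_conj' D D.az.symm h1, (D.bz.symm.mul_left h2).mul_left D.bz.symm.inv_left,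
      (D.cz.symm.mul_left h3).mul_left D.cz.symm.inv_left⟩)
  rw [(F_facts D hK).1] at h4
  have h5 : Nat.card {x : G | x ∈ X D ∧ D.z * x * D.z⁻¹ = x⁻¹} = 9 := by rw [h3]; omega
  refine ⟨?_, h5⟩
  rw [h1, h2, D.card_A, h5]

end Cfsg.Agent.SporRec.TwoNine.NineX
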