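import Cfsg.Agent.SporRec.TwoNine.Cv

/-!
# From `IsCover` on a centraliser to the element-wise interface `Cv`
-/

set_option autoImplicit false

namespace Cfsg.Agent.SporRec.TwoNine.OfCover

open Equiv Equiv.Perm
open Cfsg.Agent.SporadicRecognition.AltCover
open Cfsg.Agent.Lib.AltCarmichael
open Cfsg.Agent.SporRec.TwoNine.Cv

/-- double transpositions are conjugate under even permutations -/
theorem exists_even_conj {n : ℕ} {σ : Perm (Fin n)} {a b c d : Fin n} (hn : [a, b, c, d].Nodup)
    (hσ : σ.cycleType = {2, 2}) : ∃ g : Perm (Fin n), sign g = 1 ∧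
      g * σ * g⁻¹ = swap a b * swap c d := by
  have h1 : IsConj σ (swap a b * swap c d) := by
    rw [isConj_iff_cycleType_eq, hσ, cycleType_swap_mul_swap_of_nodup hn]
  obtain ⟨g, hg⟩ := isConj_iff.1 h1
  have hab : a ≠ b := by
    intro h; simp [h] at hn
  by_cases hs : sign g = 1
  · exact ⟨g, hs, hg⟩
  · have hs' : sign g = -1 := (Int.units_eq_one_or _).resolve_left hs
    refine ⟨swap a b * g, ?_, ?_⟩
    · rw [map_mul, hs', sign_swap hab]; rfl
    · have h2 : swap a b * g * σ * (swap a b * g)⁻¹ = swap a b * (g * σ * g⁻¹) * (swap a b)⁻¹ := by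
        group
      have hac : a ≠ c := by intro h; simp [h] at hn
      have had : a ≠ d := by intro h; simp [h] at hn
      have hbc : b ≠ c := by intro h; simp [h] at hn
      have hbd : b ≠ d := by intro h; simp [h] at hn
      have h3 : Commute (swap a b) (swap c d) := by
        apply Disjoint.commute
        rw [disjoint_iff_disjoint_support, support_swap hab]
        have hcd : c ≠ d := by intro h; simp [h] at hn
        rw [support_swap hcd, Finset.disjoint_left]
        intro x hx
        simp only [Finset.mem_insert, Finset.mem_singleton] at hx ⊢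
        rcases hx with rfl | rfl
        · push Not; exact ⟨hac, had⟩
        · push Not; exact ⟨hbc, hbd⟩
      rw [h2, hg, swap_inv]
      calc swap a b * (swap a b * swap c d) * swap a b
          = swap a b * swap a b * swap c d * swap a b := by group
        _ = swap c d * swap a b := by rw [swap_mul_self, one_mul]
        _ = swap a b * swap c d := h3.eq.symm

theorem sq_of_double {n : ℕ} (hn : 5 ≤ n) {C : Type*} [Group C] {π : C →* alternatingGroup (Fin n)}
    {z : C} (h : IsCover π z) {a b c d : Fin n} (hd : [a, b, c, d].Nodup) {x : C}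
    (hx : (π x : Perm (Fin n)) = swap a b * swap c d) : x * x = z := by
  obtain ⟨m, rfl⟩ : ∃ m, n = m + 2 := ⟨n - 2, by omega⟩
  obtain ⟨X, hX3, hXπ⟩ := h.exists_cube (cy_cube (m := m) (i := 0) (by omega))
  obtain ⟨Y, hY3, hYπ⟩ := h.exists_cube (cy_cube (m := m) (i := 1) (by omega))
  have hsq := h.sq_eq (by omega) (i := 0) (j := 1) (by omega) (by omega) (by omega) hX3 hXπ hY3 hYπ
  -- the product of the two Carmichael generators
  set o := Fin.ofNat (m + 2) 0 with ho
  set e := Fin.ofNat (m + 2) 1 with he
  set s := Fin.ofNat (m + 2) m with hs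
  set t := Fin.ofNat (m + 2) (m + 1) with ht
  have hoe : o ≠ e := ofNat_ne (by omega) (by omega) (by omega)
  have hos : o ≠ s := ofNat_ne (by omega) (by omega) (by omega)
  have hot : o ≠ t := ofNat_ne (by omega) (by omega) (by omega)
  have hes : e ≠ s := ofNat_ne (by omega) (by omega) (by omega)
  have het : e ≠ t := ofNat_ne (by omega) (by omega) (by omega)
  have hst : s ≠ t := ofNat_ne (by omega) (by omega) (by omega)
  have hprod : (π (X * Y) : Perm (Fin (m + 2))) = swap o s * swap e t := by
    rw [map_mul, hXπ, hYπ]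
    change cyc m 0 * cyc m 1 = _
    rw [cyc_def, cyc_def, ← ho, ← he, ← hs, ← ht]
    have h1 : swap s t * swap e s * swap s t = swap e t := by
      have h2 := swap_apply_apply (swap s t) e s
      rw [swap_apply_of_ne_of_ne hes het, swap_apply_left, swap_inv] at h2
      exact h2.symm
    calc swap o s * swap s t * (swap e s * swap s t)
        = swap o s * (swap s t * swap e s * swap s t) := by group
      _ = _ := by rw [h1]
  have hnd : [o, s, e, t].Nodup := by
    simp only [List.nodup_cons, List.mem_cons, List.not_mem_nil, or_false, not_or,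
      List.nodup_nil, and_true, not_false_eq_true]
    exact ⟨⟨hos, hoe, hot⟩, ⟨hes.symm, hst⟩, het⟩
  obtain ⟨g, hg1, hg2⟩ := exists_even_conj hd (σ := (π (X * Y) : Perm (Fin (m + 2)))) (by
    rw [hprod, cycleType_swap_mul_swap_of_nodup hnd])
  obtain ⟨k, hk⟩ := h.surj ⟨g, mem_alternatingGroup.2 hg1⟩
  have h1 : π (k * (X * Y) * k⁻¹) = π x := by
    refine Subtype.ext ?_
    rw [map_mul, map_mul, map_inv, hk, hx, ← hg2]
    rfl
  have h2 : (k * (X * Y) * k⁻¹) * (k * (X * Y) * k⁻¹) = z := by
    calc (k * (X * Y) * k⁻¹) * (k * (X * Y) * k⁻¹) = k * ((X * Y) ^ 2) * k⁻¹ := by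
          rw [pow_two]; group
      _ = z := by rw [hsq, h.z_comm, mul_inv_cancel_right]
  rcases h.eq_or_of_map_eq h1 with h3 | h3
  · rw [← h3]; exact h2
  · rw [h3] at h2
    calc x * x = x * x * (z * z) := by rw [h.z_mul, mul_one]
      _ = x * (x * z) * z := by group
      _ = x * (z * x) * z := by rw [h.z_comm x]
      _ = (x * z) * (x * z) := by group
      _ = z := h2

open Classical in
/-- the element-wise version of the projection of the centraliser -/
noncomputable def proj {G : Type*} [Group G] {n : ℕ} {z : G}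
    (π : Subgroup.centralizer ({z} : Set G) →* alternatingGroup (Fin n)) (x : G) : Perm (Fin n) :=
  if hx : x ∈ Subgroup.centralizer ({z} : Set G) then (π ⟨x, hx⟩ : Perm (Fin n)) else 1

theorem mem_iff {G : Type*} [Group G] {z x : G} :
    x ∈ Subgroup.centralizer ({z} : Set G) ↔ Commute x z := by
  rw [Subgroup.mem_centralizer_singleton_iff]; rfl

theorem proj_of_mem {G : Type*} [Group G] {n : ℕ} {z : G}
    {π : Subgroup.centralizer ({z} : Set G) →* alternatingGroup (Fin n)} {x : G}
    (hx : x ∈ Subgroup.centralizer ({z} : Set G)) : proj π x = (π ⟨x, hx⟩ : Perm (Fin n)) :=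
  dif_pos hx

theorem cv_of_isCover {G : Type*} [Group G] {n : ℕ} (hn : 5 ≤ n) {z : G}
    (hz : z ∈ Subgroup.centralizer ({z} : Set G))
    {π : Subgroup.centralizer ({z} : Set G) →* alternatingGroup (Fin n)}
    (h : IsCover π ⟨z, hz⟩) : Cv n z (proj π) where
  z_ne := fun h1 => h.z_ne (Subtype.ext h1)
  z_sq := congrArg Subtype.val h.z_mul
  mul := by
    intro x y hx hy
    have hx' := mem_iff.2 hx
    have hy' := mem_iff.2 hy
    rw [proj_of_mem hx', proj_of_mem hy', proj_of_mem (mul_mem hx' hy')]
    rw [← Subgroup.coe_mul, ← map_mul]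
    rfl
  sgn := by
    intro x hx
    have hx' := mem_iff.2 hx
    rw [proj_of_mem hx']
    exact mem_alternatingGroup.1 (π ⟨x, hx'⟩).2
  surj := by
    intro σ hσ
    obtain ⟨⟨x, hx⟩, hxσ⟩ := h.surj ⟨σ, mem_alternatingGroup.2 hσ⟩
    refine ⟨x, mem_iff.1 hx, ?_⟩
    rw [proj_of_mem hx, hxσ]
  ker := by
    intro x hx h1
    have hx' := mem_iff.2 hx
    rw [proj_of_mem hx'] at h1
    rcases (h.ker ⟨x, hx'⟩).1 (Subtype.ext h1) with h2 | h2
    · exact Or.inl (congrArg Subtype.val h2)
    · exact Or.inr (congrArg Subtype.val h2)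
  pz := by
    rw [proj_of_mem hz, h.map_z]; rfl
  two := by
    intro x a b c d hx hd hpx
    have hx' := mem_iff.2 hx
    rw [proj_of_mem hx'] at hpx
    exact congrArg Subtype.val (sq_of_double hn h hd hpx)

end Cfsg.Agent.SporRec.TwoNine.OfCover
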