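import Cfsg.Agent.SporRec.TwoNine.Perms

/-!
# Centralisers of some explicit permutations
-/

set_option autoImplicit false

namespace Cfsg.Agent.SporRec.TwoNine.PermFacts

open Equiv Equiv.Perm
open Cfsg.Agent.SporRec.TwoNine.Perms

variable {m : ℕ}

theorem comm_apply {n : ℕ} {σ τ : Perm (Fin n)} (h : Commute σ τ) (x : Fin n) :
    σ (τ x) = τ (σ x) := by
  rw [← Perm.mul_apply, ← Perm.mul_apply, h.eq]

/-- an involution of type `2^4` does not commute with the 3-cycle `sa` -/
theorem not_commute_sa (hm : m < 2) {σ : Perm (Fin (m + 9))} (h : σ.cycleType = {2, 2, 2, 2})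
    (hc : Commute σ (sa m)) : False := by
  have h2 : ∀ x, σ (σ x) = x := by
    intro x
    have h3 : orderOf σ = 2 := by rw [← lcm_cycleType, h]; rfl
    have h4 : σ ^ 2 = 1 := by rw [← h3]; exact pow_orderOf_eq_one σ
    rw [pow_two] at h4
    rw [← Perm.mul_apply, h4]; rfl
  have e0 : σ 1 = sa m (σ 0) := by
    rw [← comm_apply hc]; congr 1
  have e1 : σ 2 = sa m (σ 1) := by
    rw [← comm_apply hc]; congr 1
  have hmv : sa m (σ 0) ≠ σ 0 := by
    rw [← e0]; intro h3
    have := σ.injective h3
    revert this; interval_cases m <;> decide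
  have hx : σ 0 = 0 ∨ σ 0 = 1 ∨ σ 0 = 2 := by
    generalize σ 0 = x at hmv
    revert x; interval_cases m <;> decide
  have h0 : σ 0 = 0 := by
    rcases hx with h3 | h3 | h3
    · exact h3
    · exfalso
      have h4 := h2 0
      rw [h3, e0, h3] at h4
      revert h4; interval_cases m <;> decide
    · exfalso
      have h4 := h2 0
      rw [h3, e1, e0, h3] at h4
      revert h4; interval_cases m <;> decide
  have h1 : σ 1 = 1 := by rw [e0, h0]; interval_cases m <;> decide
  have h2' : σ 2 = 2 := by rw [e1, h1]; interval_cases m <;> decide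
  have hs : σ.support ⊆ Finset.univ \ {0, 1, 2} := by
    intro x hx
    rw [mem_support] at hx
    simp only [Finset.mem_sdiff, Finset.mem_univ, true_and, Finset.mem_insert,
      Finset.mem_singleton, not_or]
    refine ⟨?_, ?_, ?_⟩ <;> rintro rfl
    · exact hx h0
    · exact hx h1
    · exact hx h2'
  have hcard := Finset.card_le_card hs
  have h8 : σ.support.card = 8 := by rw [← sum_cycleType, h]; rfl
  rw [h8] at hcard
  revert hcard
  interval_cases m <;> decide

/-- `σ` commuting with `sa` acts on the first block as a power of `sa` -/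
theorem exists_sa (hm : m < 2) {σ : Perm (Fin (m + 9))} (hc : Commute σ (sa m)) :
    ∃ i : ℕ, i < 3 ∧ (σ * sa m ^ i) 0 = 0 ∧ (σ * sa m ^ i) 1 = 1 ∧ (σ * sa m ^ i) 2 = 2 := by
  have e0 : σ 1 = sa m (σ 0) := by
    rw [← comm_apply hc]; congr 1
  have e1 : σ 2 = sa m (σ 1) := by
    rw [← comm_apply hc]; congr 1
  have hmv : sa m (σ 0) ≠ σ 0 := by
    rw [← e0]; intro h3
    have := σ.injective h3
    revert this; interval_cases m <;> decide
  have hx : σ 0 = 0 ∨ σ 0 = 1 ∨ σ 0 = 2 := by
    generalize σ 0 = x at hmv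
    revert x; interval_cases m <;> decide
  rcases hx with h3 | h3 | h3
  · refine ⟨0, by omega, ?_, ?_, ?_⟩
    · rw [pow_zero, mul_one, h3]
    · rw [pow_zero, mul_one, e0, h3]; interval_cases m <;> decide
    · rw [pow_zero, mul_one, e1, e0, h3]; interval_cases m <;> decide
  · refine ⟨2, by omega, ?_, ?_, ?_⟩
    · have : (sa m ^ 2) 0 = 2 := by interval_cases m <;> decide
      rw [Perm.mul_apply, this, e1, e0, h3]; interval_cases m <;> decide
    · have : (sa m ^ 2) 1 = 0 := by interval_cases m <;> decide
      rw [Perm.mul_apply, this, h3]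
    · have : (sa m ^ 2) 2 = 1 := by interval_cases m <;> decide
      rw [Perm.mul_apply, this, e0, h3]; interval_cases m <;> decide
  · refine ⟨1, by omega, ?_, ?_, ?_⟩
    · have : (sa m ^ 1) 0 = 1 := by interval_cases m <;> decide
      rw [Perm.mul_apply, this, e0, h3]; interval_cases m <;> decide
    · have : (sa m ^ 1) 1 = 2 := by interval_cases m <;> decide
      rw [Perm.mul_apply, this, e1, e0, h3]; interval_cases m <;> decide
    · have : (sa m ^ 1) 2 = 0 := by interval_cases m <;> decide
      rw [Perm.mul_apply, this, h3]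

theorem isThreeCycle_sa (hm : m < 2) : (sa m).IsThreeCycle := by
  have h1 : (1 : Fin (m + 9)) ≠ 0 := by interval_cases m <;> decide
  have h2 : (1 : Fin (m + 9)) ≠ 2 := by interval_cases m <;> decide
  have h3 : (0 : Fin (m + 9)) ≠ 2 := by interval_cases m <;> decide
  have h := isThreeCycle_swap_mul_swap_same h1 h2 h3
  rw [swap_comm 1 0] at h
  exact h

theorem isThreeCycle_sb (hm : m < 2) : (sb m).IsThreeCycle := by
  have h1 : (4 : Fin (m + 9)) ≠ 3 := by interval_cases m <;> decide
  have h2 : (4 : Fin (m + 9)) ≠ 5 := by interval_cases m <;> decide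
  have h3 : (3 : Fin (m + 9)) ≠ 5 := by interval_cases m <;> decide
  have h := isThreeCycle_swap_mul_swap_same h1 h2 h3
  rw [swap_comm 4 3] at h
  exact h

theorem disjoint_sa_sb (hm : m < 2) : Equiv.Perm.Disjoint (sa m) (sb m) := by
  have h : ∀ x : Fin (m + 9), sa m x = x ∨ sb m x = x := by interval_cases m <;> decide
  exact h

theorem cycleType_sab (hm : m < 2) : (sa m * sb m).cycleType = {3, 3} := by
  rw [(disjoint_sa_sb hm).cycleType_mul, isThreeCycle_sa hm, isThreeCycle_sb hm]
  rfl

/-- an element of order three commuting with `su` has type `3^2` -/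
theorem cycleType_of_commute_su (hm : m < 2) {σ : Perm (Fin (m + 9))} (h3 : σ ^ 3 = 1)
    (h1 : σ ≠ 1) (hc : Commute σ (su m)) : σ.cycleType = {3, 3} := by
  have hp3 : Nat.Prime 3 := by norm_num
  have hfix3 : Fact (Nat.Prime 3) := ⟨hp3⟩
  have ho : orderOf σ = 3 := orderOf_eq_prime h3 h1
  have hp : (orderOf σ).Prime := by rw [ho]; exact hp3
  have hcube : ∀ x, σ (σ (σ x)) = x := by
    intro x
    have h4 : σ (σ (σ x)) = (σ ^ 3) x := by
      rw [pow_succ, pow_two]; rfl
    rw [h4, h3]; rfl
  obtain ⟨k, hk⟩ := cycleType_prime_order hp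
  rw [ho] at hk
  have hsu2 : ∀ x, su m (su m x) = x := by
    interval_cases m <;> decide
  -- `σ` fixes the fixed points of `su`
  have h8 : σ 8 = 8 := by
    have e1 : su m (σ 8) = σ 8 := by
      rw [← comm_apply hc]; congr 1
    have e2 : su m (σ (σ 8)) = σ (σ 8) := by
      rw [← comm_apply hc, e1]
    have e3 := hcube 8
    have hx : ∀ x : Fin (m + 9), su m x = x → x = 8 ∨ x = Fin.last _ := by
      interval_cases m <;> decide
    rcases hx _ e1 with h4 | h4
    · exact h4
    · rcases hx _ e2 with h5 | h5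
      · rw [h5] at e3
        exact e3
      · have h6 : σ (σ 8) = σ 8 := by rw [h5, h4]
        exact σ.injective h6
  have h9 : σ (Fin.last _) = Fin.last _ := by
    have e1 : su m (σ (Fin.last _)) = σ (Fin.last _) := by
      rw [← comm_apply hc]; congr 1
    have hx : ∀ x : Fin (m + 9), su m x = x → x = 8 ∨ x = Fin.last _ := by
      interval_cases m <;> decide
    rcases hx _ e1 with h4 | h4
    · rw [← h8] at h4
      rw [σ.injective h4, h8]
    · exact h4
  have hs : σ.support ⊆ Finset.univ \ {8, Fin.last _} := by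
    intro x hx
    rw [mem_support] at hx
    simp only [Finset.mem_sdiff, Finset.mem_univ, true_and, Finset.mem_insert,
      Finset.mem_singleton, not_or]
    refine ⟨?_, ?_⟩ <;> rintro rfl
    · exact hx h8
    · exact hx h9
  have hcard := Finset.card_le_card hs
  have hcs : σ.support.card = (k + 1) * 3 := by
    rw [← sum_cycleType, hk, Multiset.sum_replicate, smul_eq_mul]
  rw [hcs] at hcard
  have hcard' : (Finset.univ \ {8, Fin.last (m + 8)} : Finset (Fin (m + 9))).card ≤ 8 := by
    interval_cases m <;> decide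
  have hk2 : k < 2 := by omega
  interval_cases k
  · exfalso
    -- a 3-cycle
    have hcyc : σ.IsThreeCycle := by rw [IsThreeCycle, hk]; rfl
    obtain ⟨x, hx⟩ : ∃ x, σ x ≠ x := by
      by_contra hno
      push Not at hno
      exact h1 (Equiv.ext hno)
    have hx' : σ (su m x) ≠ su m x := by
      rw [comm_apply hc]
      exact fun h4 => hx ((su m).injective h4)
    obtain ⟨i, hi⟩ := hcyc.isCycle.exists_pow_eq hx hx'
    have hsx : su m x ≠ x := by
      intro h4
      have hxx : ∀ x : Fin (m + 9), su m x = x → x = 8 ∨ x = Fin.last _ := by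
        interval_cases m <;> decide
      rcases hxx _ h4 with h5 | h5
      · rw [h5] at hx; exact hx h8
      · rw [h5] at hx; exact hx h9
    -- reduce the exponent
    have hred : su m x = σ x ∨ su m x = σ (σ x) := by
      have e1 : (σ ^ (i % 3)) x = su m x := by
        rw [← hi]
        congr 1
        rw [← ho]
        exact pow_mod_orderOf σ i
      have hi3 : i % 3 < 3 := Nat.mod_lt _ (by omega)
      interval_cases (i % 3)
      · exfalso
        rw [pow_zero] at e1
        exact hsx e1.symm
      · left; rw [← e1, pow_one]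
      · right; rw [← e1, pow_two]; rfl
    rcases hred with h4 | h4
    · have h5 := hsu2 x
      rw [h4, ← comm_apply hc, h4] at h5
      have h6 := hcube x
      rw [h5] at h6
      exact hx h6
    · have h5 := hsu2 x
      rw [h4, ← comm_apply hc, ← comm_apply hc, h4, hcube] at h5
      exact hx h5
  · rw [hk]; rfl

theorem exists_even_conj_sab (hm : m < 2) {σ : Perm (Fin (m + 9))}
    (h : σ.cycleType = {3, 3}) : ∃ g : Perm (Fin (m + 9)), sign g = 1 ∧
      g * σ * g⁻¹ = sa m * sb m := by
  have h1 : IsConj σ (sa m * sb m) := by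
    rw [isConj_iff_cycleType_eq, h, cycleType_sab hm]
  obtain ⟨g, hg⟩ := isConj_iff.1 h1
  by_cases hs : sign g = 1
  · exact ⟨g, hs, hg⟩
  · have hs' : sign g = -1 := (Int.units_eq_one_or _).resolve_left hs
    have h01 : sign (swap (6 : Fin (m + 9)) 7) = -1 := by interval_cases m <;> decide
    have hc : swap (6 : Fin (m + 9)) 7 * (sa m * sb m) * swap 6 7 = sa m * sb m := by
      interval_cases m <;> decide
    refine ⟨swap 6 7 * g, ?_, ?_⟩
    · rw [map_mul, hs', h01]; rfl
    · have h2 : swap 6 7 * g * σ * (swap 6 7 * g)⁻¹ = swap 6 7 * (g * σ * g⁻¹) * (swap 6 7)⁻¹ := by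
        group
      rw [h2, hg, swap_inv, hc]

end Cfsg.Agent.SporRec.TwoNine.PermFacts
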