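import Cfsg.Agent.SporRec.TwoNine.PermFacts

/-!
# Centralisers of some explicit permutations, continued
-/

set_option autoImplicit false

namespace Cfsg.Agent.SporRec.TwoNine.PermFacts2

open Equiv Equiv.Perm
open Cfsg.Agent.SporRec.TwoNine.Perms Cfsg.Agent.SporRec.TwoNine.PermFacts

variable {m : ℕ}

theorem cases_pt (hm : m < 2) (y : Fin (m + 9)) : y = 0 ∨ y = 1 ∨ y = 2 ∨ y = 3 ∨ y = 4 ∨ y = 5 ∨
    y = 6 ∨ y = 7 ∨ y = 8 ∨ y = Fin.last _ := by
  revert y; interval_cases m <;> decide

/-- two permutations commuting with `s` and agreeing at `x` agree at `s x` -/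
theorem agree {n : ℕ} {σ τ s : Perm (Fin n)} (h1 : Commute σ s) (h2 : Commute τ s) {x : Fin n}
    (h : σ x = τ x) : σ (s x) = τ (s x) := by
  rw [comm_apply h1, comm_apply h2, h]

/-- centraliser of `su` and `sa * sb` -/
theorem commute_su_sab (hm : m < 2) {σ : Perm (Fin (m + 9))} (hs : sign σ = 1)
    (h1 : Commute σ (su m)) (h2 : Commute σ (sa m * sb m)) :
    ∃ i < 3, ∃ j < 2, σ = (sa m * sb m) ^ i * su m ^ j ∨
      (m = 1 ∧ σ = (sa m * sb m) ^ i * su m ^ j * (swap 6 7 * swap 8 (Fin.last _))) := by
  have hcomm : Commute (sa m * sb m) (su m) := by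
    change sa m * sb m * su m = su m * (sa m * sb m)
    interval_cases m <;> decide
  have hmv : (sa m * sb m) (σ 0) ≠ σ 0 := by
    rw [← comm_apply h2]; intro h3
    have := σ.injective h3
    revert this; interval_cases m <;> decide
  obtain ⟨i, j, hij⟩ : ∃ i : Fin 3, ∃ j : Fin 2,
      ((sa m * sb m) ^ (i : ℕ) * su m ^ (j : ℕ)) 0 = σ 0 := by
    generalize σ 0 = x at hmv
    revert x; interval_cases m <;> decide
  set t := (sa m * sb m) ^ (i : ℕ) * su m ^ (j : ℕ) with ht
  have ht1 : Commute t (su m) := (hcomm.pow_left i).mul_left ((Commute.refl _).pow_left j)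
  have ht2 : Commute t (sa m * sb m) :=
    ((Commute.refl _).pow_left i).mul_left (hcomm.symm.pow_left j)
  have hts : sign t = 1 := by
    have e1 : sign (sa m * sb m) = 1 := by interval_cases m <;> decide
    have e2 : sign (su m) = 1 := by interval_cases m <;> decide
    rw [ht, map_mul, map_pow, map_pow, e1, e2, one_pow, one_pow, one_mul]
  set σ' := t⁻¹ * σ with hσ'
  have hσ : σ = t * σ' := by rw [hσ', mul_inv_cancel_left]
  have c1 : Commute σ' (su m) := ht1.inv_left.mul_left h1
  have c2 : Commute σ' (sa m * sb m) := ht2.inv_left.mul_left h2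
  have hs' : sign σ' = 1 := by rw [hσ', map_mul, map_inv, hts, hs, inv_one, one_mul]
  have f0 : σ' 0 = 0 := by
    rw [hσ', Perm.mul_apply, ← hij, ← Perm.mul_apply, inv_mul_cancel]; rfl
  have one_comm : ∀ s : Perm (Fin (m + 9)), Commute 1 s := fun s => Commute.one_left s
  have f1 : σ' 1 = 1 := by
    have := agree c2 (one_comm _) (x := 0) f0
    have e : (sa m * sb m) 0 = 1 := by interval_cases m <;> decide
    rw [e] at this; exact this
  have f2 : σ' 2 = 2 := by
    have := agree c2 (one_comm _) (x := 1) f1
    have e : (sa m * sb m) 1 = 2 := by interval_cases m <;> decide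
    rw [e] at this; exact this
  have f3 : σ' 3 = 3 := by
    have := agree c1 (one_comm _) (x := 0) f0
    have e : (su m) 0 = 3 := by interval_cases m <;> decide
    rw [e] at this; exact this
  have f4 : σ' 4 = 4 := by
    have := agree c1 (one_comm _) (x := 1) f1
    have e : (su m) 1 = 4 := by interval_cases m <;> decide
    rw [e] at this; exact this
  have f5 : σ' 5 = 5 := by
    have := agree c1 (one_comm _) (x := 2) f2
    have e : (su m) 2 = 5 := by interval_cases m <;> decide
    rw [e] at this; exact this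
  -- the point 6
  have f6 : σ' 6 = 6 ∨ σ' 6 = 7 := by
    have hmv6 : su m (σ' 6) ≠ σ' 6 := by
      rw [← comm_apply c1]; intro h3
      have := σ'.injective h3
      revert this; interval_cases m <;> decide
    have hne : ∀ y : Fin (m + 9), σ' y = y → y ≠ 6 → σ' 6 ≠ y := by
      intro y hy hy6 h3
      rw [← hy] at h3
      exact hy6 (σ'.injective h3).symm
    have g0 := hne 0 f0 (by interval_cases m <;> decide)
    have g1 := hne 1 f1 (by interval_cases m <;> decide)
    have g2 := hne 2 f2 (by interval_cases m <;> decide)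
    have g3 := hne 3 f3 (by interval_cases m <;> decide)
    have g4 := hne 4 f4 (by interval_cases m <;> decide)
    have g5 := hne 5 f5 (by interval_cases m <;> decide)
    generalize σ' 6 = x at hmv6 g0 g1 g2 g3 g4 g5
    revert x; interval_cases m <;> decide
  have f8 : σ' 8 = 8 ∨ σ' 8 = Fin.last _ := by
    have e1 : su m (σ' 8) = σ' 8 := by
      rw [← comm_apply c1]; congr 1
    generalize σ' 8 = x at e1
    revert x; interval_cases m <;> decide
  have f9 : σ' (Fin.last _) = 8 ∨ σ' (Fin.last _) = Fin.last _ := by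
    have e1 : su m (σ' (Fin.last _)) = σ' (Fin.last _) := by
      rw [← comm_apply c1]; congr 1
    generalize σ' (Fin.last _) = x at e1
    revert x; interval_cases m <;> decide
  have f7 : σ' 7 = su m (σ' 6) := by
    rw [← comm_apply c1]; congr 1
  have f89 : (σ' 8 = 8 ∧ σ' (Fin.last _) = Fin.last _) ∨
      (m = 1 ∧ σ' 8 = Fin.last _ ∧ σ' (Fin.last _) = 8) := by
    rcases f8 with g8 | g8
    · left
      refine ⟨g8, ?_⟩
      rcases f9 with g9 | g9
      · have h5 : σ' (Fin.last _) = σ' 8 := by rw [g8, g9]
        rw [σ'.injective h5]; exact g8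
      · exact g9
    · rcases f9 with g9 | g9
      · by_cases hm1 : m = 1
        · exact Or.inr ⟨hm1, g8, g9⟩
        · left
          have hm0 : m = 0 := by omega
          subst hm0
          exact ⟨g8, g8⟩
      · left
        have h5 : (Fin.last _ : Fin (m + 9)) = 8 := by
          have h5 : σ' (Fin.last _) = σ' 8 := by rw [g8, g9]
          exact σ'.injective h5
        exact ⟨by rw [g8, h5], g9⟩
  have hall : ∀ τ : Perm (Fin (m + 9)), τ 0 = 0 → τ 1 = 1 → τ 2 = 2 → τ 3 = 3 → τ 4 = 4 →
      τ 5 = 5 → σ' 6 = τ 6 → σ' 7 = τ 7 → σ' 8 = τ 8 → σ' (Fin.last _) = τ (Fin.last _) →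
      σ' = τ := by
    intro τ t0 t1 t2 t3 t4 t5 t6 t7 t8 t9
    refine Equiv.ext fun y => ?_
    rcases cases_pt hm y with rfl | rfl | rfl | rfl | rfl | rfl | rfl | rfl | rfl | rfl
    · rw [f0, t0]
    · rw [f1, t1]
    · rw [f2, t2]
    · rw [f3, t3]
    · rw [f4, t4]
    · rw [f5, t5]
    · exact t6
    · exact t7
    · exact t8
    · exact t9
  refine ⟨i, i.2, j, j.2, ?_⟩
  rcases f6 with g6 | g6 <;> rcases f89 with ⟨g8, g9⟩ | ⟨hm1, g8, g9⟩
  · -- identity
    left
    have : σ' = 1 := by
      refine hall 1 rfl rfl rfl rfl rfl rfl g6 ?_ g8 g9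
      rw [f7, g6]; interval_cases m <;> decide
    rw [hσ, this, mul_one]
  · -- swap of the last two points, odd
    exfalso
    clear_value σ' t
    subst hm1
    have h5 : σ' = swap 8 9 := by
      refine hall (swap 8 9) (by decide) (by decide) (by decide) (by decide) (by decide)
        (by decide) ?_ ?_ ?_ ?_
      · rw [g6]; decide
      · rw [f7, g6]; decide
      · rw [g8]; decide
      · rw [g9]; decide
    rw [h5] at hs'
    revert hs'; decide
  · exfalso
    have h5 : σ' = swap 6 7 := by
      refine hall (swap 6 7) ?_ ?_ ?_ ?_ ?_ ?_ ?_ ?_ ?_ ?_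
      · interval_cases m <;> decide
      · interval_cases m <;> decide
      · interval_cases m <;> decide
      · interval_cases m <;> decide
      · interval_cases m <;> decide
      · interval_cases m <;> decide
      · rw [g6]; interval_cases m <;> decide
      · rw [f7, g6]; interval_cases m <;> decide
      · rw [g8]; interval_cases m <;> decide
      · rw [g9]; interval_cases m <;> decide
    rw [h5] at hs'
    revert hs'; interval_cases m <;> decide
  · right
    refine ⟨hm1, ?_⟩
    have h5 : σ' = swap 6 7 * swap 8 (Fin.last _) := by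
      refine hall (swap 6 7 * swap 8 (Fin.last _)) ?_ ?_ ?_ ?_ ?_ ?_ ?_ ?_ ?_ ?_
      · interval_cases m <;> decide
      · interval_cases m <;> decide
      · interval_cases m <;> decide
      · interval_cases m <;> decide
      · interval_cases m <;> decide
      · interval_cases m <;> decide
      · rw [g6]; interval_cases m <;> decide
      · rw [f7, g6]; interval_cases m <;> decide
      · rw [g8]; interval_cases m <;> decide
      · rw [g9]; interval_cases m <;> decide
    rw [hσ, h5]

end Cfsg.Agent.SporRec.TwoNine.PermFacts2
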