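import Cfsg.Agent.SporRec.TwoNine.PermFacts
import Cfsg.Agent.SporRec.TwoNine.Cv

/-!
# Normal subgroups of the centraliser of a 3-cycle not containing the central involution
-/

set_option autoImplicit false

namespace Cfsg.Agent.SporRec.TwoNine.QS

open Equiv Equiv.Perm
open Cfsg.Agent.SporRec.TwoNine.Perms Cfsg.Agent.SporRec.TwoNine.PermFacts
  Cfsg.Agent.SporRec.TwoNine.Cv

variable {m : ℕ}

/-- the points different from `0, 1, 2` -/
abbrev Pt (m : ℕ) := {x : Fin (m + 9) // 3 ≤ x.val}

theorem lt_three (hm : m < 2) {x : Fin (m + 9)} (h : ¬ 3 ≤ x.val) : x = 0 ∨ x = 1 ∨ x = 2 := by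
  revert x; interval_cases m <;> decide

theorem commute_ofSubtype (hm : m < 2) (τ : Perm (Pt m)) : Commute (ofSubtype τ) (sa m) := by
  have hd : Equiv.Perm.Disjoint (ofSubtype τ) (sa m) := by
    intro x
    by_cases hx : 3 ≤ x.val
    · right; revert x; interval_cases m <;> decide
    · left; exact ofSubtype_apply_of_not_mem τ hx
  exact hd.commute

/-- an even permutation commuting with `sa` is a product of a power of `sa` and an even permutation
of the points different from `0, 1, 2` -/
theorem exists_ofSubtype (hm : m < 2) {σ : Perm (Fin (m + 9))} (hc : Commute σ (sa m)) :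
    ∃ τ : Perm (Pt m), ∃ i < 3, σ = ofSubtype τ * sa m ^ i ∧ sign τ = sign σ := by
  obtain ⟨i, hi, h0, h1, h2⟩ := exists_sa hm hc
  set ρ := σ * sa m ^ i with hρ
  have hfix : ∀ x : Fin (m + 9), ¬ 3 ≤ x.val → ρ x = x := by
    intro x hx
    rcases lt_three hm hx with rfl | rfl | rfl
    · exact h0
    · exact h1
    · exact h2
  have hmem : ∀ x : Fin (m + 9), 3 ≤ (ρ x).val ↔ 3 ≤ x.val := by
    intro x
    constructor
    · intro hx
      by_contra hno
      rw [hfix x hno] at hx
      exact hno hx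
    · intro hx
      by_contra hno
      have e := hfix _ hno
      have e' := ρ.injective e
      rw [e'] at hno
      exact hno hx
  have hr : ofSubtype (ρ.subtypePerm hmem) = ρ := ofSubtype_subtypePerm hmem (by
    intro x hx
    by_contra hno
    exact hx (hfix x hno))
  have h3 : sa m ^ 3 = 1 := by
    rw [sa]; exact cube_of_cycle (by interval_cases m <;> decide) (by interval_cases m <;> decide)
      (by interval_cases m <;> decide)
  have hsig : σ = ρ * sa m ^ (3 - i) := by
    rw [hρ, mul_assoc, ← pow_add, Nat.add_sub_cancel' (by omega), h3, mul_one]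
  have hsa : sign (sa m) = 1 := by interval_cases m <;> decide
  refine ⟨ρ.subtypePerm hmem, (3 - i) % 3, Nat.mod_lt _ (by omega), ?_, ?_⟩
  · rw [hr]
    nth_rewrite 1 [hsig]
    congr 1
    rw [← pow_mod_orderOf, ← pow_mod_orderOf (sa m) ((3 - i) % 3), (isThreeCycle_sa hm).orderOf,
      Nat.mod_mod]
  · rw [← sign_ofSubtype, hr, hρ, map_mul, map_pow, hsa, one_pow, mul_one]

variable {G : Type*} [Group G] {z : G} {p : G → Perm (Fin (m + 9))}

/-- A subgroup of `C(z) ∩ C(a)` normalised by `C(z) ∩ C(a)` and not containing `z` is contained in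
`⟨a, z⟩`. -/
theorem qs (hm : m < 2) (h : Cv (m + 9) z p) {a : G} (ha : Commute a z) (ha3 : a ^ 3 = 1)
    (hpa : p a = sa m) (M : Subgroup G) (hMz : ∀ x ∈ M, Commute x z) (hMa : ∀ x ∈ M, Commute x a)
    (hn : ∀ g, Commute g z → Commute g a → ∀ x ∈ M, g * x * g⁻¹ ∈ M) (hz : z ∉ M) :
    ∀ x ∈ M, ∃ i < 3, p x = sa m ^ i := by
  have hpc : ∀ {x : G}, Commute x z → Commute x a → Commute (p x) (sa m) := by
    intro x hx hxa
    have h1 : p (x * a) = p (a * x) := by rw [hxa.eq]
    rw [h.mul hx ha, h.mul ha hx, hpa] at h1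
    exact h1
  -- the images
  let S : Subgroup (alternatingGroup (Pt m)) :=
    { carrier := {τ | ∃ x ∈ M, ∃ i : ℕ, p x = ofSubtype (τ : Perm (Pt m)) * sa m ^ i}
      one_mem' := ⟨1, M.one_mem, 0, by rw [h.one, pow_zero]; simp⟩
      mul_mem' := by
        rintro τ τ' ⟨x, hx, i, hi⟩ ⟨y, hy, j, hj⟩
        refine ⟨x * y, M.mul_mem hx hy, i + j, ?_⟩
        rw [h.mul (hMz x hx) (hMz y hy), hi, hj, Subgroup.coe_mul, map_mul, pow_add]
        have hc := ((commute_ofSubtype hm (τ' : Perm (Pt m))).pow_right i).eq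
        calc ofSubtype (τ : Perm (Pt m)) * sa m ^ i * (ofSubtype (τ' : Perm (Pt m)) * sa m ^ j)
            = ofSubtype (τ : Perm (Pt m)) * (sa m ^ i * ofSubtype (τ' : Perm (Pt m))) * sa m ^ j := by
              group
          _ = _ := by rw [← hc]; group
      inv_mem' := by
        rintro τ ⟨x, hx, i, hi⟩
        have h3 : (sa m ^ i)⁻¹ = sa m ^ (2 * i) := by
          rw [inv_eq_iff_mul_eq_one, ← pow_add]
          have : i + 2 * i = 3 * i := by ring
          rw [this, pow_mul, ← (isThreeCycle_sa hm).orderOf, pow_orderOf_eq_one, one_pow]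
        refine ⟨x⁻¹, M.inv_mem hx, 2 * i, ?_⟩
        rw [h.inv (hMz x hx), hi, mul_inv_rev, Subgroup.coe_inv, map_inv, h3]
        exact (((commute_ofSubtype hm (τ : Perm (Pt m))).inv_left).pow_right (2 * i)).eq.symm }
  have hSn : S.Normal := by
    refine ⟨?_⟩
    rintro τ ⟨x, hx, i, hi⟩ κ
    have hs : sign (ofSubtype (κ : Perm (Pt m))) = 1 := by
      rw [sign_ofSubtype]; exact κ.2
    obtain ⟨g, hg, hgp⟩ := h.surj hs
    have hga : Commute g a := by
      refine h.comm_cube hg ha ha3 ?_
      rw [hgp, hpa]; exact (commute_ofSubtype hm _).eq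
    refine ⟨g * x * g⁻¹, hn g hg hga x hx, i, ?_⟩
    rw [h.conj hg (hMz x hx), hgp, hi, Subgroup.coe_mul, Subgroup.coe_mul, Subgroup.coe_inv,
      map_mul, map_mul, map_inv]
    have hc := ((commute_ofSubtype hm (κ : Perm (Pt m))).inv_left.pow_right i).eq
    calc _ = ofSubtype (κ : Perm (Pt m)) * ofSubtype (τ : Perm (Pt m)) *
        (sa m ^ i * (ofSubtype (κ : Perm (Pt m)))⁻¹) := by group
      _ = _ := by rw [← hc]; group
  have hcard : 5 ≤ Nat.card (Pt m) := by
    rw [Nat.card_eq_fintype_card]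
    interval_cases m <;> decide
  have hsimple : IsSimpleGroup (alternatingGroup (Pt m)) := alternatingGroup.isSimpleGroup hcard
  rcases hSn.eq_bot_or_eq_top with hS | hS
  · intro x hx
    obtain ⟨τ, i, hi, hτ, hτs⟩ := exists_ofSubtype hm (hpc (hMz x hx) (hMa x hx))
    have hmem : (⟨τ, by rw [mem_alternatingGroup, hτs, h.sgn (hMz x hx)]⟩ :
        alternatingGroup (Pt m)) ∈ S := ⟨x, hx, i, hτ⟩
    rw [hS, Subgroup.mem_bot] at hmem
    have h1 : τ = 1 := congrArg Subtype.val hmem
    refine ⟨i, hi, ?_⟩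
    rw [hτ, h1, map_one, one_mul]
  · exfalso
    let τ : Perm (Pt m) := swap ⟨3, by interval_cases m <;> decide⟩ ⟨4, by interval_cases m <;> decide⟩ *
      swap ⟨5, by interval_cases m <;> decide⟩ ⟨6, by interval_cases m <;> decide⟩
    have hτe : ofSubtype τ = swap 3 4 * swap 5 6 := by
      rw [map_mul, ofSubtype_swap_eq, ofSubtype_swap_eq]
    have hτs : τ ∈ alternatingGroup (Pt m) := by
      rw [mem_alternatingGroup, ← sign_ofSubtype, hτe]
      interval_cases m <;> decide
    have hmem : (⟨τ, hτs⟩ : alternatingGroup (Pt m)) ∈ S := by rw [hS]; trivial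
    obtain ⟨x, hx, i, hi⟩ := hmem
    have hx3 : p (x ^ 3) = swap 3 4 * swap 5 6 := by
      rw [h.pow (hMz x hx), hi]
      change (ofSubtype τ * sa m ^ i) ^ 3 = _
      have hsa3 : sa m ^ 3 = 1 := by
        rw [sa]; exact cube_of_cycle (by interval_cases m <;> decide)
          (by interval_cases m <;> decide) (by interval_cases m <;> decide)
      rw [((commute_ofSubtype hm τ).pow_right i).mul_pow, ← pow_mul, mul_comm i 3, pow_mul,
        hsa3, one_pow, mul_one, hτe]
      interval_cases m <;> decide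
    have h4 := h.two ((hMz x hx).pow_left 3) (by interval_cases m <;> decide) hx3
    apply hz
    rw [← h4]
    exact M.mul_mem (M.pow_mem hx 3) (M.pow_mem hx 3)

end Cfsg.Agent.SporRec.TwoNine.QS
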