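import Cfsg.Agent.SporRec.TwoNine.FuseX

/-!
# The case where the centraliser of the 3-cycle is contained in `C(z)`: the order of `C(r)`
-/

set_option autoImplicit false

namespace Cfsg.Agent.SporRec.TwoNine.S27

open Equiv Equiv.Perm Subgroup Cfsg
open Cfsg.Agent.Lib
open Cfsg.Agent.SporRec.TwoNine.Cv Cfsg.Agent.SporRec.TwoNine.Perms
  Cfsg.Agent.SporRec.TwoNine.PermFacts Cfsg.Agent.SporRec.TwoNine.PermFacts2
  Cfsg.Agent.SporRec.TwoNine.PermFacts3 Cfsg.Agent.SporRec.TwoNine.Basic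
  Cfsg.Agent.SporRec.TwoNine.Lifts Cfsg.Agent.SporRec.TwoNine.Lifts.Data
  Cfsg.Agent.SporRec.TwoNine.Vx Cfsg.Agent.SporRec.TwoNine.Fuse

variable {G : Type*} [Group G]

/-- a 3-subgroup of non-maximal order is normal in a larger 3-subgroup -/
theorem exists_normalizing [Finite G] {W H : Subgroup G} (hHW : H ≤ W) {n : ℕ}
    (hH : Nat.card H = 3 ^ n) (hd : 3 ^ (n + 1) ∣ Nat.card W) :
    ∃ K : Subgroup G, K ≤ W ∧ H ≤ K ∧ Nat.card K = 3 ^ (n + 1) ∧
      ∀ k ∈ K, ∀ h ∈ H, k * h * k⁻¹ ∈ H := by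
  have hf3 : Fact (Nat.Prime 3) := ⟨by norm_num⟩
  have hH' : Nat.card (H.subgroupOf W) = 3 ^ n := by
    rw [Nat.card_congr (subgroupOfEquivOfLe hHW).toEquiv, hH]
  obtain ⟨K, hK, hle⟩ := Sylow.exists_subgroup_card_pow_succ hd hH'
  have hK' : Nat.card (K.map W.subtype) = 3 ^ (n + 1) := by
    rw [← hK]
    exact (Nat.card_congr (K.equivMapOfInjective W.subtype W.subtype_injective).toEquiv).symm
  have hHK : H ≤ K.map W.subtype := by
    intro h hh
    exact ⟨⟨h, hHW hh⟩, hle (mem_subgroupOf.2 hh), rfl⟩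
  refine ⟨K.map W.subtype, ?_, hHK, hK', ?_⟩
  · rintro _ ⟨k, -, rfl⟩; exact k.2
  · set K' := K.map W.subtype with hK'def
    have hnorm : (H.subgroupOf K').Normal := by
      apply normal_of_index_eq_minFac_card
      have h1 : Nat.card (H.subgroupOf K') = 3 ^ n := by
        rw [Nat.card_congr (subgroupOfEquivOfLe hHK).toEquiv, hH]
      have h2 := (H.subgroupOf K').index_mul_card
      rw [h1, hK', pow_succ, mul_comm (3 ^ n) 3] at h2
      have h3 : (H.subgroupOf K').index = 3 := Nat.eq_of_mul_eq_mul_right (by positivity) h2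
      rw [h3, hK', Nat.pow_minFac (by omega), Nat.Prime.minFac_eq (by norm_num)]
    intro k hk h hh
    have := hnorm.conj_mem ⟨h, hHK hh⟩ (mem_subgroupOf.2 hh) ⟨k, hk⟩
    exact mem_subgroupOf.1 this

/-- Sylow: a 3-element is conjugate into a subgroup of maximal 3-power order -/
theorem exists_conj_mem [Finite G] {W H : Subgroup G} (hHW : H ≤ W) {n : ℕ}
    (hH : Nat.card H = 3 ^ n) (hd : ¬ 3 ^ (n + 1) ∣ Nat.card W) {x : G} (hx : x ∈ W) {k : ℕ}
    (hxk : x ^ 3 ^ k = 1) : ∃ w ∈ W, w * x * w⁻¹ ∈ H := by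
  have hf3 : Fact (Nat.Prime 3) := ⟨by norm_num⟩
  have hH' : Nat.card (H.subgroupOf W) = 3 ^ n := by
    rw [Nat.card_congr (subgroupOfEquivOfLe hHW).toEquiv, hH]
  have hf : (Nat.card W).factorization 3 = n := by
    have h1 : n ≤ (Nat.card W).factorization 3 := by
      rw [← Nat.Prime.pow_dvd_iff_le_factorization (by norm_num) Nat.card_pos.ne', ← hH']
      exact card_subgroup_dvd_card _
    have h2 : ¬ n + 1 ≤ (Nat.card W).factorization 3 := by
      rw [← Nat.Prime.pow_dvd_iff_le_factorization (by norm_num) Nat.card_pos.ne']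
      exact hd
    omega
  let P : Sylow 3 W := Sylow.ofCard (H.subgroupOf W) (by rw [hf, hH'])
  have hp : IsPGroup 3 (zpowers (⟨x, hx⟩ : W)) := by
    rintro ⟨y, i, rfl⟩
    refine ⟨k, Subtype.ext ?_⟩
    have h1 : (⟨x, hx⟩ : W) ^ 3 ^ k = 1 := Subtype.ext (by simpa using hxk)
    change ((⟨x, hx⟩ : W) ^ i) ^ 3 ^ k = 1
    rw [← zpow_natCast, ← zpow_mul, mul_comm, zpow_mul, zpow_natCast, h1, one_zpow]
  obtain ⟨Q, hQ⟩ := hp.exists_le_sylow
  obtain ⟨w, hw⟩ := MulAction.exists_smul_eq W Q P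
  refine ⟨w, w.2, ?_⟩
  have h1 : w * (⟨x, hx⟩ : W) * w⁻¹ ∈ (P : Subgroup W) := by
    rw [← hw, Sylow.coe_subgroup_smul, Subgroup.mem_pointwise_smul_iff_inv_smul_mem]
    have : (MulAut.conj w)⁻¹ • (w * (⟨x, hx⟩ : W) * w⁻¹) = ⟨x, hx⟩ := by
      rw [← map_inv, MulAut.smul_def, MulAut.conj_apply]; group
    rw [this]
    exact hQ (mem_zpowers _)
  exact mem_subgroupOf.1 h1

/-- a 3-element normalising a subgroup of maximal 3-power order lies in it -/
theorem mem_of_normalizes [Finite G] {W H : Subgroup G} (hHW : H ≤ W) {n : ℕ}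
    (hH : Nat.card H = 3 ^ n) (hd : ¬ 3 ^ (n + 1) ∣ Nat.card W) {x : G} (hx : x ∈ W) {k : ℕ}
    (hxk : x ^ 3 ^ k = 1) (hn : ∀ h ∈ H, x * h * x⁻¹ ∈ H) : x ∈ H := by
  have hf3 : Fact (Nat.Prime 3) := ⟨by norm_num⟩
  have hH' : Nat.card (H.subgroupOf W) = 3 ^ n := by
    rw [Nat.card_congr (subgroupOfEquivOfLe hHW).toEquiv, hH]
  have hf : (Nat.card W).factorization 3 = n := by
    have h1 : n ≤ (Nat.card W).factorization 3 := by
      rw [← Nat.Prime.pow_dvd_iff_le_factorization (by norm_num) Nat.card_pos.ne', ← hH']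
      exact card_subgroup_dvd_card _
    have h2 : ¬ n + 1 ≤ (Nat.card W).factorization 3 := by
      rw [← Nat.Prime.pow_dvd_iff_le_factorization (by norm_num) Nat.card_pos.ne']
      exact hd
    omega
  let P : Sylow 3 W := Sylow.ofCard (H.subgroupOf W) (by rw [hf, hH'])
  have hp : IsPGroup 3 (zpowers (⟨x, hx⟩ : W)) := by
    rintro ⟨y, i, rfl⟩
    refine ⟨k, Subtype.ext ?_⟩
    have h1 : (⟨x, hx⟩ : W) ^ 3 ^ k = 1 := Subtype.ext (by simpa using hxk)
    change ((⟨x, hx⟩ : W) ^ i) ^ 3 ^ k = 1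
    rw [← zpow_natCast, ← zpow_mul, mul_comm, zpow_mul, zpow_natCast, h1, one_zpow]
  have hle : zpowers (⟨x, hx⟩ : W) ≤ normalizer (P : Set W) := by
    rw [zpowers_le]
    refine Gen.mem_normalizer_of_conj (N := (P : Subgroup W)) ?_
    intro y hy
    exact mem_subgroupOf.2 (hn _ (mem_subgroupOf.1 hy))
  have h1 := hp.inf_normalizer_sylow P
  have h2 : (⟨x, hx⟩ : W) ∈ zpowers (⟨x, hx⟩ : W) ⊓ normalizer (P : Set W) :=
    mem_inf.2 ⟨mem_zpowers _, hle (mem_zpowers _)⟩
  rw [h1] at h2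
  exact mem_subgroupOf.1 (mem_inf.1 h2).2


variable {m : ℕ} (D : Data G m)

theorem card_centralizer_r (hm : m < 2) :
    ¬ 81 ∣ Nat.card (centralizer {sa m * sb m} : Subgroup (Perm (Fin (m + 9)))) := by
  rw [Equiv.Perm.nat_card_centralizer, cycleType_sab hm]
  interval_cases m <;> simp <;> decide

theorem A_le : D.A ≤ centralizer {D.r} := by
  intro x hx
  rw [mem_centralizer_singleton_iff]
  exact D.A_comm hx D.rA

/-- the order of the centraliser of `r` -/
theorem not_81_dvd [Finite G] (H1 : ∀ y, Commute y D.a → Commute y D.z) :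
    ¬ 3 ^ (3 + 1) ∣ Nat.card (centralizer {D.r}) := by
  intro hd
  obtain ⟨K, hKW, hAK, hK, hn⟩ := exists_normalizing (A_le D) (n := 3) (by rw [D.card_A]; rfl) hd
  have hKr : ∀ k ∈ K, Commute k D.r := fun k hk => mem_centralizer_singleton_iff.1 (hKW hk)
  have hKz : ∀ k ∈ K, Commute k D.z := by
    intro k hk
    have h1 : ∀ w ∈ D.A, Commute (k * D.z * k⁻¹) w := by
      intro w hw
      have h2 : k⁻¹ * w * k ∈ D.A := by
        have := hn k⁻¹ (inv_mem hk) w hw
        rwa [inv_inv] at this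
      have h3 : Commute (k * D.z * k⁻¹) (k * (k⁻¹ * w * k) * k⁻¹) :=
        SemiconjBy.conj_iff.2 (D.commute_z_of_mem_A h2).symm
      have h4 : k * (k⁻¹ * w * k) * k⁻¹ = w := by group
      rwa [h4] at h3
    have h2 := H1 _ (h1 _ D.aA)
    have h3 := mem_A_or_of_plane D (e := 1) (Or.inl rfl) h2 (h1 _ D.rA)
      (h1 _ (mul_mem D.aA (pow_mem D.cA 1)))
    have h4 := eq_z_of_involution D h3 h2 (by
      calc k * D.z * k⁻¹ * (k * D.z * k⁻¹) = k * (D.z * D.z) * k⁻¹ := by group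
        _ = 1 := by rw [D.zz]; group) (by
      intro h5
      apply D.z_ne_one
      calc D.z = k⁻¹ * (k * D.z * k⁻¹) * k := by group
        _ = 1 := by rw [h5]; group)
    exact mul_inv_eq_iff_eq_mul.1 h4
  let φ : K →* (centralizer {sa m * sb m} : Subgroup (Perm (Fin (m + 9)))) :=
    { toFun := fun k => ⟨D.p k, by
        rw [mem_centralizer_singleton_iff, ← D.pr]
        exact p_comm D (hKz k k.2) D.rz (hKr k k.2)⟩
      map_one' := Subtype.ext D.cv.one
      map_mul' := fun x y => Subtype.ext (D.cv.mul (hKz x x.2) (hKz y y.2)) }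
  have hinj : Function.Injective φ := by
    rw [injective_iff_map_eq_one]
    intro k hk
    have h1 : D.p k = 1 := congrArg Subtype.val hk
    rcases D.cv.ker (hKz k k.2) h1 with h2 | h2
    · exact Subtype.ext h2
    · exfalso
      have h3 : Odd (orderOf (k : G)) := by
        refine Gen.orderOf_odd_of_mem (N := K) ?_ k.2
        rw [hK]; exact Odd.pow (by decide)
      rw [h2] at h3
      exact D.z_ne_one (Gen.eq_one_of_odd h3 D.zz)
  have h2 := Subgroup.card_dvd_of_injective φ hinj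
  rw [hK] at h2
  exact card_centralizer_r D.hm (by simpa using h2)

/-- every 3-element commuting with `r` is conjugate into `A` -/
theorem conj_into_A [Finite G] (H1 : ∀ y, Commute y D.a → Commute y D.z) {x : G}
    (xr : Commute x D.r) {k : ℕ} (hx : x ^ 3 ^ k = 1) : ∃ w, Commute w D.r ∧ w * x * w⁻¹ ∈ D.A := by
  obtain ⟨w, hw, h⟩ := exists_conj_mem (A_le D) (n := 3) (by rw [D.card_A]; rfl)
    (not_81_dvd D H1) (mem_centralizer_singleton_iff.2 xr) hx
  exact ⟨w, mem_centralizer_singleton_iff.1 hw, h⟩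

end Cfsg.Agent.SporRec.TwoNine.S27
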