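import Cfsg.Agent.SporRec.TwoNine.Fuse
import Cfsg.Agent.S0058

/-!
# The 2-core of the centraliser of the four-group, and fusion of elements of order three
-/

set_option autoImplicit false

namespace Cfsg.Agent.SporRec.TwoNine.TwoCore

open Equiv Equiv.Perm Subgroup Cfsg
open Cfsg.Agent.Lib
open Cfsg.Agent.SporRec.TwoNine.Cv Cfsg.Agent.SporRec.TwoNine.Perms
  Cfsg.Agent.SporRec.TwoNine.PermFacts Cfsg.Agent.SporRec.TwoNine.PermFacts2
  Cfsg.Agent.SporRec.TwoNine.PermFacts3 Cfsg.Agent.SporRec.TwoNine.Basic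
  Cfsg.Agent.SporRec.TwoNine.Lifts Cfsg.Agent.SporRec.TwoNine.Lifts.Data
  Cfsg.Agent.SporRec.TwoNine.Vx Cfsg.Agent.SporRec.TwoNine.Fuse

variable {G : Type*} [Group G]

/-- the 2-core of a subgroup -/
def tc (N : Subgroup G) : Subgroup G := (pCore 2 N).map N.subtype

theorem tc_le (N : Subgroup G) : tc N ≤ N := by
  rintro _ ⟨x, -, rfl⟩
  exact x.2

theorem isPGroup_tc (N : Subgroup G) : IsPGroup 2 (tc N) :=
  (Cores.pCore_isPGroup 2).map _

theorem le_tc {N M : Subgroup G} (hMN : M ≤ N) (hn : ∀ g ∈ N, ∀ m ∈ M, g * m * g⁻¹ ∈ M)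
    (ho : ∀ x ∈ M, x ^ 4 = 1) : M ≤ tc N := by
  have h1 : (M.subgroupOf N).Normal := by
    refine ⟨fun m hm g => ?_⟩
    rw [mem_subgroupOf] at hm ⊢
    exact hn g g.2 m hm
  have h2 : IsPGroup 2 (M.subgroupOf N) := by
    rintro ⟨x, hx⟩
    refine ⟨2, Subtype.ext (Subtype.ext ?_)⟩
    have := ho x (mem_subgroupOf.1 hx)
    simpa using this
  intro m hm
  exact ⟨⟨m, hMN hm⟩, Cores.le_pCore h1 h2 (mem_subgroupOf.2 hm), rfl⟩

theorem tc_conj {N : Subgroup G} {g : G} (hg : g ∈ normalizer (N : Set G)) {k : G}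
    (hk : k ∈ tc N) : g * k * g⁻¹ ∈ tc N := by
  obtain ⟨y, hy, rfl⟩ := hk
  let e : N ≃* N := N.normalizerMonoidHom ⟨g, hg⟩
  have h1 := Cores.map_equiv_pCore e 2
  have h2 : e y ∈ pCore 2 N := by
    rw [← h1]
    exact mem_map_of_mem _ hy
  exact ⟨e y, h2, rfl⟩

variable {m : ℕ} (D : Data G m)

theorem app_inv {α : Type*} (σ : Perm α) (x : α) : σ (σ⁻¹ x) = x := σ.apply_symm_apply x

/-- `u` commutes with the lifts of suitable double transpositions -/
theorem comm_u_of {s : G} (hs : Commute s D.z) {a b c d e f k l : Fin (m + 9)}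
    (hp : D.p s = swap a b * swap c d) (hn : [a, b, c, d].Nodup)
    (hn' : [e, f, k, l].Nodup)
    (hp' : swap a b * swap c d * su m = swap e f * swap k l) : Commute s D.u := by
  have h1 := D.cv.two hs hn hp
  have h2 := D.cv.two (hs.mul_left D.uz) hn' (by rw [D.cv.mul hs D.uz, hp, D.pu, hp'])
  -- s u s u = z, s s = z
  have h3 : s⁻¹ = s * D.z := by
    rw [inv_eq_iff_mul_eq_one]
    calc s * (s * D.z) = s * s * D.z := by group
      _ = 1 := by rw [h1, D.zz]
  refine mul_inv_eq_iff_eq_mul.1 ?_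
  calc s * D.u * s⁻¹ = s * D.u * (s * D.z) := by rw [h3]
    _ = s * D.u * (s * D.u) * D.u⁻¹ * D.z := by group
    _ = D.z * D.u⁻¹ * D.z := by rw [h2]
    _ = D.u := by rw [D.u_inv, ← D.uz.eq, mul_assoc, D.zz, mul_one]

/-- the subgroup of `C(z) ∩ C(u)` preserving the orbits of `u` -/
def E : Subgroup G where
  carrier := {g | g ∈ Cd D ∧ ∀ i, D.p g i = i ∨ D.p g i = su m i}
  one_mem' := ⟨one_mem _, fun i => Or.inl (by rw [D.cv.one]; rfl)⟩
  mul_mem' := by
    rintro g h ⟨hg, hg'⟩ ⟨hh, hh'⟩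
    refine ⟨mul_mem hg hh, fun i => ?_⟩
    have hsu : ∀ x, su m (su m x) = x := by
      have := D.hm; interval_cases m <;> decide
    rw [D.cv.mul ((mem_Cd D).1 hg).1 ((mem_Cd D).1 hh).1, Perm.mul_apply]
    rcases hh' i with h1 | h1
    · rw [h1]; exact hg' i
    · rw [h1]
      rcases hg' (su m i) with h2 | h2
      · right; exact h2
      · left; rw [h2, hsu]
  inv_mem' := by
    rintro g ⟨hg, hg'⟩
    refine ⟨inv_mem hg, fun i => ?_⟩
    have hsu : ∀ x, su m (su m x) = x := by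
      have := D.hm; interval_cases m <;> decide
    rw [D.cv.inv ((mem_Cd D).1 hg).1]
    have h1 := hg' ((D.p g)⁻¹ i)
    rw [app_inv] at h1
    rcases h1 with h1 | h1
    · left; exact h1.symm
    · right
      rw [h1, hsu]
      nth_rewrite 2 [h1]
      rfl

theorem E_le : E D ≤ tc (Cd D) := by
  have h := D.cv
  have hsu : ∀ x, su m (su m x) = x := by
    have := D.hm; interval_cases m <;> decide
  refine le_tc (fun g hg => hg.1) ?_ ?_
  · rintro g hg k ⟨hk, hk'⟩
    refine ⟨mul_mem (mul_mem hg hk) (inv_mem hg), fun i => ?_⟩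
    obtain ⟨gz, gu⟩ := (mem_Cd D).1 hg
    obtain ⟨kz, ku⟩ := (mem_Cd D).1 hk
    rw [h.conj gz kz, Perm.mul_apply, Perm.mul_apply]
    have hc : Commute (D.p g) (su m) := by
      rw [← D.pu]; exact p_comm D gz D.uz gu
    rcases hk' ((D.p g)⁻¹ i) with h1 | h1
    · left; rw [h1, app_inv]
    · right; rw [h1, comm_apply hc, app_inv]
  · rintro g ⟨hg, hg'⟩
    obtain ⟨gz, gu⟩ := (mem_Cd D).1 hg
    have h1 : D.p (g * g) = 1 := by
      rw [h.mul gz gz]
      refine Equiv.ext fun i => ?_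
      rw [Perm.mul_apply, Perm.one_apply]
      rcases hg' i with h2 | h2
      · rw [h2, h2]
      · rw [h2]
        rcases hg' (su m i) with h3 | h3
        · have h4 : D.p g (su m i) = D.p g i := by rw [h3, h2]
          have h5 := (D.p g).injective h4
          rw [h3, h5]
        · rw [h3, hsu]
    have h2 : g ^ 4 = (g * g) * (g * g) := by
      simp only [pow_succ, pow_zero, one_mul, mul_assoc]
    rw [h2]
    rcases h.ker (gz.mul_left gz) h1 with h3 | h3
    · rw [h3, mul_one]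
    · rw [h3, D.zz]

theorem exists_pair : ∃ s ∈ tc (Cd D), ∃ t ∈ tc (Cd D), s * t * s⁻¹ * t⁻¹ = D.z := by
  have h := D.cv
  have hm := D.hm
  obtain ⟨s, sz, ps⟩ := h.surj (σ := swap 0 3 * swap 1 4) (by interval_cases m <;> decide)
  obtain ⟨t, tz, pt⟩ := h.surj (σ := swap 0 3 * swap 2 5) (by interval_cases m <;> decide)
  have su' : Commute s D.u := comm_u_of D sz ps (e := 2) (f := 5) (k := 6) (l := 7)
    (by interval_cases m <;> decide) (by interval_cases m <;> decide)
    (by interval_cases m <;> decide)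
  have tu' : Commute t D.u := comm_u_of D tz pt (e := 1) (f := 4) (k := 6) (l := 7)
    (by interval_cases m <;> decide) (by interval_cases m <;> decide)
    (by interval_cases m <;> decide)
  refine ⟨s, E_le D ⟨(mem_Cd D).2 ⟨sz, su'⟩, ?_⟩, t, E_le D ⟨(mem_Cd D).2 ⟨tz, tu'⟩, ?_⟩, ?_⟩
  · rw [ps]; interval_cases m <;> decide
  · rw [pt]; interval_cases m <;> decide
  · have h1 : s * s = D.z := h.two sz (by interval_cases m <;> decide) ps
    have h2 : t * t = D.z := h.two tz (by interval_cases m <;> decide) pt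
    have h3 : s * t * (s * t) = D.z := h.two (a := 1) (b := 4) (c := 2) (d := 5)
      (sz.mul_left tz) (by interval_cases m <;> decide)
      (by rw [h.mul sz tz, ps, pt]; interval_cases m <;> decide)
    have s' : s⁻¹ = s * D.z := by
      rw [inv_eq_iff_mul_eq_one]
      calc s * (s * D.z) = s * s * D.z := by group
        _ = 1 := by rw [h1, D.zz]
    calc s * t * s⁻¹ * t⁻¹ = s * t * (s * D.z) * t⁻¹ := by rw [s']
      _ = s * t * s * (D.z * t⁻¹) := by group
      _ = s * t * s * (t⁻¹ * D.z) := by rw [tz.inv_left.eq]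
      _ = (s * t * (s * t)) * (t * t)⁻¹ * D.z := by group
      _ = D.z := by rw [h3, h2, mul_inv_cancel, one_mul]

end Cfsg.Agent.SporRec.TwoNine.TwoCore
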