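import Cfsg.Agent.SporRec.TwoNine.Lifts
import Cfsg.Agent.SporRec.TwoNine.Gen

/-!
# An element centralising `r` and permuting the three involutions of the four-group cyclically
-/

set_option autoImplicit false

namespace Cfsg.Agent.SporRec.TwoNine.Vx

open Equiv Equiv.Perm Subgroup
open Cfsg.Agent.SporRec.TwoNine.Cv Cfsg.Agent.SporRec.TwoNine.Perms
  Cfsg.Agent.SporRec.TwoNine.PermFacts Cfsg.Agent.SporRec.TwoNine.PermFacts2
  Cfsg.Agent.SporRec.TwoNine.PermFacts3 Cfsg.Agent.SporRec.TwoNine.Basic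
  Cfsg.Agent.SporRec.TwoNine.Lifts Cfsg.Agent.SporRec.TwoNine.Lifts.Data

variable {G : Type*} [Group G] {m : ℕ} (D : Data G m)

/-- the centraliser of `z`, `u` and `r` -/
theorem commute_zur {y : G} (hz : Commute y D.z) (hu : Commute y D.u) (hr : Commute y D.r) :
    ∃ i < 3, ∃ j < 2, ∃ k < 2, y = D.r ^ i * D.u ^ j * D.z ^ k := by
  have h := D.cv
  have hm := D.hm
  have e1 : Commute (D.p y) (su m) := by
    rw [← D.pu]
    change _ * _ = _ * _
    rw [← h.mul hz D.uz, hu.eq, h.mul D.uz hz]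
  have e2 : Commute (D.p y) (sa m * sb m) := by
    rw [← D.pr]
    change _ * _ = _ * _
    rw [← h.mul hz D.rz, hr.eq, h.mul D.rz hz]
  obtain ⟨i, hi, j, hj, e3 | ⟨hm1, e3⟩⟩ := commute_su_sab hm (h.sgn hz) e1 e2
  · have hc : Commute (D.r ^ i * D.u ^ j) D.z := (D.rz.pow_left _).mul_left (D.uz.pow_left _)
    have e4 : D.p (D.r ^ i * D.u ^ j) = D.p y := by
      rw [e3, h.mul (D.rz.pow_left _) (D.uz.pow_left _), h.pow D.rz, h.pow D.uz, D.pr, D.pu]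
    rcases h.eq_or hz hc e4.symm with e5 | e5
    · exact ⟨i, hi, j, hj, 0, by omega, by rw [e5, pow_zero, mul_one]⟩
    · exact ⟨i, hi, j, hj, 1, by omega, by rw [e5, pow_one]⟩
  · exfalso
    set w := (D.r ^ i * D.u ^ j)⁻¹ * y with hw
    have hc : Commute (D.r ^ i * D.u ^ j) D.z := (D.rz.pow_left _).mul_left (D.uz.pow_left _)
    have hwz : Commute w D.z := hc.inv_left.mul_left hz
    have hwu : Commute w D.u := ((D.ru.pow_left _).mul_left ((Commute.refl _).pow_left _)).inv_left.mul_left hu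
    have hwp : D.p w = swap 6 7 * swap 8 (Fin.last _) := by
      rw [hw, h.mul hc.inv_left hz, h.inv hc, h.mul (D.rz.pow_left _) (D.uz.pow_left _),
        h.pow D.rz, h.pow D.uz, D.pr, D.pu, e3, inv_mul_cancel_left]
    have hww : w * w = D.z := h.two hwz (by subst hm1; decide) hwp
    have huw : D.u * w * (D.u * w) = 1 := by
      refine quad h (a := 0) (b := 3) (c := 1) (d := 4) (e := 2) (f := 5) (k := 8)
        (l := Fin.last _) (D.uz.mul_left hwz) (by subst hm1; decide) ?_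
      rw [h.mul D.uz hwz, D.pu, hwp]
      subst hm1; decide
    have h2 : D.u * w * (D.u * w) = D.u * D.u * (w * w) := by
      calc D.u * w * (D.u * w) = D.u * (w * D.u) * w := by group
        _ = D.u * (D.u * w) * w := by rw [hwu.eq]
        _ = _ := by group
    rw [h2, D.uu, hww, one_mul] at huw
    exact D.z_ne_one huw

/-- elements of `C(⟨z, u⟩)` commuting with `r` and of order a power of three are powers of `r` -/
theorem eq_pow_r {y : G} (hz : Commute y D.z) (hu : Commute y D.u) (hr : Commute y D.r)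
    (ho : Odd (orderOf y)) : ∃ i < 3, y = D.r ^ i := by
  obtain ⟨i, hi, j, hj, k, hk, e⟩ := commute_zur D hz hu hr
  refine ⟨i, hi, ?_⟩
  have hv : D.u ^ j * D.z ^ k = (D.r ^ i)⁻¹ * y := by rw [e]; group
  have hvv : D.u ^ j * D.z ^ k * (D.u ^ j * D.z ^ k) = 1 := by
    calc D.u ^ j * D.z ^ k * (D.u ^ j * D.z ^ k)
        = D.u ^ j * (D.z ^ k * D.u ^ j) * D.z ^ k := by group
      _ = D.u ^ j * (D.u ^ j * D.z ^ k) * D.z ^ k := by rw [(D.uz.pow_pow j k).eq]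
      _ = (D.u * D.u) ^ j * (D.z * D.z) ^ k := by
        rw [(Commute.refl D.u).mul_pow, (Commute.refl D.z).mul_pow]; group
      _ = 1 := by rw [D.uu, D.zz, one_pow, one_pow, one_mul]
  have h1 : D.u ^ j * D.z ^ k = 1 := by
    refine Gen.eq_one_of_odd ?_ hvv
    rw [hv]
    have hc : Commute ((D.r ^ i)⁻¹) y := (hr.symm.pow_left i).inv_left
    have h3 : Odd (orderOf ((D.r ^ i)⁻¹)) := by
      refine Odd.of_dvd_nat (n := 3) (by decide) ?_
      refine orderOf_dvd_of_pow_eq_one ?_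
      rw [inv_pow, ← pow_mul, mul_comm, pow_mul, D.r3, one_pow, inv_one]
    refine Odd.of_dvd_nat (h3.mul ho) ?_
    exact hc.orderOf_mul_dvd_mul_orderOf
  rw [e, mul_assoc, h1, mul_one]

/-- the centraliser of `⟨z, u⟩` -/
def Cd : Subgroup G := centralizer {D.z, D.u}

theorem mem_Cd {y : G} : y ∈ Cd D ↔ Commute y D.z ∧ Commute y D.u := by
  rw [Cd, mem_centralizer_iff]
  constructor
  · intro h
    exact ⟨(h D.z (by simp)).symm, (h D.u (by simp)).symm⟩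
  · rintro ⟨h1, h2⟩ t (rfl | rfl)
    · exact h1.eq.symm
    · exact h2.eq.symm

theorem not_nine_dvd [Finite G] : ¬ 9 ∣ Nat.card (Cd D) := by
  have hf3 : Fact (Nat.Prime 3) := ⟨by norm_num⟩
  intro h9
  have hr : D.r ∈ Cd D := (mem_Cd D).2 ⟨D.rz, D.ru⟩
  set r' : Cd D := ⟨D.r, hr⟩ with hr'
  have hor : orderOf D.r = 3 := orderOf_eq_prime D.r3 D.r_ne_one
  have hor' : orderOf r' = 3 := by rw [hr', orderOf_mk]; exact hor
  have hcz : Nat.card (zpowers r') = 3 ^ 1 := by rw [Nat.card_zpowers, hor', pow_one]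
  obtain ⟨K, hK, hrK⟩ := Sylow.exists_subgroup_card_pow_succ (p := 3) (n := 1)
    (by norm_num; exact h9) hcz
  have hcomm := IsPGroup.isMulCommutative_of_card_eq_prime_sq (p := 3) (G := K) hK
  have key : K ≤ zpowers r' := by
    intro t ht
    have hrk : r' ∈ K := hrK (mem_zpowers r')
    have h1 : (⟨t, ht⟩ : K) * ⟨r', hrk⟩ = ⟨r', hrk⟩ * ⟨t, ht⟩ := hcomm.is_comm.comm _ _
    have h2 : (t : G) * D.r = D.r * (t : G) := congrArg (fun x : K => ((x : Cd D) : G)) h1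
    have h3 : orderOf (⟨t, ht⟩ : K) ∣ 9 := by
      have := orderOf_dvd_natCard (⟨t, ht⟩ : K)
      rw [hK] at this; exact this
    have h4 : orderOf (t : G) ∣ 9 := by
      rw [orderOf_mk] at h3
      rwa [orderOf_coe]
    obtain ⟨i, -, hi⟩ := eq_pow_r D ((mem_Cd D).1 t.2).1 ((mem_Cd D).1 t.2).2 h2
      (Odd.of_dvd_nat (by decide) h4)
    have h5 : t = r' ^ i := Subtype.ext hi
    rw [h5]
    exact pow_mem (mem_zpowers _) i
  have h6 := Subgroup.card_le_of_le key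
  rw [hK, hcz] at h6
  norm_num at h6

/-- two elements of order three of a subgroup whose order is not divisible by nine -/
theorem conj_of_not_nine [Finite G] {N : Subgroup G} (h9 : ¬ 9 ∣ Nat.card N) {s t : G} (hs : s ∈ N)
    (ht : t ∈ N) (hs3 : orderOf s = 3) (ht3 : orderOf t = 3) :
    ∃ n ∈ N, n * s * n⁻¹ = t ∨ n * s * n⁻¹ = t⁻¹ := by
  have hf3 : Fact (Nat.Prime 3) := ⟨by norm_num⟩
  have key : ∀ w : G, w ∈ N → orderOf w = 3 → ∃ P : Sylow 3 N, ∀ y : N, y ∈ P ↔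
      (y : G) ∈ zpowers w := by
    intro w hw hw3
    have hd : 3 ∣ Nat.card N := by
      have := orderOf_dvd_natCard (⟨w, hw⟩ : N)
      rwa [orderOf_mk, hw3] at this
    have hf : (Nat.card N).factorization 3 = 1 := by
      have h1 : 1 ≤ (Nat.card N).factorization 3 :=
        (Nat.Prime.dvd_iff_one_le_factorization (by norm_num) Nat.card_pos.ne').1 hd
      have h2 : ¬ 2 ≤ (Nat.card N).factorization 3 := by
        intro h3
        exact h9 (by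
          have := (Nat.Prime.pow_dvd_iff_le_factorization (p := 3) (by norm_num)
            (Nat.card_pos (α := N)).ne').2 h3
          simpa using this)
      omega
    have hc : Nat.card (zpowers (⟨w, hw⟩ : N)) = 3 ^ (Nat.card N).factorization 3 := by
      rw [hf, Nat.card_zpowers, orderOf_mk, hw3, pow_one]
    refine ⟨Sylow.ofCard _ hc, ?_⟩
    intro y
    change y ∈ zpowers (⟨w, hw⟩ : N) ↔ _
    rw [mem_zpowers_iff, mem_zpowers_iff]
    constructor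
    · rintro ⟨k, rfl⟩; exact ⟨k, by simp⟩
    · rintro ⟨k, hk⟩; exact ⟨k, Subtype.ext (by simpa using hk)⟩
  obtain ⟨P, hP⟩ := key s hs hs3
  obtain ⟨Q, hQ⟩ := key t ht ht3
  obtain ⟨n, hn⟩ := MulAction.exists_smul_eq N P Q
  have h1 : n * (⟨s, hs⟩ : N) * n⁻¹ ∈ Q := by
    rw [← hn]
    change n * (⟨s, hs⟩ : N) * n⁻¹ ∈ ((n • P : Sylow 3 N) : Subgroup N)
    rw [Sylow.coe_subgroup_smul, Subgroup.mem_pointwise_smul_iff_inv_smul_mem]
    have : (MulAut.conj n)⁻¹ • (n * (⟨s, hs⟩ : N) * n⁻¹) = ⟨s, hs⟩ := by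
      rw [← map_inv, MulAut.smul_def, MulAut.conj_apply]; group
    rw [this]
    exact (hP _).2 (mem_zpowers s)
  have h2 := (hQ _).1 h1
  refine ⟨n, n.2, ?_⟩
  have h3 : (n : G) * s * (n : G)⁻¹ ∈ zpowers t := h2
  obtain ⟨k, hk⟩ := (mem_powers_iff_mem_zpowers (x := t)).2 h3
  have ht' : t ^ 3 = 1 := by rw [← ht3]; exact pow_orderOf_eq_one t
  have hk' : t ^ (k % 3) = (n : G) * s * (n : G)⁻¹ := by rw [pow_mod ht']; exact hk
  have hk3 : k % 3 < 3 := Nat.mod_lt _ (by omega)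
  interval_cases (k % 3)
  · exfalso
    rw [pow_zero] at hk'
    have h4 : s = 1 := by
      calc s = (n : G)⁻¹ * ((n : G) * s * (n : G)⁻¹) * n := by group
        _ = 1 := by rw [← hk']; group
    rw [h4, orderOf_one] at hs3
    exact absurd hs3 (by decide)
  · left; rw [← hk', pow_one]
  · right
    rw [← hk', eq_inv_iff_mul_eq_one, ← pow_succ, ht']

/-- the element `x` -/
theorem exists_x [Finite G] (hu : ∃ y, y * D.z * y⁻¹ = D.u) :
    ∃ x, x * D.z * x⁻¹ = D.u ∧ x * D.u * x⁻¹ = D.u * D.z ∧ Commute x D.r ∧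
      ∃ k : ℕ, x ^ 3 ^ k = 1 := by
  obtain ⟨y, hy⟩ := hu
  have hor : orderOf D.r = 3 := by
    have hf3 : Fact (Nat.Prime 3) := ⟨by norm_num⟩
    exact orderOf_eq_prime D.r3 D.r_ne_one
  -- an element of the centraliser of `u` mapping `z` to `z u`
  obtain ⟨g1, hg1, e1⟩ : ∃ g1, Commute g1 D.u ∧ g1 * D.z * g1⁻¹ = D.z * D.u := by
    have h := exists_conj_mul_z D.hm (D.conj y).cv (t := D.z) (by
      change Commute D.z (y * D.z * y⁻¹)
      rw [hy]; exact D.uz.symm) D.zz D.z_ne_one (by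
      change D.z ≠ y * D.z * y⁻¹
      rw [hy]; exact D.u_ne_z.symm)
    obtain ⟨g1, h1, h2⟩ := h
    change Commute g1 (y * D.z * y⁻¹) at h1
    change g1 * D.z * g1⁻¹ = D.z * (y * D.z * y⁻¹) at h2
    rw [hy] at h1 h2
    exact ⟨g1, h1, h2⟩
  -- the product with `g`
  set y0 := D.g * g1 with hy0
  have a1 : y0 * D.z * y0⁻¹ = D.u := by
    calc y0 * D.z * y0⁻¹ = D.g * (g1 * D.z * g1⁻¹) * D.g⁻¹ := by rw [hy0]; group
      _ = (D.g * D.z * D.g⁻¹) * (D.g * D.u * D.g⁻¹) := by rw [e1]; group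
      _ = D.z * (D.u * D.z) := by rw [D.g_u, D.gz.eq, mul_inv_cancel_right]
      _ = D.u := by rw [D.uz.eq, ← mul_assoc, D.zz, one_mul]
  have a2 : y0 * D.u * y0⁻¹ = D.u * D.z := by
    calc y0 * D.u * y0⁻¹ = D.g * (g1 * D.u * g1⁻¹) * D.g⁻¹ := by rw [hy0]; group
      _ = D.u * D.z := by rw [hg1.eq, mul_inv_cancel_right, D.g_u]
  have a3 : y0 * (D.u * D.z) * y0⁻¹ = D.z := by
    calc y0 * (D.u * D.z) * y0⁻¹ = (y0 * D.u * y0⁻¹) * (y0 * D.z * y0⁻¹) := by group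
      _ = D.u * D.z * D.u := by rw [a1, a2]
      _ = D.z := by rw [D.uz.eq, mul_assoc, D.uu, mul_one]
  clear_value y0
  -- `y0` normalises the centraliser
  have hn : y0 * D.r * y0⁻¹ ∈ Cd D := by
    rw [mem_Cd]
    constructor
    · have h1 : Commute D.r (D.u * D.z) := D.ru.mul_right D.rz
      have h2 : Commute (y0 * D.r * y0⁻¹) (y0 * (D.u * D.z) * y0⁻¹) := SemiconjBy.conj_iff.2 h1
      rwa [a3] at h2
    · have h2 : Commute (y0 * D.r * y0⁻¹) (y0 * D.z * y0⁻¹) := SemiconjBy.conj_iff.2 D.rz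
      rwa [a1] at h2
  have ho' : orderOf (y0 * D.r * y0⁻¹) = 3 := by
    rw [← hor]
    exact (SemiconjBy.orderOf_eq y0 (by
      change y0 * D.r = y0 * D.r * y0⁻¹ * y0
      rw [inv_mul_cancel_right])).symm
  obtain ⟨n, hnD, hn1⟩ := conj_of_not_nine (not_nine_dvd D) hn ((mem_Cd D).2 ⟨D.rz, D.ru⟩)
    ho' hor
  obtain ⟨nz, nu⟩ := (mem_Cd D).1 hnD
  set y1 := n * y0 with hy1
  have b1 : y1 * D.z * y1⁻¹ = D.u := by
    calc y1 * D.z * y1⁻¹ = n * (y0 * D.z * y0⁻¹) * n⁻¹ := by rw [hy1]; group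
      _ = D.u := by rw [a1, nu.eq, mul_inv_cancel_right]
  have b2 : y1 * D.u * y1⁻¹ = D.u * D.z := by
    calc y1 * D.u * y1⁻¹ = n * (y0 * D.u * y0⁻¹) * n⁻¹ := by rw [hy1]; group
      _ = D.u * D.z := by rw [a2, (nu.mul_right nz).eq, mul_inv_cancel_right]
  have b3 : y1 * (D.u * D.z) * y1⁻¹ = D.z := by
    calc y1 * (D.u * D.z) * y1⁻¹ = n * (y0 * (D.u * D.z) * y0⁻¹) * n⁻¹ := by rw [hy1]; group
      _ = D.z := by rw [a3, nz.eq, mul_inv_cancel_right]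
  have b4 : y1 * D.r * y1⁻¹ = D.r ∨ y1 * D.r * y1⁻¹ = D.r⁻¹ := by
    have : y1 * D.r * y1⁻¹ = n * (y0 * D.r * y0⁻¹) * n⁻¹ := by rw [hy1]; group
    rw [this]; exact hn1
  clear_value y1
  have b5 : y1 ^ 2 * D.r * (y1 ^ 2)⁻¹ = D.r := by
    have e : y1 ^ 2 * D.r * (y1 ^ 2)⁻¹ = y1 * (y1 * D.r * y1⁻¹) * y1⁻¹ := by
      rw [pow_two]; group
    rcases b4 with h1 | h1
    · rw [e, h1, h1]
    · have h2 : y1 * D.r⁻¹ * y1⁻¹ = (y1 * D.r * y1⁻¹)⁻¹ := by group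
      rw [e, h1, h2, h1, inv_inv]
  have b5' : Commute (y1 ^ 2) D.r := mul_inv_eq_iff_eq_mul.1 b5
  -- the fourth power
  set y2 := y1 ^ 4 with hy2
  have c1 : y2 * D.z * y2⁻¹ = D.u := by
    have e : y2 * D.z * y2⁻¹ = y1 * (y1 * (y1 * (y1 * D.z * y1⁻¹) * y1⁻¹) * y1⁻¹) * y1⁻¹ := by
      rw [hy2]; simp only [pow_succ, pow_zero, one_mul, mul_inv_rev, mul_assoc]
    rw [e, b1, b2, b3, b1]
  have c2 : y2 * D.u * y2⁻¹ = D.u * D.z := by
    have e : y2 * D.u * y2⁻¹ = y1 * (y1 * (y1 * (y1 * D.u * y1⁻¹) * y1⁻¹) * y1⁻¹) * y1⁻¹ := by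
      rw [hy2]; simp only [pow_succ, pow_zero, one_mul, mul_inv_rev, mul_assoc]
    rw [e, b2, b3, b1, b2]
  have c3 : y2 * (D.u * D.z) * y2⁻¹ = D.z := by
    have e : y2 * (D.u * D.z) * y2⁻¹ =
        y1 * (y1 * (y1 * (y1 * (D.u * D.z) * y1⁻¹) * y1⁻¹) * y1⁻¹) * y1⁻¹ := by
      rw [hy2]; simp only [pow_succ, pow_zero, one_mul, mul_inv_rev, mul_assoc]
    rw [e, b3, b1, b2, b3]
  have c4 : Commute y2 D.r := by
    have : y2 = (y1 ^ 2) ^ 2 := by rw [hy2, ← pow_mul]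
    rw [this]; exact b5'.pow_left 2
  clear_value y2
  have d1 : Commute (y2 ^ 3) D.z := by
    refine mul_inv_eq_iff_eq_mul.1 ?_
    have e : y2 ^ 3 * D.z * (y2 ^ 3)⁻¹ = y2 * (y2 * (y2 * D.z * y2⁻¹) * y2⁻¹) * y2⁻¹ := by
      simp only [pow_succ, pow_zero, one_mul, mul_inv_rev, mul_assoc]
    rw [e, c1, c2, c3]
  have d2 : Commute (y2 ^ 3) D.u := by
    refine mul_inv_eq_iff_eq_mul.1 ?_
    have e : y2 ^ 3 * D.u * (y2 ^ 3)⁻¹ = y2 * (y2 * (y2 * D.u * y2⁻¹) * y2⁻¹) * y2⁻¹ := by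
      simp only [pow_succ, pow_zero, one_mul, mul_inv_rev, mul_assoc]
    rw [e, c2, c3, c1]
  -- the `3`-part
  obtain ⟨k, s, hs3, hks⟩ : ∃ k s : ℕ, ¬ 3 ∣ s ∧ orderOf y2 = 3 ^ k * s :=
    Nat.exists_eq_pow_mul_and_not_dvd (orderOf_pos y2).ne' 3 (by decide)
  have hss : (s * s) % 3 = 1 := by
    have h1 : s % 3 = 1 ∨ s % 3 = 2 := by omega
    rcases h1 with h1 | h1 <;> simp [Nat.mul_mod, h1]
  obtain ⟨f, hf⟩ : ∃ f, s * s = 3 * f + 1 := ⟨s * s / 3, by omega⟩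
  have hpow : y2 ^ (s * s) = (y2 ^ 3) ^ f * y2 := by rw [hf, pow_succ, pow_mul]
  refine ⟨y2 ^ (s * s), ?_, ?_, c4.pow_left _, k, ?_⟩
  · rw [hpow]
    calc (y2 ^ 3) ^ f * y2 * D.z * ((y2 ^ 3) ^ f * y2)⁻¹
        = (y2 ^ 3) ^ f * (y2 * D.z * y2⁻¹) * ((y2 ^ 3) ^ f)⁻¹ := by group
      _ = D.u := by rw [c1, (d2.pow_left f).eq, mul_inv_cancel_right]
  · rw [hpow]
    calc (y2 ^ 3) ^ f * y2 * D.u * ((y2 ^ 3) ^ f * y2)⁻¹
        = (y2 ^ 3) ^ f * (y2 * D.u * y2⁻¹) * ((y2 ^ 3) ^ f)⁻¹ := by group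
      _ = D.u * D.z := by
        rw [c2, ((d2.pow_left f).mul_right (d1.pow_left f)).eq, mul_inv_cancel_right]
  · rw [← pow_mul]
    have : s * s * 3 ^ k = orderOf y2 * s := by rw [hks]; ring
    rw [this, pow_mul, pow_orderOf_eq_one, one_pow]

/-- the conjugate of `x` under `g` -/
theorem g_x {x : G} (x1 : x * D.z * x⁻¹ = D.u) (x2 : x * D.u * x⁻¹ = D.u * D.z)
    (xr : Commute x D.r) : ∃ i < 3, ∃ j < 2, ∃ k < 2,
      D.g * x * D.g⁻¹ = D.r ^ i * D.u ^ j * D.z ^ k * x⁻¹ := by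
  have x3 : x * (D.u * D.z) * x⁻¹ = D.z := by
    calc x * (D.u * D.z) * x⁻¹ = (x * D.u * x⁻¹) * (x * D.z * x⁻¹) := by group
      _ = D.z := by rw [x1, x2, D.uz.eq, mul_assoc, D.uu, mul_one]
  have g2 : D.g⁻¹ * D.u * D.g = D.u * D.z := by
    have h1 : D.g * (D.u * D.z) * D.g⁻¹ = D.u := by
      calc D.g * (D.u * D.z) * D.g⁻¹ = (D.g * D.u * D.g⁻¹) * (D.g * D.z * D.g⁻¹) := by group
        _ = D.u := by rw [D.g_u, D.gz.eq, mul_inv_cancel_right, mul_assoc, D.zz, mul_one]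
    calc D.g⁻¹ * D.u * D.g = D.g⁻¹ * (D.g * (D.u * D.z) * D.g⁻¹) * D.g := by rw [h1]
      _ = D.u * D.z := by group
  have g3 : D.g * D.z * D.g⁻¹ = D.z := by rw [D.gz.eq, mul_inv_cancel_right]
  have g4 : D.g⁻¹ * (D.u * D.z) * D.g = D.u := by rw [← D.g_u]; group
  set w := D.g * x * D.g⁻¹ * x with hw
  have w1 : Commute w D.z := by
    refine mul_inv_eq_iff_eq_mul.1 ?_
    calc w * D.z * w⁻¹ = D.g * (x * (D.g⁻¹ * (x * D.z * x⁻¹) * D.g) * x⁻¹) * D.g⁻¹ := by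
          rw [hw]; group
      _ = D.z := by rw [x1, g2, x3, g3]
  have w2 : Commute w D.u := by
    refine mul_inv_eq_iff_eq_mul.1 ?_
    calc w * D.u * w⁻¹ = D.g * (x * (D.g⁻¹ * (x * D.u * x⁻¹) * D.g) * x⁻¹) * D.g⁻¹ := by
          rw [hw]; group
      _ = D.g * (D.u * D.z) * D.g⁻¹ := by rw [x2, g4, x2]
      _ = D.u := by
        calc D.g * (D.u * D.z) * D.g⁻¹ = (D.g * D.u * D.g⁻¹) * (D.g * D.z * D.g⁻¹) := by group
          _ = D.u := by rw [D.g_u, g3, mul_assoc, D.zz, mul_one]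
  have w3 : Commute w D.r := by
    have h1 : Commute (D.g * x * D.g⁻¹) D.r := by
      have h2 : Commute (D.g * x * D.g⁻¹) (D.g * D.r * D.g⁻¹) := SemiconjBy.conj_iff.2 xr
      rw [D.g_r] at h2
      exact Commute.inv_right_iff.1 h2
    exact h1.mul_left xr
  obtain ⟨i, hi, j, hj, k, hk, e⟩ := commute_zur D w1 w2 w3
  refine ⟨i, hi, j, hj, k, hk, ?_⟩
  rw [← e, hw]; group

end Cfsg.Agent.SporRec.TwoNine.Vx
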